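import Cfsg.Agent.RC.Df2

/-! RC/H1 (S3860): involutory automorphisms fixing a real element of odd order. -/

set_option autoImplicit false
set_option linter.unusedSectionVars false
set_option linter.unusedVariables false

namespace Cfsg.Agent.RC

open Subgroup

universe u

variable {G : Type u} [Group G] [Finite G]

namespace H1

theorem fixinv {A : Type*} [Group A] [Finite A] (N : Subgroup A) {β u : A} (hβ : ∃ n : ℕ, β ^ 2 ^ n = 1)
    (hn : ∀ a ∈ N, β * a * β⁻¹ ∈ N) (hu : u ∈ N) (h2 : orderOf u = 2) :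
    ∃ τ ∈ N, orderOf τ = 2 ∧ β * τ = τ * β := by
  haveI : Fact (Nat.Prime 2) := ⟨Nat.prime_two⟩
  have hz : zpowers β ≤ normalizer (N : Set A) := zpowers_le.2 (mem_normalizer_fintype (S := (N : Set A)) hn)
  letI : MulAction (zpowers β) N := MulAction.compHom N (N.normalizerMonoidHom.comp (inclusion hz))
  obtain ⟨n, hβ⟩ := hβ
  have hp : IsPGroup 2 (zpowers β) := fun ⟨g, i, hi⟩ => ⟨n, Subtype.ext (by
    change g ^ 2 ^ n = 1
    rw [← hi]
    change (β ^ i) ^ 2 ^ n = 1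
    rw [← zpow_natCast, ← zpow_mul, mul_comm, zpow_mul, zpow_natCast, hβ, one_zpow])⟩
  have h1 := hp.card_modEq_card_fixedPoints N
  have e : MulAction.fixedPoints (zpowers β) N = ((centralizer ({β} : Set A)).subgroupOf N : Subgroup N) := by
    ext x
    rw [SetLike.mem_coe, mem_subgroupOf, mem_centralizer_singleton_iff, MulAction.mem_fixedPoints]
    refine ⟨fun h => ?_, fun h g => Subtype.ext ?_⟩
    · have : β * x * β⁻¹ = x := congrArg Subtype.val (h ⟨β, mem_zpowers β⟩)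
      exact (mul_inv_eq_iff_eq_mul.1 this).symm
    · obtain ⟨g, i, rfl⟩ := g
      change β ^ i * x * (β ^ i)⁻¹ = x
      rw [((show Commute (x : A) β from h).zpow_right i).symm.eq, mul_inv_cancel_right]
  have d : 2 ∣ Nat.card N := by rw [← h2, ← orderOf_mk _ hu]; exact orderOf_dvd_natCard _
  rw [e] at h1
  obtain ⟨x, hx⟩ := exists_prime_orderOf_dvd_card' (G := ((centralizer ({β} : Set A)).subgroupOf N : Subgroup N)) 2
    ((h1.dvd_iff dvd_rfl).1 d)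
  exact ⟨x.1.1, x.1.2, by rw [orderOf_coe, orderOf_coe, hx], (mem_centralizer_singleton_iff.1 (mem_subgroupOf.1 x.2)).symm⟩

theorem ex_two {Γ : Subgroup (MulAut G)} {y : G} {α : MulAut G} (hα : α ∈ Γ) (hi : α y = y⁻¹) :
    ∃ β ∈ Γ, Two β ∧ β y = y⁻¹ := by
  obtain ⟨k, m, ⟨j, rfl⟩, e⟩ := Nat.exists_eq_two_pow_mul_odd (orderOf_pos α).ne'
  refine ⟨α ^ (2 * j + 1), pow_mem hα _, ⟨k, by rw [← pow_mul, mul_comm, ← e, pow_orderOf_eq_one]⟩, ?_⟩
  have h2 : α ^ 2 ∈ MulAction.stabilizer (MulAut G) y := by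
    change (α ^ 2) y = y
    rw [sq, MulAut.mul_apply, hi, map_inv, hi, inv_inv]
  have h3 : ((α ^ 2) ^ j) y = y := pow_mem h2 j
  rw [pow_succ', pow_mul, MulAut.mul_apply, h3, hi]

theorem stab {y : G} {β γ : MulAut G} (hi : β y = y⁻¹) (h : γ ∈ MulAction.stabilizer (MulAut G) y) :
    β * γ * β⁻¹ ∈ MulAction.stabilizer (MulAut G) y := by
  have h0 : γ y = y := h
  have h1 : β y⁻¹ = y := by rw [map_inv, hi, inv_inv]
  have h2 : β⁻¹ y = y⁻¹ := by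
    nth_rewrite 1 [← h1]
    exact β.symm_apply_apply _
  change (β * γ * β⁻¹) y = y
  rw [MulAut.mul_apply, MulAut.mul_apply, h2, map_inv, h0, h1]

theorem cinj (hs : IsSimpleGroup G) (hn : ¬ IsMulCommutative G) : Function.Injective (MulAut.conj : G →* MulAut G) := by
  rcases hs.eq_bot_or_eq_top_of_normal (MulAut.conj : G →* MulAut G).ker inferInstance with h | h
  · exact (MonoidHom.ker_eq_bot_iff _).1 h
  · refine (hn ⟨⟨fun a b => ?_⟩⟩).elim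
    have : MulAut.conj a = 1 := MonoidHom.mem_ker.1 (h ▸ mem_top a)
    have e : a * b * a⁻¹ = b := by simpa using congrArg (fun f : MulAut G => f b) this
    exact mul_inv_eq_iff_eq_mul.1 e

end H1

open H1

theorem h1 {Γ : Subgroup (MulAut G)} (H : Hy Γ) (y : G) (hy : y ≠ 1) (ho : Odd (orderOf y)) (α : MulAut G)
    (hα : α ∈ Γ) (hi : α y = y⁻¹) : ∃ τ ∈ Γ, orderOf τ = 2 ∧ τ y = y ∧ InO y (Fx τ) ∧
      ∃ β ∈ Γ, Two β ∧ β * τ = τ * β ∧ β y = y⁻¹ := by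
  obtain ⟨β, hβ, t2, bi⟩ := ex_two hα hi
  obtain ⟨u, uΓ, u2, uy⟩ := H.b1 y hy ho α hα hi
  obtain ⟨τ, hτ, o2, c⟩ := fixinv (Γ ⊓ MulAction.stabilizer (MulAut G) y) t2
    (fun a ha => ⟨Γ.mul_mem (Γ.mul_mem hβ ha.1) (Γ.inv_mem hβ), stab bi ha.2⟩) (u := u) ⟨uΓ, uy⟩ u2
  exact ⟨τ, hτ.1, o2, hτ.2, H.b2 τ hτ.1 o2 y ho hτ.2 β hβ c bi, β, hβ, t2, c, bi⟩

theorem h1t {Γ : Subgroup (MulAut G)} (H : Hy Γ) (y : G) (hy : y ≠ 1) (ho : Odd (orderOf y)) (α : MulAut G)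
    (hα : α ∈ Γ) (hi : α y = y⁻¹) (u : G) (hu : orderOf u = 2) (hc : u * y = y * u) :
    ∃ t : G, orderOf t = 2 ∧ InO y (cen t) := by
  obtain ⟨β, hβ, t2, bi⟩ := ex_two hα hi
  have ci := cinj H.simp H.nab
  obtain ⟨τ, ⟨⟨t, rfl⟩, hτ⟩, o2, c⟩ := fixinv ((MulAut.conj : G →* MulAut G).range ⊓ MulAction.stabilizer (MulAut G) y) t2
    (fun a ha => ⟨by
      obtain ⟨g, rfl⟩ := ha.1
      exact ⟨β g, by ext x; simp⟩, stab bi ha.2⟩) (u := MulAut.conj u)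
    ⟨⟨u, rfl⟩, show u * y * u⁻¹ = y by rw [hc, mul_inv_cancel_right]⟩ (by rw [orderOf_injective _ ci, hu])
  exact ⟨t, by rw [← o2, orderOf_injective _ ci], Fx_conj t ▸ H.b2 _ (H.inn t) o2 y ho hτ β hβ c bi⟩

end Cfsg.Agent.RC
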