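import Cfsg.Agent.RC.Df2
import Cfsg.Agent.RC.H1
import Cfsg.Agent.H1.AltAut

/-! RC/A7 (S3860): the alternating group of degree seven is excluded. -/

set_option autoImplicit false

namespace Cfsg.Agent.RC

open Subgroup

universe u

namespace A7

open Equiv

/-- the cycle `(0 1 2 3 4)` -/
def y0 : Perm (Fin 7) := swap 0 1 * swap 1 2 * swap 2 3 * swap 3 4
/-- the cycle `(0 1 2)` -/
def g0 : Perm (Fin 7) := swap 0 1 * swap 1 2
/-- the involution `(1 4)(2 3)` -/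
def s0 : Perm (Fin 7) := swap 1 4 * swap 2 3

theorem y0_mem : y0 ∈ alternatingGroup (Fin 7) := by
  rw [Perm.mem_alternatingGroup]; decide +kernel
theorem g0_mem : g0 ∈ alternatingGroup (Fin 7) := by
  rw [Perm.mem_alternatingGroup]; decide +kernel
theorem s0_mem : s0 ∈ alternatingGroup (Fin 7) := by
  rw [Perm.mem_alternatingGroup]; decide +kernel

theorem y0_five : y0 ^ 5 = 1 := by decide +kernel
theorem y0_ne : y0 ≠ 1 := by decide +kernel
theorem s0_inv : s0 * y0 * s0⁻¹ = y0⁻¹ := by decide +kernel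
theorem prod_sq : (y0 * (g0 * y0 * g0⁻¹) ^ 3) ^ 2 = 1 := by decide +kernel
theorem prod_ne : y0 * (g0 * y0 * g0⁻¹) ^ 3 ≠ 1 := by decide +kernel

theorem key : ∀ a : Fin 7, a ≠ y0 a → (a = 1 → y0 a = 0) → (a = 2 → y0 (y0 a) = 0) →
    (a = 3 → y0 (y0 (y0 a)) = 0) → (a = 4 → y0 (y0 (y0 (y0 a))) = 0) → a = 0 := by decide +kernel

theorem g0_fix : ∀ a : Fin 7, a ≠ 0 → a ≠ 1 → a ≠ 2 → g0 a = a := by decide +kernel

theorem comm {σ : Perm (Fin 7)} (h : σ * y0 * σ⁻¹ = y0) (h2 : σ * σ = 1) : σ * g0 * σ⁻¹ = g0 := by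
  have hc : ∀ x, σ (y0 x) = y0 (σ x) := fun x => by
    have := congrArg (fun f : Perm (Fin 7) => f (σ x)) h
    simpa using this
  have e1 : σ 1 = y0 (σ 0) := by rw [← hc]; rfl
  have e2 : σ 2 = y0 (σ 1) := by rw [← hc]; rfl
  have e3 : σ 3 = y0 (σ 2) := by rw [← hc]; rfl
  have e4 : σ 4 = y0 (σ 3) := by rw [← hc]; rfl
  have h0 : σ (σ 0) = 0 := by
    have := congrArg (fun f : Perm (Fin 7) => f 0) h2
    simpa using this
  have k0 : σ 0 = 0 := by
    refine key (σ 0) (fun hh => ?_) (fun hh => ?_) (fun hh => ?_) (fun hh => ?_) (fun hh => ?_)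
    · rw [← e1] at hh
      exact absurd (σ.injective hh) (by decide)
    · rw [← e1, ← hh, h0]
    · rw [← e1, ← e2, ← hh, h0]
    · rw [← e1, ← e2, ← e3, ← hh, h0]
    · rw [← e1, ← e2, ← e3, ← e4, ← hh, h0]
  have k1 : σ 1 = 1 := by rw [e1, k0]; rfl
  have k2 : σ 2 = 2 := by rw [e2, k1]; rfl
  rw [mul_inv_eq_iff_eq_mul]
  ext x
  simp only [Perm.mul_apply]
  congr 1
  by_cases x0 : x = 0
  · subst x0; rw [k0]; exact k1
  by_cases x1 : x = 1
  · subst x1; rw [k1]; exact k2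
  by_cases x2 : x = 2
  · subst x2; rw [k2]; exact k0
  rw [g0_fix x x0 x1 x2, g0_fix (σ x) (fun hh => x0 (σ.injective (hh.trans k0.symm)))
    (fun hh => x1 (σ.injective (hh.trans k1.symm))) (fun hh => x2 (σ.injective (hh.trans k2.symm)))]

end A7

variable {G : Type u} [Group G] [Finite G]

theorem a7 {Γ : Subgroup (MulAut G)} (H : Hy Γ) (e : G ≃* alternatingGroup (Fin 7)) : False := by
  let y1 : alternatingGroup (Fin 7) := ⟨A7.y0, A7.y0_mem⟩
  let g1 : alternatingGroup (Fin 7) := ⟨A7.g0, A7.g0_mem⟩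
  let s1 : alternatingGroup (Fin 7) := ⟨A7.s0, A7.s0_mem⟩
  have hy1 : e.symm y1 ≠ 1 := fun h => A7.y0_ne (by
    rw [← map_one e.symm] at h
    exact congrArg Subtype.val (e.symm.injective h))
  have hy5 : (e.symm y1) ^ 5 = 1 := by
    rw [← map_pow, show y1 ^ 5 = 1 from Subtype.ext A7.y0_five, map_one]
  have hodd : Odd (orderOf (e.symm y1)) := Odd.of_dvd_nat (by decide) (orderOf_dvd_of_pow_eq_one hy5)
  have hinv : MulAut.conj (e.symm s1) (e.symm y1) = (e.symm y1)⁻¹ := by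
    rw [MulAut.conj_apply, ← map_inv, ← map_mul, ← map_mul, ← map_inv,
      show s1 * y1 * s1⁻¹ = y1⁻¹ from Subtype.ext A7.s0_inv]
  obtain ⟨τ, -, hτ, hτy, ⟨N, hN1, hN2, hN3, hN4⟩, -⟩ := h1 H _ hy1 hodd _ (H.inn _) hinv
  have hττ : τ * τ = 1 := by rw [← pow_two, ← hτ, pow_orderOf_eq_one]
  have hb := H1.AltAut.bijective (α := Fin 7) (by simp) (by simp)
  obtain ⟨σ, hσ⟩ := hb.2 (MulAut.congr e τ)
  have hσ2 : σ * σ = 1 := hb.1 (by rw [map_mul, hσ, ← map_mul, hττ, map_one, map_one])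
  have hact : ∀ x : alternatingGroup (Fin 7), ((e (τ (e.symm x)) : alternatingGroup (Fin 7)) : Equiv.Perm (Fin 7)) =
      σ * x * σ⁻¹ := fun x => by
    have := congrArg (fun φ : MulAut (alternatingGroup (Fin 7)) => ((φ x : alternatingGroup (Fin 7)) :
      Equiv.Perm (Fin 7))) hσ
    simpa using this.symm
  have hσy : σ * A7.y0 * σ⁻¹ = A7.y0 := by
    have := hact y1
    rw [hτy, e.apply_symm_apply] at this
    exact this.symm
  have hg : e.symm g1 ∈ Fx τ := by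
    rw [mem_Fx]
    apply e.injective
    rw [e.apply_symm_apply]
    exact Subtype.ext ((hact g1).trans (A7.comm hσy hσ2))
  have hm : e.symm g1 * e.symm y1 * (e.symm g1)⁻¹ ∈ N := (Subgroup.mem_normalizer_iff.1 (hN2 hg) _).1 hN4
  have hz : e.symm (y1 * (g1 * y1 * g1⁻¹) ^ 3) ∈ N := by
    rw [map_mul, map_pow, map_mul, map_mul, map_inv]
    exact mul_mem hN4 (pow_mem hm 3)
  have h2 : orderOf (e.symm (y1 * (g1 * y1 * g1⁻¹) ^ 3)) = 2 := by
    rw [MulEquiv.orderOf_eq]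
    rw [← Subgroup.orderOf_coe, Subgroup.coe_mul, Subgroup.coe_pow, Subgroup.coe_mul, Subgroup.coe_mul,
      Subgroup.coe_inv]
    exact orderOf_eq_prime A7.prod_sq A7.prod_ne
  have h3 := N.orderOf_dvd_natCard hz
  rw [h2] at h3
  exact (Nat.not_even_iff_odd.2 hN3) (even_iff_two_dvd.2 h3)

end Cfsg.Agent.RC
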