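import Cfsg.Agent.RC.Df2

/-! RC/Au1 (S3860): odd order automorphisms of 2-groups. -/

set_option autoImplicit false

namespace Cfsg.Agent.RC

open Subgroup

universe u

variable {G : Type u} [Group G] [Finite G]

theorem Au1.shift (hp : IsPGroup 2 G) (ρ : MulAut G) (ho : Odd (orderOf ρ)) {v w : G} (h : ρ v = v * w)
    (hw : ρ w = w) : w = 1 := by
  have h1 : ∀ n : ℕ, (ρ ^ n) v = v * w ^ n := fun n => by
    induction n with
    | zero => simp
    | succ n ih => rw [pow_succ', MulAut.mul_apply, ih, map_mul, map_pow, h, hw, pow_succ', mul_assoc]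
  have h2 := h1 (orderOf ρ)
  rw [pow_orderOf_eq_one, MulAut.one_apply, left_eq_mul] at h2
  obtain ⟨k, hk⟩ := hp w
  have hc : (2 ^ k).Coprime (orderOf ρ) := Nat.Coprime.pow_left _ (Nat.coprime_two_left.2 ho)
  have h3 : orderOf w ∣ Nat.gcd (2 ^ k) (orderOf ρ) :=
    Nat.dvd_gcd (orderOf_dvd_of_pow_eq_one hk) (orderOf_dvd_of_pow_eq_one h2)
  rw [hc] at h3
  exact orderOf_eq_one_iff.1 (Nat.dvd_one.1 h3)

theorem au_ab (hp : IsPGroup 2 G) (A : Subgroup G) (hc : ∀ a ∈ A, ∀ b ∈ A, a * b = b * a) (hr : Cfsg.PRankLE 2 2 G)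
    (t : G) (ht : orderOf t = 2) (htA : t ∈ A) (ρ : MulAut G) (ho : Odd (orderOf ρ)) (hf : ρ t = t)
    (hA : ∀ a ∈ A, ρ a ∈ A) : ∀ a ∈ A, ρ a = a := by
  let Ω : Subgroup G :=
    { carrier := {a | a ∈ A ∧ a * a = 1}
      one_mem' := ⟨one_mem _, one_mul 1⟩
      mul_mem' := fun {a b} ha hb => ⟨mul_mem ha.1 hb.1, by
        rw [mul_assoc, ← mul_assoc b, ← hc a ha.1 b hb.1, mul_assoc, hb.2, mul_one, ha.2]⟩
      inv_mem' := fun {a} ha => ⟨inv_mem ha.1, by rw [← mul_inv_rev, ha.2, inv_one]⟩ }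
  have hΩ : Nat.card Ω ≤ 2 ^ 2 :=
    hr Ω ⟨⟨fun a b => Subtype.ext (hc _ a.2.1 _ b.2.1)⟩⟩ fun a ha => (pow_two a).trans ha.2
  have t2 : t * t = 1 := by rw [← pow_two, ← ht, pow_orderOf_eq_one]
  have t1 : t ≠ 1 := fun e => by rw [e, orderOf_one] at ht; omega
  have hinv : ∀ u ∈ A, u * u = 1 → ρ u = u := fun u hu u2 => by
    by_contra hne
    have u1 : u ≠ 1 := fun e => hne (by rw [e, map_one])
    have ut : u ≠ t := fun e => hne (by rw [e, hf])
    have r1 : ρ u ≠ 1 := fun e => u1 (ρ.injective (by rw [e, map_one]))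
    have rt : ρ u ≠ t := fun e => ut (ρ.injective (by rw [e, hf]))
    have rut : ρ u ≠ u * t := fun e => t1 (Au1.shift hp ρ ho e hf)
    have q1 : u * t ≠ 1 := fun e => ut (mul_right_cancel (e.trans t2.symm))
    have q2 : u * t ≠ t := fun e => u1 (mul_eq_right.1 e)
    have q3 : u * t ≠ u := fun e => t1 (mul_eq_left.1 e)
    have mt : t ∈ Ω := ⟨htA, t2⟩
    have mu : u ∈ Ω := ⟨hu, u2⟩
    have mr : ρ u ∈ Ω := ⟨hA u hu, by rw [← map_mul, u2, map_one]⟩
    have hs : ({ρ u, u * t, u, t, 1} : Set G) ⊆ Ω := by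
      intro x hx
      simp only [Set.mem_insert_iff, Set.mem_singleton_iff] at hx
      rcases hx with rfl | rfl | rfl | rfl | rfl
      exacts [mr, mul_mem mu mt, mu, mt, one_mem Ω]
    have h5 := Set.ncard_le_ncard hs
    rw [Set.ncard_insert_of_notMem (by simp [r1, rt, rut, hne]), Set.ncard_insert_of_notMem (by simp [q1, u1, t1]),
      Set.ncard_insert_of_notMem (by simp [u1, ut]), Set.ncard_insert_of_notMem (by simp [t1]),
      Set.ncard_singleton] at h5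
    have : (Ω : Set G).ncard = Nat.card Ω := rfl
    omega
  have key : ∀ k : ℕ, ∀ a ∈ A, a ^ 2 ^ k = 1 → ρ a = a := fun k => by
    induction k with
    | zero => intro a _ h; rw [pow_zero, pow_one] at h; rw [h, map_one]
    | succ k ih =>
      intro a ha h
      have h1 := ih (a * a) (mul_mem ha ha) (by rw [← pow_two, ← pow_mul, ← pow_succ', h])
      have hw : a⁻¹ * ρ a ∈ A := mul_mem (inv_mem ha) (hA a ha)
      have h2 : a⁻¹ * ρ a * (a⁻¹ * ρ a) = 1 := by
        rw [mul_assoc, ← mul_assoc (ρ a), hc _ (hA a ha) _ (inv_mem ha), mul_assoc, ← map_mul, h1]; group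
      exact (inv_mul_eq_one.1 (Au1.shift hp ρ ho (v := a) (by group) (hinv _ hw h2))).symm
  intro a ha
  obtain ⟨k, hk⟩ := hp a
  exact key k a ha hk

theorem au_ix (hp : IsPGroup 2 G) (A : Subgroup G) (hi : A.index = 2) (ρ : MulAut G) (ho : Odd (orderOf ρ))
    (hA : ∀ a ∈ A, ρ a = a) : ρ = 1 := by
  ext x
  rw [MulAut.one_apply]
  by_cases hx : x ∈ A
  · exact hA x hx
  have h1 : ρ x ∉ A := fun h => hx (ρ.injective (hA _ h) ▸ h)
  have hw : x⁻¹ * ρ x ∈ A := (mul_mem_iff_of_index_two hi).2 (by simp [hx, h1])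
  exact (inv_mul_eq_one.1 (Au1.shift hp ρ ho (v := x) (by group) (hA _ hw))).symm

end Cfsg.Agent.RC
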