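import Cfsg.Agent.RC.Df2
import Cfsg.Agent.RC.Au1

/-! RC/Au2 (S3860): odd order automorphisms of involution centralisers in dihedral and semidihedral groups. -/

set_option autoImplicit false

namespace Cfsg.Agent.RC

open Subgroup

universe u

variable {G : Type u} [Group G] [Finite G]

theorem au2_idx {x : G} (h : Nat.card G = 2 * orderOf x) : (zpowers x).index = 2 := by
  have e := (zpowers x).index_mul_card
  rw [Nat.card_zpowers, h] at e
  exact Nat.eq_of_mul_eq_mul_right (orderOf_pos x) e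

theorem au2_cyc (h : (∃ m : ℕ, 2 ≤ m ∧ Nonempty (G ≃* DihedralGroup m)) ∨ Cfsg.IsQuasiDihedral G) :
    (∀ a b : G, a * b = b * a) ∨
      ∃ x : G, (zpowers x).index = 2 ∧ ∀ g, orderOf g = orderOf x → g ∈ zpowers x := by
  rcases h with ⟨m, hm, ⟨e⟩⟩ | ⟨n, hn, hc, x, y, hx, hy, hr⟩
  · rcases hm.eq_or_lt with rfl | hm
    · exact Or.inl fun a b => e.injective (by
        rw [map_mul, map_mul]
        exact (by decide : ∀ a b : DihedralGroup 2, a * b = b * a) _ _)
    haveI : NeZero m := ⟨by omega⟩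
    have o : orderOf (e.symm (DihedralGroup.r 1)) = m := by
      rw [MulEquiv.orderOf_eq, DihedralGroup.orderOf_r_one]
    refine Or.inr ⟨e.symm (DihedralGroup.r 1), au2_idx ?_, fun g hg => ?_⟩
    · rw [o, Nat.card_congr e.toEquiv, DihedralGroup.nat_card]
    · obtain ⟨g, rfl⟩ := e.symm.surjective g
      rw [o, MulEquiv.orderOf_eq] at hg
      rcases g with i | i
      · refine ⟨(i.val : ℕ), ?_⟩
        show _ ^ ((i.val : ℕ) : ℤ) = _
        rw [zpow_natCast, ← map_pow, DihedralGroup.r_one_pow, ZMod.natCast_zmod_val]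
      · rw [DihedralGroup.orderOf_sr] at hg
        omega
  · obtain ⟨k, rfl⟩ : ∃ k, n = k + 3 := ⟨n - 3, by omega⟩
    have hi : (zpowers x).index = 2 := au2_idx (by rw [hc, hx, pow_succ'])
    obtain ⟨w, p1, q2, q3⟩ : ∃ w, 1 ≤ w ∧ 2 ^ (k + 2) = 4 * w ∧ orderOf x = 8 * w :=
      ⟨2 ^ k, Nat.one_le_two_pow, by ring, by rw [hx]; ring⟩
    rw [show k + 3 - 1 = k + 2 from rfl] at hr
    have yy : y * y = 1 := by rw [← pow_two, ← hy, pow_orderOf_eq_one]
    have yi : y⁻¹ = y := inv_eq_of_mul_eq_one_right yy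
    have yA : y ∉ zpowers x := by
      rintro ⟨j, rfl⟩
      have c : x ^ j * x * (x ^ j)⁻¹ = x := by group
      have d : x ^ (2 ^ (k + 2) - 1) = x ^ 1 := by rw [pow_one]; exact hr.symm.trans c
      rw [q2] at d
      have := (pow_eq_pow_iff_modEq.1 d).eq_of_lt_of_lt (by rw [q3]; omega) (by rw [q3]; omega)
      omega
    refine Or.inr ⟨x, hi, fun g hg => by_contra fun m => ?_⟩
    obtain ⟨j, hj⟩ := mem_powers_iff_mem_zpowers.2 ((mul_mem_iff_of_index_two hi).2 (iff_of_false yA m))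
    have gj : g = y * x ^ j := by
      rw [show x ^ j = y * g from hj, ← mul_assoc, yy, one_mul]
    have g2 : g ^ 2 = (x ^ 2 ^ (k + 2)) ^ j := by
      rw [pow_two, gj, show y * x ^ j * (y * x ^ j) = (y * x * y⁻¹) ^ j * x ^ j by
        rw [conj_pow, yi]; simp only [mul_assoc], hr, ← (Commute.self_pow x _).symm.mul_pow, ← pow_succ,
        Nat.sub_add_cancel Nat.one_le_two_pow]
    have g4 : g ^ 4 = 1 := by
      rw [show 4 = 2 * 2 from rfl, pow_mul, g2, ← pow_mul, mul_comm j, pow_mul, ← pow_mul x, ← pow_succ, ← hx,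
        pow_orderOf_eq_one, one_pow]
    have := Nat.le_of_dvd (by norm_num) (orderOf_dvd_of_pow_eq_one g4)
    rw [hg, q3] at this
    omega

theorem au2 (hp : IsPGroup 2 G) (hr : Cfsg.PRankLE 2 2 G)
    (h : (∃ m : ℕ, 2 ≤ m ∧ Nonempty (G ≃* DihedralGroup m)) ∨ Cfsg.IsQuasiDihedral G) (t : G) (ht : orderOf t = 2)
    (ρ : MulAut (cen t)) (ho : Odd (orderOf ρ)) (hf : ρ ⟨t, mem_cen.2 rfl⟩ = ⟨t, mem_cen.2 rfl⟩) : ρ = 1 := by
  have pT : IsPGroup 2 (cen t) := hp.to_subgroup _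
  have rT : Cfsg.PRankLE 2 2 (cen t) := fun A hA h2 => by
    rw [← card_map_of_injective (f := (cen t).subtype) (cen t).subtype_injective]
    refine hr _ inferInstance ?_
    rintro _ ⟨a, ha, rfl⟩
    rw [← map_pow, h2 a ha, map_one]
  have oT : orderOf (⟨t, mem_cen.2 rfl⟩ : cen t) = 2 := by rw [← Subgroup.orderOf_coe]; exact ht
  by_cases ab : ∀ a b : cen t, a * b = b * a
  · exact MulEquiv.ext fun a =>
      au_ab pT ⊤ (fun a _ b _ => ab a b) rT _ oT trivial ρ ho hf (fun _ _ => trivial) a trivial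
  obtain h | ⟨x, hi, hx⟩ := au2_cyc h
  · exact (ab fun a b => Subtype.ext (h a b)).elim
  have cA : ∀ a ∈ zpowers x, ∀ b ∈ zpowers x, Commute a b := by
    rintro _ ⟨i, rfl⟩ _ ⟨j, rfl⟩
    exact Commute.zpow_zpow_self x i j
  have tA : t ∈ zpowers x := by
    by_contra m
    have k : ∀ a ∈ cen t, ∀ c, (∀ b ∈ cen t, b ∈ zpowers x → Commute b c) → Commute t c → Commute a c :=
      fun a ha c h1 h2 => by
        by_cases aA : a ∈ zpowers x
        · exact h1 a ha aA
        · have := (h1 _ (mul_mem ha (mem_cen.2 rfl)) ((mul_mem_iff_of_index_two hi).2 (iff_of_false aA m))).mul_left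
            h2.inv_left
          rwa [mul_inv_cancel_right] at this
    exact ab fun a b => Subtype.ext (k a a.2 b (fun c hc cA' => (k b b.2 c (fun d _ dA => cA d dA c cA')
      (mem_cen.1 hc).symm).symm) (mem_cen.1 b.2).symm)
  have xT : x ∈ cen t := mem_cen.2 (cA x (mem_zpowers x) t tA)
  haveI := normal_of_index_eq_two hi
  have i2 : ((zpowers x).subgroupOf (cen t)).index = 2 := by
    rcases (Nat.dvd_prime Nat.prime_two).1 (hi ▸ relIndex_dvd_index_of_normal (zpowers x) (cen t)) with e | e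
    · exact (ab fun a b => Subtype.ext (cA _ (relIndex_eq_one.1 e a.2) _ (relIndex_eq_one.1 e b.2)).eq).elim
    · exact e
  refine au_ix pT _ i2 ρ ho (au_ab pT _ (fun a ha b hb => Subtype.ext (cA _ ha _ hb)) rT _ oT tA ρ ho hf ?_)
  rintro a ⟨j, hj⟩
  rw [show a = (⟨x, xT⟩ : cen t) ^ j from Subtype.ext hj.symm, map_zpow]
  refine zpow_mem (mem_subgroupOf.2 (hx _ ?_)) j
  rw [Subgroup.orderOf_coe, MulEquiv.orderOf_eq, ← Subgroup.orderOf_coe]

end Cfsg.Agent.RC
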