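import Cfsg.Agent.RC.Df2
import Cfsg.Agent.RC.Au1

/-! RC/Au3 (S3860): odd order automorphisms of involution centralisers in wreathed and homocyclic 2-groups. -/

set_option autoImplicit false

namespace Cfsg.Agent.RC

open Subgroup

universe u

variable {G : Type u} [Group G] [Finite G]

omit [Finite G] in
theorem au3_rk [Finite G] (hr : Cfsg.PRankLE 2 2 G) (H : Subgroup G) : Cfsg.PRankLE 2 2 H := by
  intro A hA he
  have h1 := hr (A.map H.subtype) inferInstance (by
    rintro _ ⟨a, ha, rfl⟩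
    have := he a ha
    rw [← map_pow, this, map_one])
  rwa [Subgroup.card_map_of_injective H.subtype_injective] at h1

theorem au3_ab (hp : IsPGroup 2 G) (hr : Cfsg.PRankLE 2 2 G) (t : G) (ht : orderOf t = 2)
    (ρ : MulAut (cen t)) (ho : Odd (orderOf ρ)) (hf : ρ ⟨t, mem_cen.2 rfl⟩ = ⟨t, mem_cen.2 rfl⟩)
    (hc : ∀ a b : cen t, a * b = b * a) : ρ = 1 := by
  have ht' : orderOf (⟨t, mem_cen.2 rfl⟩ : cen t) = 2 := by
    rw [← Subgroup.orderOf_coe]; exact ht
  have := au_ab (hp.to_subgroup (cen t)) ⊤ (fun a _ b _ => hc a b) (au3_rk hr _) _ ht' (mem_top _) ρ ho hf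
    (fun a _ => mem_top _)
  ext a
  rw [this a (mem_top _)]
  rfl

/-- the abelian subgroup of index two of a wreathed group -/
theorem au3_wr (h : Cfsg.IsWreathed G) : ∃ A : Subgroup G, A.index = 2 ∧ (∀ a ∈ A, ∀ b ∈ A, a * b = b * a) ∧
    ∃ x ∈ A, ∀ g, g * (x * x) = (x * x) * g → g ∈ A := by
  obtain ⟨n, hn, hG, x, y, z, hx, hxy, hi, hz, hzx⟩ := h
  have hy : orderOf y = 2 ^ n := by
    rw [← hzx, ← hx]
    exact (MulAut.conj z).orderOf_eq x
  have hcomm : ∀ (a : zpowers x) (b : zpowers y), Commute ((zpowers x).subtype a) ((zpowers y).subtype b) := by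
    rintro ⟨_, i, rfl⟩ ⟨_, j, rfl⟩
    exact Commute.zpow_zpow hxy i j
  let φ := MonoidHom.noncommCoprod (zpowers x).subtype (zpowers y).subtype hcomm
  have hφ : Function.Injective φ := by
    rw [MonoidHom.noncommCoprod_injective]
    refine ⟨subtype_injective _, subtype_injective _, ?_⟩
    rw [range_subtype, range_subtype, disjoint_iff]
    exact hi
  have hcard : Nat.card φ.range = 2 ^ n * 2 ^ n := by
    rw [← Nat.card_congr (MonoidHom.ofInjective hφ).toEquiv, Nat.card_prod, Nat.card_zpowers, Nat.card_zpowers, hx, hy]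
  have hidx : φ.range.index = 2 := by
    have h1 := φ.range.card_mul_index
    rw [hcard, hG] at h1
    have h2 : 2 ^ (2 * n + 1) = 2 ^ n * 2 ^ n * 2 := by ring
    rw [h2] at h1
    exact Nat.eq_of_mul_eq_mul_left (by positivity) h1
  have hab : ∀ a ∈ φ.range, ∀ b ∈ φ.range, a * b = b * a := by
    rintro _ ⟨a, rfl⟩ _ ⟨b, rfl⟩
    rw [← map_mul, ← map_mul]
    congr 1
    obtain ⟨⟨_, i, rfl⟩, ⟨_, j, rfl⟩⟩ := a
    obtain ⟨⟨_, k, rfl⟩, ⟨_, l, rfl⟩⟩ := b
    refine Prod.ext (Subtype.ext ?_) (Subtype.ext ?_)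
    · exact (Commute.zpow_zpow (Commute.refl x) i k).eq
    · exact (Commute.zpow_zpow (Commute.refl y) j l).eq
  have hxA : x ∈ φ.range := ⟨(⟨x, mem_zpowers x⟩, 1), by simp [φ]⟩
  have hzn : z * (x * x) ≠ (x * x) * z := by
    intro hzz
    have e : y * y = x * x := by
      rw [← hzx]
      calc z * x * z⁻¹ * (z * x * z⁻¹) = z * (x * x) * z⁻¹ := by group
        _ = x * x := by rw [hzz]; group
    have hm : x * x ∈ zpowers x ⊓ zpowers y :=
      ⟨mul_mem (mem_zpowers x) (mem_zpowers x), e ▸ mul_mem (mem_zpowers y) (mem_zpowers y)⟩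
    rw [hi, mem_bot, ← pow_two] at hm
    have h1 := orderOf_dvd_of_pow_eq_one hm
    rw [hx] at h1
    have h2 := Nat.le_of_dvd (by norm_num) h1
    have h3 : 2 ^ 2 ≤ 2 ^ n := Nat.pow_le_pow_right (by norm_num) hn
    omega
  refine ⟨φ.range, hidx, hab, x, hxA, fun g hg => ?_⟩
  by_contra hgA
  have hxx : x * x ∈ φ.range := mul_mem hxA hxA
  have hzA : z ∉ φ.range := fun hzA => hzn (hab z hzA _ hxx)
  have hgz : g * z ∈ φ.range := by
    rw [mul_mem_iff_of_index_two hidx]
    exact iff_of_false hgA hzA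
  apply hzn
  have e := hab _ hgz _ hxx
  have : g * (z * (x * x)) = g * (x * x * z) := by
    rw [← mul_assoc, e, ← mul_assoc (x * x), ← hg, mul_assoc]
  exact mul_left_cancel this

theorem au3 (hp : IsPGroup 2 G) (hr : Cfsg.PRankLE 2 2 G)
    (h : Cfsg.IsWreathed G ∨ ∃ n : ℕ, 2 ≤ n ∧ Nonempty (G ≃* Multiplicative (ZMod (2 ^ n) × ZMod (2 ^ n))))
    (t : G) (ht : orderOf t = 2)
    (ρ : MulAut (cen t)) (ho : Odd (orderOf ρ)) (hf : ρ ⟨t, mem_cen.2 rfl⟩ = ⟨t, mem_cen.2 rfl⟩) : ρ = 1 := by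
  by_cases hc : ∀ a b : cen t, a * b = b * a
  · exact au3_ab hp hr t ht ρ ho hf hc
  rcases h with h | ⟨n, -, ⟨e⟩⟩
  swap
  · exact absurd (fun a b => Subtype.ext (e.injective (by
      rw [Subgroup.coe_mul, Subgroup.coe_mul, map_mul, map_mul, mul_comm]))) hc
  obtain ⟨A, hi, hab, x, hxA, hx⟩ := au3_wr h
  haveI : A.Normal := normal_of_index_eq_two hi
  set B : Subgroup (cen t) := A.subgroupOf (cen t) with hB
  have hBab : ∀ a ∈ B, ∀ b ∈ B, a * b = b * a := fun a ha b hb =>
    Subtype.ext (hab _ (mem_subgroupOf.1 ha) _ (mem_subgroupOf.1 hb))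
  have hBi : B.index = 2 := by
    have h1 : B.index ∣ 2 := hi ▸ relIndex_dvd_index_of_normal A (cen t)
    rcases (Nat.dvd_prime Nat.prime_two).1 h1 with h2 | h2
    · exfalso
      rw [index_eq_one] at h2
      exact hc fun a b => hBab a (h2 ▸ mem_top a) b (h2 ▸ mem_top b)
    · exact h2
  set t' : cen t := ⟨t, mem_cen.2 rfl⟩ with ht'
  have htc : ∀ a : cen t, a * t' = t' * a := fun a => Subtype.ext (mem_cen.1 a.2)
  have htB : t' ∈ B := by
    by_contra htB
    apply hc
    have key : ∀ a : cen t, a ∈ B ∨ a * t' ∈ B := fun a => by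
      by_cases ha : a ∈ B
      · exact Or.inl ha
      · exact Or.inr ((mul_mem_iff_of_index_two hBi).2 (iff_of_false ha htB))
    have k2 : ∀ a b : cen t, a * t' * b = b * (a * t') → a * b = b * a := fun a b hh => by
      have : a * b * t' = b * a * t' := by
        rw [mul_assoc, htc b, ← mul_assoc, hh, mul_assoc]
      exact mul_right_cancel this
    have k3 : ∀ a ∈ B, ∀ b : cen t, a * b = b * a := fun a ha b => by
      rcases key b with hb | hb
      · exact hBab a ha b hb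
      · exact (k2 b a (hBab _ hb a ha)).symm
    intro a b
    rcases key a with ha | ha
    · exact k3 a ha b
    · exact k2 a b (k3 _ ha b)
  have hxt : x ∈ cen t := mem_cen.2 (hab x hxA t (mem_subgroupOf.1 htB))
  set x' : cen t := ⟨x, hxt⟩ with hx'
  have hinv : ∀ a ∈ B, ρ a ∈ B := fun a ha => by
    have h1 : ρ.symm x' * ρ.symm x' ∈ B := mul_self_mem_of_index_two hBi _
    have h2 := congrArg ρ (hBab a ha _ h1)
    rw [map_mul, map_mul, map_mul, map_mul, MulEquiv.apply_symm_apply] at h2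
    exact mem_subgroupOf.2 (hx _ (congrArg Subtype.val h2))
  have ht2 : orderOf t' = 2 := by
    rw [← Subgroup.orderOf_coe]; exact ht
  exact au_ix (hp.to_subgroup (cen t)) B hBi ρ ho
    (au_ab (hp.to_subgroup (cen t)) B hBab (au3_rk hr _) t' ht2 htB ρ ho hf hinv)

end Cfsg.Agent.RC
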