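import Cfsg.Agent.RC.Df2

/-! RC/B0a (S3860). PROOF: e4: e↦e·τe is a hom E→E (E abelian as exponent 2) with image and kernel in the τ-fixed points {1,t}. Fcj, Ftau, nF from C0.mem. Fsyl: P≤cen t 2-group ⇒ mem. Fconj: both are Sylow (odd index). -/

set_option autoImplicit false

namespace Cfsg.Agent.RC

open Subgroup

universe u

variable {G : Type u} [Group G] [Finite G]

variable {F : G → Subgroup G} {t l : G} {τ : MulAut G}

namespace B0a

theorem card_le_two {S : Set G} {t : G} (h : ∀ x ∈ S, x = 1 ∨ x = t) : Nat.card S ≤ 2 := by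
  rw [Nat.card_coe_set_eq]
  have h1 : S ⊆ {1, t} := fun x hx => by simpa using h x hx
  exact (Set.ncard_le_ncard h1 (Set.toFinite _)).trans ((Set.ncard_insert_le _ _).trans (by rw [Set.ncard_singleton]))

theorem two_of {P : Subgroup G} (hP : IsPGroup 2 P) {x : G} (hx : x ∈ P) : Two x := by
  obtain ⟨k, hk⟩ := hP ⟨x, hx⟩
  exact ⟨k, by simpa using congrArg Subtype.val hk⟩

theorem two_cj {x : G} (g : G) (h : Two x) : Two (g * x * g⁻¹) := by
  obtain ⟨n, hn⟩ := h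
  exact ⟨n, by rw [conj_pow, hn]; simp⟩

theorem ord_cj (ht : orderOf t = 2) (g : G) : orderOf (g * t * g⁻¹) = 2 := by
  rw [← ht]
  exact orderOf_injective (MulAut.conj g).toMonoidHom (MulAut.conj g).injective t

theorem syl {Q : Subgroup G} (hQ : IsPGroup 2 Q) (ho : Odd Q.index) : ∃ S : Sylow 2 G, (S : Subgroup G) = Q := by
  haveI : Fact (Nat.Prime 2) := ⟨Nat.prime_two⟩
  have hd : ¬ 2 ∣ Q.index := by
    rw [← even_iff_two_dvd, Nat.not_even_iff_odd]; exact ho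
  exact ⟨hQ.toSylow hd, rfl⟩

end B0a

open B0a

theorem e4 (T : Ta F t τ) (E : Subgroup G) (hE : E ≤ F t) (h2 : ∀ e ∈ E, e * e = 1) (hτ : ∀ e ∈ E, τ e ∈ E) :
    Nat.card E ≤ 4 := by
  have hinv : ∀ e ∈ E, e⁻¹ = e := fun e he => inv_eq_of_mul_eq_one_right (h2 e he)
  have hc : ∀ a ∈ E, ∀ b ∈ E, a * b = b * a := fun a ha b hb => by
    have := hinv _ (E.mul_mem ha hb)
    rw [mul_inv_rev, hinv a ha, hinv b hb] at this
    exact this.symm
  have hsq : ∀ x, τ (τ x) = x := fun x => by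
    have := congrArg (fun f : MulAut G => f x) T.sq
    simpa using this
  let φ : E →* G := MonoidHom.mk' (fun e => (e : G) * τ e) fun a b => by
    simp only [coe_mul, map_mul]
    have := hc _ b.2 _ (hτ _ a.2)
    calc (a : G) * b * (τ a * τ b) = a * (b * τ a) * τ b := by group
      _ = _ := by rw [this]; group
  have h1 : Nat.card φ.range ≤ 2 := by
    refine card_le_two (S := (φ.range : Set G)) (t := t) ?_
    rintro _ ⟨e, rfl⟩
    have hm : (e : G) * τ e ∈ E := E.mul_mem e.2 (hτ _ e.2)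
    refine T.uq _ (hE hm) (h2 _ hm) ?_
    change τ ((e : G) * τ e) = (e : G) * τ e
    rw [map_mul, hsq]
    exact hc _ (hτ _ e.2) _ e.2
  have h3 : Nat.card (φ.ker.map E.subtype) ≤ 2 := by
    refine card_le_two (S := (φ.ker.map E.subtype : Set G)) (t := t) ?_
    rintro _ ⟨e, he, rfl⟩
    have he' : (e : G) * τ e = 1 := he
    refine T.uq _ (hE e.2) (h2 _ e.2) ?_
    change τ (e : G) = e
    rw [← hinv _ e.2]
    conv_lhs => rw [hinv _ e.2]
    exact (inv_eq_of_mul_eq_one_right he').symm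
  rw [card_map_of_injective E.subtype_injective] at h3
  have h4 := φ.ker.card_mul_index
  rw [index_ker] at h4
  rw [← h4]
  exact Nat.mul_le_mul h3 h1

theorem Fcj (C : C0 F) (ht : orderOf t = 2) (g : G) : F (g * t * g⁻¹) = cj g (F t) := by
  ext x
  rw [mem_cj, C.mem _ (ord_cj ht g), C.mem _ ht, mem_cen, mem_cen]
  refine and_congr ⟨fun h => ?_, fun h => ?_⟩ ⟨fun h => ?_, fun h => ?_⟩
  · calc g⁻¹ * x * g * t = g⁻¹ * (x * (g * t * g⁻¹)) * g := by group
      _ = _ := by rw [h]; group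
  · calc x * (g * t * g⁻¹) = g * (g⁻¹ * x * g * t) * g⁻¹ := by group
      _ = _ := by rw [h]; group
  · simpa using two_cj g⁻¹ h
  · have := two_cj g h
    simpa [mul_assoc] using this

theorem Ftau (C : C0 F) (ht : orderOf t = 2) (h : τ t = t) : ∀ x, τ x ∈ F t ↔ x ∈ F t := by
  intro x
  rw [C.mem _ ht, C.mem _ ht, mem_cen, mem_cen]
  refine and_congr ?_ ?_
  · conv_lhs => rw [← h, ← map_mul, ← map_mul]
    exact τ.injective.eq_iff
  · refine exists_congr fun n => ?_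
    rw [← map_pow]
    exact map_eq_one_iff τ τ.injective

theorem nF (C : C0 F) (ht : orderOf t = 2) : cen t ≤ nor (F t) := by
  intro g hg
  have e : g * t * g⁻¹ = t := by rw [mem_cen.1 hg]; group
  have h1 := Fcj C ht g
  rw [e] at h1
  rw [mem_normalizer_iff]
  intro x
  conv_rhs => rw [h1, mem_cj]
  simp [mul_assoc]

theorem tF (C : C0 F) (ht : orderOf t = 2) : t ∈ F t ∧ F t ≤ cen t := by
  refine ⟨(C.mem _ ht t).2 ⟨mem_cen.2 rfl, 1, ?_⟩, fun x hx => ((C.mem _ ht x).1 hx).1⟩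
  rw [pow_one, ← ht, pow_orderOf_eq_one]

theorem Fsyl (C : C0 F) (ht : orderOf t = 2) (P : Subgroup G) (hP : IsPGroup 2 P) (h : P ≤ cen t) : P ≤ F t := fun x hx =>
  (C.mem _ ht x).2 ⟨h hx, two_of hP hx⟩

theorem Fconj (C : C1 F) (ht : orderOf t = 2) (u : G) (hu : orderOf u = 2) : ∃ g : G, F u = cj g (F t) := by
  haveI : Fact (Nat.Prime 2) := ⟨Nat.prime_two⟩
  obtain ⟨S, hS⟩ := syl (C.p2 t ht) (C.odd t ht)
  obtain ⟨U, hU⟩ := syl (C.p2 u hu) (C.odd u hu)
  obtain ⟨g, hg⟩ := MulAction.exists_smul_eq G S U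
  refine ⟨g, ?_⟩
  rw [← hS, ← hU, ← hg]
  rfl

theorem Fsub (C : C1 F) (ht : orderOf t = 2) (P : Subgroup G) (hP : IsPGroup 2 P) : ∃ g : G, cj g P ≤ F t := by
  haveI : Fact (Nat.Prime 2) := ⟨Nat.prime_two⟩
  obtain ⟨S, hS⟩ := syl (C.p2 t ht) (C.odd t ht)
  obtain ⟨U, hU⟩ := hP.exists_le_sylow
  obtain ⟨g, hg⟩ := MulAction.exists_smul_eq G U S
  refine ⟨g, ?_⟩
  rw [← hS, ← hg]
  exact map_mono hU

end Cfsg.Agent.RC
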