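import Cfsg.Agent.RC.Df2
import Cfsg.Agent.RC.B0a
import Cfsg.Agent.H46.PAction

/-! RC/B0b (S3860): coprime action of `⟨l⟩` on the 2-group `F t`. -/

set_option autoImplicit false
set_option linter.unusedSectionVars false

namespace Cfsg.Agent.RC

open Subgroup

universe u

variable {G : Type u} [Group G] [Finite G]

variable {F : G → Subgroup G} {t l : G} {τ : MulAut G}

namespace B0b

theorem pA (P : Pr t l) : IsPGroup (orderOf l) (zpowers l) :=
  IsPGroup.of_card (n := 1) (by rw [Nat.card_zpowers, pow_one])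

theorem nd (C : C0 F) (P : Pr t l) : ¬ orderOf l ∣ Nat.card (F t) := by
  obtain ⟨n, hn⟩ := (C.p2 t P.inv).exists_card_eq
  rw [hn]
  intro h
  have h2 := (Nat.prime_dvd_prime_iff_eq P.pr Nat.prime_two).1 (P.pr.dvd_of_dvd_pow h)
  have := P.od
  rw [h2] at this
  exact absurd this (by decide)

theorem nA (C : C0 F) (P : Pr t l) : zpowers l ≤ normalizer (F t : Set G) :=
  zpowers_le.2 (nF C P.inv P.cm)

omit [Finite G] in
theorem cA : centralizer (zpowers l : Set G) = cen l := by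
  ext g
  rw [mem_cen, mem_centralizer_iff]
  refine ⟨fun e => (e l (mem_zpowers l)).symm, fun e w hw => ?_⟩
  obtain ⟨i, rfl⟩ := hw
  exact ((show Commute g l from e).zpow_right i).eq.symm

omit [Finite G] in
theorem map_B (σ : MulAut G) (X : Subgroup G) :
    (⁅X, zpowers l⁆ : Subgroup G).map σ.toMonoidHom = ⁅X.map σ.toMonoidHom, zpowers (σ l)⁆ := by
  rw [map_commutator, MonoidHom.map_zpowers]
  rfl

omit [Finite G] in
theorem cj_eq {g : G} {X : Subgroup G} (h : g ∈ nor X) : cj g X = X := by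
  ext a
  rw [mem_cj]
  have := mem_normalizer_iff.1 (inv_mem h) a
  rw [inv_inv] at this
  exact this.symm

omit [Finite G] in
theorem nor_of {g : G} {X : Subgroup G} (h : cj g X = X) : g ∈ nor X := by
  rw [mem_normalizer_iff]
  intro a
  conv_rhs => rw [← h, mem_cj]
  simp [mul_assoc]

theorem one_of (C : C0 F) (ht : orderOf t = 2) {x : G} (hx : x ∈ F t) (ho : Odd (orderOf x)) :
    x = 1 := by
  obtain ⟨n, hn⟩ := ((C.mem t ht x).1 hx).2
  rw [← orderOf_eq_one_iff]
  exact Nat.eq_one_of_dvd_coprimes (Nat.Coprime.pow_left n (Nat.coprime_two_left.2 ho))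
    (orderOf_dvd_of_pow_eq_one hn) dvd_rfl

end B0b

open B0b

theorem B_le (C : C0 F) (P : Pr t l) : Bt F t l ≤ F t :=
  le_normalizer_iff_commutator_le_left.1 (nA C P)

theorem nB (C : C0 F) (P : Pr t l) : F t ≤ nor (Bt F t l) :=
  (fun _ _ => normalizer_commutator_ge_left (F t) (zpowers l)) C P

theorem nBc (C : C0 F) (P : Pr t l) : cen t ⊓ cen l ≤ nor (Bt F t l) := by
  rintro g ⟨h1, h2⟩
  refine nor_of ?_
  have e := map_B (l := l) (MulAut.conj g) (F t)
  have e2 : MulAut.conj g l = l := by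
    rw [MulAut.conj_apply, mem_cen.1 h2, mul_inv_cancel_right]
  rw [e2] at e
  exact e.trans (congrArg (fun X => ⁅X, zpowers l⁆) (cj_eq (nF C P.inv h1)))

theorem BB (C : C0 F) (P : Pr t l) : ⁅Bt F t l, zpowers l⁆ = Bt F t l := by
  have := Fact.mk P.pr
  exact H46.commutator_commutator_eq (pA P) (nd C P) (nA C P)

theorem dec (C : C0 F) (P : Pr t l) : ∀ f ∈ F t, ∃ b ∈ Bt F t l, ∃ c ∈ F t ⊓ cen l, f = b * c := by
  intro f hf
  have := Fact.mk P.pr
  have := H46.exists_commutator_mul_centralizer (pA P) (nd C P) (nA C P) hf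
  rwa [cA] at this

theorem Bne (C : C0 F) (P : Pr t l) : Bt F t l ≠ ⊥ := by
  intro e
  have h1 : l ∈ Cs (F t) := by
    rw [mem_centralizer_iff]
    intro f hf
    obtain ⟨b, hb, c, hc, rfl⟩ := dec C P f hf
    rw [e, mem_bot] at hb
    rw [hb, one_mul]
    exact mem_cen.1 hc.2
  have h2 := one_of C P.inv (C.sc t P.inv h1) P.od
  have := P.pr
  rw [h2, orderOf_one] at this
  exact Nat.not_prime_one this

theorem lconj (C : C0 F) (P : Pr t l) {l' : G} (P' : Pr t l') (h : l' * l⁻¹ ∈ F t) :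
    ∃ b ∈ Bt F t l, l' = b * l * b⁻¹ := by
  classical
  have := Fact.mk P.pr
  have := Fintype.ofFinite (F t)
  have hn := mem_normalizer_iff.1 (nF C P.inv P.cm)
  have st : ∀ f, f ∈ F t ↔ l' * f * l⁻¹ ∈ F t := fun f => by
    rw [show l' * f * l⁻¹ = l' * l⁻¹ * (l * f * l⁻¹) by group, mul_mem_cancel_left h]
    exact hn f
  let σ : Equiv.Perm (F t) :=
    { toFun := fun f => ⟨l' * f * l⁻¹, (st f).1 f.2⟩
      invFun := fun f => ⟨l'⁻¹ * f * l, (st _).2 (by simpa [mul_assoc] using f.2)⟩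
      left_inv := fun f => Subtype.ext (by simp [mul_assoc])
      right_inv := fun f => Subtype.ext (by simp [mul_assoc]) }
  have hσ : ∀ (k : ℕ) (f : F t), (((σ ^ k) f : F t) : G) = l' ^ k * f * (l ^ k)⁻¹ := by
    intro k
    induction k with
    | zero => intro f; simp
    | succ k ih =>
      intro f
      rw [pow_succ', Equiv.Perm.mul_apply]
      change l' * (((σ ^ k) f : F t) : G) * l⁻¹ = _
      rw [ih, pow_succ', pow_succ']
      have : l * l ^ k = l ^ k * l := (pow_succ' l k).symm.trans (pow_succ l k)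
      rw [this]
      group
  have h1 : l' ^ orderOf l = 1 := by
    have h2 := ((σ ^ orderOf l) 1).2
    rw [hσ, pow_orderOf_eq_one] at h2
    refine one_of C P.inv (by simpa using h2) ?_
    exact Odd.of_dvd_nat P'.od (orderOf_pow_dvd _)
  obtain ⟨f, hf⟩ := Equiv.Perm.exists_fixed_point_of_prime (p := orderOf l) (n := 1) (σ := σ)
    (by rw [← Nat.card_eq_fintype_card]; exact nd C P) (by
      ext f
      rw [pow_one, hσ, h1, pow_orderOf_eq_one]
      simp)
  have h3 : l' * f * l⁻¹ = f := congrArg Subtype.val hf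
  obtain ⟨b, hb, c, hc, e⟩ := dec C P f f.2
  refine ⟨b, hb, ?_⟩
  have h4 : c * l = l * c := mem_cen.1 hc.2
  rw [e] at h3
  calc l' = (l' * (b * c) * l⁻¹) * (l * c⁻¹) * b⁻¹ := by group
    _ = b * (c * l) * c⁻¹ * b⁻¹ := by rw [h3]; group
    _ = b * l * b⁻¹ := by rw [h4]; group

theorem B_eq (C : C0 F) (P : Pr t l) {l' : G} (P' : Pr t l') (h : l' * l⁻¹ ∈ F t) : Bt F t l' = Bt F t l := by
  obtain ⟨b, hb, rfl⟩ := lconj C P P' h
  have e := map_B (l := l) (MulAut.conj b) (F t)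
  have e1 : cj b (F t) = F t := cj_eq (le_normalizer (B_le C P hb))
  have e2 : cj b (Bt F t l) = Bt F t l := cj_eq (le_normalizer hb)
  exact ((congrArg (fun X => ⁅X, zpowers (b * l * b⁻¹)⁆) e1).symm.trans e.symm).trans e2

theorem Btau (C : C0 F) (P : Pr t l) (T : Ta F t τ) : ∀ b, τ b ∈ Bt F t l ↔ b ∈ Bt F t l := by
  have ho : orderOf (τ l) = orderOf l := τ.orderOf_eq l
  have P' : Pr t (τ l) := ⟨P.inv, ho ▸ P.pr, ho ▸ P.od, by
    rw [mem_cen]
    conv_lhs => rw [← T.fix]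
    conv_rhs => rw [← T.fix]
    rw [← map_mul, ← map_mul, mem_cen.1 P.cm]⟩
  have e1 : (F t).map τ.toMonoidHom = F t := by
    ext x
    constructor
    · rintro ⟨y, hy, rfl⟩
      exact (Ftau C P.inv T.fix y).2 hy
    · intro hx
      exact ⟨τ.symm x, (Ftau C P.inv T.fix _).1 (by simpa using hx), by simp⟩
  have e : (Bt F t l).map τ.toMonoidHom = Bt F t l := by
    rw [map_B, e1]
    exact B_eq C P P' (T.od l P.cm)
  have k : ∀ b ∈ Bt F t l, τ b ∈ Bt F t l := fun b hb => e.le ⟨b, hb, rfl⟩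
  refine fun b => ⟨fun hb => ?_, k b⟩
  have := k _ hb
  rwa [← MulAut.mul_apply, T.sq, MulAut.one_apply] at this

theorem Pcj (P : Pr t l) (g : G) : Pr (g * t * g⁻¹) (g * l * g⁻¹) := by
  have ho : ∀ x : G, orderOf (g * x * g⁻¹) = orderOf x := fun x => (MulAut.conj g).orderOf_eq x
  refine ⟨(ho t).trans P.inv, (ho l).symm ▸ P.pr, (ho l).symm ▸ P.od, ?_⟩
  rw [mem_cen]
  calc g * l * g⁻¹ * (g * t * g⁻¹) = g * (l * t) * g⁻¹ := by group
    _ = g * t * g⁻¹ * (g * l * g⁻¹) := by rw [mem_cen.1 P.cm]; group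

theorem Bcj (C : C0 F) (P : Pr t l) (g : G) : Bt F (g * t * g⁻¹) (g * l * g⁻¹) = cj g (Bt F t l) ∧
    Yt F (g * t * g⁻¹) (g * l * g⁻¹) = cj g (Yt F t l) := by
  have e : Bt F (g * t * g⁻¹) (g * l * g⁻¹) = cj g (Bt F t l) := by
    rw [Bt, Fcj C P.inv g]
    exact (map_B (l := l) (MulAut.conj g) (F t)).symm
  refine ⟨e, ?_⟩
  ext a
  rw [Yt, e, mem_inf, mem_cj, mem_cj, mem_inf, mem_cen, mem_cen]
  refine and_congr_right fun _ => ⟨fun h => ?_, fun h => ?_⟩
  · calc g⁻¹ * a * g * l = g⁻¹ * (a * (g * l * g⁻¹)) * g := by group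
      _ = l * (g⁻¹ * a * g) := by rw [h]; group
  · calc a * (g * l * g⁻¹) = g * (g⁻¹ * a * g * l) * g⁻¹ := by group
      _ = g * l * g⁻¹ * a := by rw [h]; group

end Cfsg.Agent.RC
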