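import Cfsg.Agent.RC.Df2
import Cfsg.Agent.CS4.Defs
import Cfsg.Agent.S3861

/-! RC/R0 (S3860): lifting of real elements of odd order, and 2-closure modulo the odd core. -/

set_option autoImplicit false

namespace Cfsg.Agent.RC

open Subgroup

universe u

variable {G : Type u} [Group G] [Finite G]

theorem R0.inv_pow {Q : Type*} [Group Q] {a b : Q} (h : a * b * a⁻¹ = b⁻¹) {m : ℕ} (hm : Odd m) :
    a ^ m * b * (a ^ m)⁻¹ = b⁻¹ := by
  obtain ⟨j, rfl⟩ := hm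
  have h' : a * b⁻¹ * a⁻¹ = b := by rw [← conj_inv, h, inv_inv]
  have c : Commute (a ^ 2) b⁻¹ := by
    have e : a ^ 2 * b⁻¹ * (a ^ 2)⁻¹ = b⁻¹ := by
      calc _ = a * (a * b⁻¹ * a⁻¹) * a⁻¹ := by rw [sq]; group
        _ = _ := by rw [h', h]
    exact mul_inv_eq_iff_eq_mul.1 e
  calc _ = (a ^ 2) ^ j * (a * b * a⁻¹) * ((a ^ 2) ^ j)⁻¹ := by rw [pow_succ, pow_mul]; group
    _ = _ := by rw [h, (c.pow_left j).eq, mul_inv_cancel_right]

theorem R0.fix {R : Subgroup G} (hR : Odd (Nat.card R)) {y σ : G} {k : ℕ} (hσ : σ ^ 2 ^ k = 1)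
    (hn : ∀ t ∈ R, σ * t * σ⁻¹ ∈ R) (h : y⁻¹ * (σ * y * σ⁻¹) ∈ R) : ∃ t ∈ R, σ * (y * t) * σ⁻¹ = y * t := by
  classical
  have := Fintype.ofFinite R
  let f : Function.End R := fun t => ⟨y⁻¹ * (σ * (y * t) * σ⁻¹), by
    have := mul_mem h (hn t t.2)
    convert this using 1
    group⟩
  have e : ∀ (n : ℕ) (t : R), ((f ^ n) t : G) = y⁻¹ * (σ ^ n * (y * t) * (σ ^ n)⁻¹) := fun n => by
    induction n with
    | zero => intro t; simp [Function.End.one_def]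
    | succ n ih =>
      intro t
      rw [pow_succ']
      change y⁻¹ * (σ * (y * ((f ^ n) t : G)) * σ⁻¹) = _
      rw [ih, pow_succ']
      group
  have m := Equiv.Perm.card_fixedPoints_modEq (f := f) (p := 2) (n := k)
    (funext fun t => Subtype.ext (by rw [e, hσ, inv_one, one_mul, mul_one, inv_mul_cancel_left]; rfl))
  rw [← Nat.card_eq_fintype_card] at m
  obtain ⟨t, ht⟩ : Nonempty f.fixedPoints := Fintype.card_pos_iff.1 (Nat.pos_of_ne_zero fun e => by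
    rw [e] at m
    exact (Nat.not_even_iff_odd.2 hR) (even_iff_two_dvd.2 ((Nat.modEq_zero_iff_dvd).1 m)))
  have e' : y⁻¹ * (σ * (y * t) * σ⁻¹) = t := congrArg Subtype.val ht
  exact ⟨t, t.2, inv_mul_eq_iff_eq_mul.1 e'⟩

theorem lift (O M : Subgroup G) (hO : Odd (Nat.card O)) (hn : ∀ g : G, ∀ x ∈ O, g * x * g⁻¹ ∈ O)
    (hM : ∀ g : G, ∀ x ∈ M, g * x * g⁻¹ ∈ M) (y s : G) (hy : y ∈ M) (n : ℕ) (hodd : Odd n) (hyn : y ^ n ∈ O)
    (hs : s * y * s⁻¹ * y ∈ O) :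
    ∃ w ∈ M, ∃ s' : G, Odd (orderOf w) ∧ s' * w * s'⁻¹ = w⁻¹ ∧ w * y ^ 2 ∈ O := by
  have : O.Normal := ⟨fun x hx g => hn g x hx⟩
  let π := QuotientGroup.mk' O
  have hπ : ∀ g, π g = 1 ↔ g ∈ O := fun g => QuotientGroup.eq_one_iff g
  obtain ⟨k, m, hm, e⟩ := Nat.exists_eq_two_pow_mul_odd (orderOf_pos s).ne'
  have h0 : π s * π y * (π s)⁻¹ = (π y)⁻¹ := by
    have := (hπ _).2 hs
    rwa [map_mul, map_mul, map_mul, map_inv, mul_eq_one_iff_eq_inv] at this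
  have h1 := R0.inv_pow h0 hm
  rw [← map_pow] at h1
  set a := s ^ m with ha
  have h1' : π a * (π y)⁻¹ * (π a)⁻¹ = π y := by rw [← conj_inv, h1, inv_inv]
  have ha2 : (a * a) ^ 2 ^ k = 1 := by
    rw [← sq, ← pow_mul, mul_comm, pow_mul, ha, ← pow_mul s, mul_comm m, ← e, pow_orderOf_eq_one, one_pow]
  obtain ⟨t, ht, et⟩ := R0.fix (R := O ⊓ M) (hO.of_dvd_nat (card_dvd_of_le inf_le_left)) (y := y) ha2
    (fun t ht => ⟨hn _ t ht.1, hM _ t ht.2⟩) ⟨(hπ _).1 (by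
      simp only [map_mul, map_inv]
      calc _ = (π y)⁻¹ * (π a * (π a * π y * (π a)⁻¹) * (π a)⁻¹) := by group
        _ = 1 := by rw [h1, h1', inv_mul_cancel]), M.mul_mem (M.inv_mem hy) (hM _ y hy)⟩
  have hz : y * t ∈ M := M.mul_mem hy ht.2
  have hπz : π (y * t) = π y := by rw [map_mul, (hπ t).2 ht.1, mul_one]
  have hw : π ((y * t)⁻¹ * (a * (y * t) * a⁻¹)) = (π y)⁻¹ * (π y)⁻¹ := by
    rw [map_mul, map_inv, hπz, map_mul, map_mul π a, map_inv, hπz, h1]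
  refine ⟨(y * t)⁻¹ * (a * (y * t) * a⁻¹), M.mul_mem (M.inv_mem hz) (hM a _ hz), a, ?_, ?_, (hπ _).1 ?_⟩
  · have h2 : ((y * t)⁻¹ * (a * (y * t) * a⁻¹)) ^ n ∈ O := (hπ _).1 (by
      rw [map_pow, hw, ← sq, ← pow_mul, mul_comm, pow_mul, inv_pow, ← map_pow, (hπ _).2 hyn]
      simp)
    refine (hodd.mul hO).of_dvd_nat (orderOf_dvd_of_pow_eq_one ?_)
    rw [pow_mul]
    exact orderOf_dvd_iff_pow_eq_one.1 (O.orderOf_dvd_natCard h2)
  · calc _ = (a * (y * t) * a⁻¹)⁻¹ * (a * a * (y * t) * (a * a)⁻¹) := by group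
      _ = _ := by rw [et]; group
  · rw [map_mul, hw, map_pow, sq]
    group

theorem r0 (X : Subgroup G)
    (h : ∀ y ∈ X, y ≠ 1 → Odd (orderOf y) → (∃ s ∈ X, s * y * s⁻¹ = y⁻¹) → InO y X) : Cl X := by
  have hnN : X ≤ nor (CS4.oc X) := CS4.norm_oc le_normalizer
  let O : Subgroup X := (CS4.oc X).subgroupOf X
  have hOn : O.Normal := (normal_subgroupOf_iff_le_normalizer (CS4.oc_le X)).2 hnN
  have hO : Odd (Nat.card O) := by
    rw [Nat.card_congr (subgroupOfEquivOfLe (CS4.oc_le X)).toEquiv]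
    exact CS4.oc_odd X
  let π := QuotientGroup.mk' O
  have hπ : ∀ g, π g = 1 ↔ g ∈ O := fun g => QuotientGroup.eq_one_iff g
  have hs : Function.Surjective π := QuotientGroup.mk'_surjective O
  let P : Sylow 2 (X ⧸ O) := default
  have hP : (P : Subgroup (X ⧸ O)).Normal := (S3861.result P).1 fun b hb ho hc => by
    obtain ⟨c, hc⟩ := isConj_iff.1 hc
    obtain ⟨y, rfl⟩ := hs b
    obtain ⟨s, rfl⟩ := hs c
    obtain ⟨w, -, s', w1, w2, w3⟩ := lift O ⊤ hO (fun g x hx => hOn.conj_mem x hx g) (fun _ _ _ => trivial)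
      y s trivial _ ho ((hπ _).1 (by rw [map_pow, pow_orderOf_eq_one]))
      ((hπ _).1 (by rw [map_mul, map_mul, map_mul, map_inv, hc, inv_mul_cancel]))
    have hw : w ∈ O := by
      by_cases e : (w : G) = 1
      · rw [show w = 1 from Subtype.ext e]; exact one_mem _
      obtain ⟨N, n1, n2, n3, n4⟩ := h w w.2 e (by rwa [orderOf_coe]) ⟨s', s'.2, congrArg Subtype.val w2⟩
      exact CS4.le_oc n1 n2 n3 n4
    have h2 : π y ^ 2 = 1 := by
      rw [← map_pow, hπ]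
      exact (mul_mem_cancel_left hw).1 w3
    exact hb (orderOf_eq_one_iff.1 (Nat.eq_one_of_dvd_coprimes (Nat.coprime_two_right.2 ho) dvd_rfl
      (orderOf_dvd_of_pow_eq_one h2)))
  let K : Subgroup X := (P : Subgroup (X ⧸ O)).comap π
  have hK : K.Normal := hP.comap π
  have eK : (K.map X.subtype).subgroupOf X = K := comap_map_eq_self_of_injective X.subtype_injective K
  refine ⟨CS4.oc X, K.map X.subtype, fun x hx => ⟨⟨x, CS4.oc_le X hx⟩, ?_, rfl⟩, map_subtype_le _, hnN,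
    (normal_subgroupOf_iff_le_normalizer (map_subtype_le _)).1 (eK.symm ▸ hK), CS4.oc_odd X, ?_, ?_⟩
  · show π _ ∈ (P : Subgroup (X ⧸ O))
    rw [(hπ _).2 hx]
    exact one_mem _
  · rw [relIndex, eK, index_comap_of_surjective _ hs, ← Nat.not_even_iff_odd, even_iff_two_dvd]
    exact P.not_dvd_index
  · obtain ⟨j, hj⟩ := IsPGroup.iff_card.1 P.isPGroup'
    refine ⟨j, ?_⟩
    have e1 : O = (⊥ : Subgroup (X ⧸ O)).comap π := by
      ext g
      rw [mem_comap, mem_bot, hπ]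
    rw [← relIndex_comap]
    change O.relIndex K = _
    calc O.relIndex K = ((⊥ : Subgroup (X ⧸ O)).comap π).relIndex K := congrArg (·.relIndex K) e1
      _ = _ := by rw [relIndex_comap, map_comap_eq_self_of_surjective hs, relIndex_bot_left, hj]

end Cfsg.Agent.RC
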