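import Cfsg.Agent.RC.Df2
import Cfsg.Agent.RC.R0
import Cfsg.Agent.H42.ZStar
import Cfsg.Agent.S0205

/-! RC/H2 (S3860). -/

set_option autoImplicit false
set_option linter.unusedSectionVars false

namespace Cfsg.Agent.RC

open Subgroup

universe u

variable {G : Type u} [Group G] [Finite G]

namespace H2

theorem solv_step {N K : Subgroup G} (hn : K ≤ nor N) (h1 : Group.IsSolvable N) (hle : N ≤ K)
    (h2 : Odd (N.relIndex K) ∨ ∃ j : ℕ, N.relIndex K = 2 ^ j) : Group.IsSolvable K := by
  have : (N.subgroupOf K).Normal := (normal_subgroupOf_iff_le_normalizer hle).2 hn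
  refine (Group.isSolvable_iff_subgroup_quotient (N.subgroupOf K)).2
    ⟨Group.isSolvable_of_isSolvable_injective (f := (subgroupOfEquivOfLe hle).toMonoidHom)
      (subgroupOfEquivOfLe hle).injective, ?_⟩
  rcases h2 with h | ⟨j, h⟩
  · exact S0205.result h
  · have := (IsPGroup.of_card (p := 2) (G := K ⧸ N.subgroupOf K) h).isNilpotent
    infer_instance

theorem solv {X : Subgroup G} (h : Cl X) : Group.IsSolvable X := by
  obtain ⟨N, K, h1, h2, h3, h4, h5, h6, h7⟩ := h
  exact solv_step h4 (solv_step (h2.trans h3) (S0205.result h5) h1 (Or.inr h7)) h2 (Or.inl h6)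

theorem cen_bot (hs : IsSimpleGroup G) (hn : ¬ IsMulCommutative G) : center G = ⊥ :=
  (hs.eq_bot_or_eq_top_of_normal _ inferInstance).resolve_right fun h =>
    hn ⟨⟨fun a b => mem_center_iff.1 (h ▸ mem_top b) a⟩⟩

end H2

theorem h2 {Γ : Subgroup (MulAut G)} (H : Hy Γ) (τ : MulAut G) (hτ : τ ∈ Γ) (h : orderOf τ = 2) : Cl (Fx τ) := by
  refine r0 _ fun y hy _ ho ⟨s, hs, e⟩ => H.b2 τ hτ h y ho hy (MulAut.conj s) (H.inn s) ?_ e
  ext x
  simp only [MulAut.mul_apply, MulAut.conj_apply, map_mul, map_inv, mem_Fx.1 hs]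

theorem h2t {Γ : Subgroup (MulAut G)} (H : Hy Γ) (t : G) (h : orderOf t = 2) : Cl (cen t) := by
  rw [← Fx_conj]
  refine h2 H _ (H.inn t) ?_
  rw [orderOf_injective MulAut.conj ?_ t, h]
  rw [← MonoidHom.ker_eq_bot_iff, eq_bot_iff, ← H2.cen_bot H.simp H.nab]
  intro g hg
  refine mem_center_iff.2 fun a => ?_
  have := congrArg (fun φ : MulAut G => φ a) (MonoidHom.mem_ker.1 hg)
  simp only [MulAut.conj_apply, MulAut.one_apply, mul_inv_eq_iff_eq_mul] at this
  exact this.symm

theorem h2c {Γ : Subgroup (MulAut G)} (H : Hy Γ) : ¬ Cfsg.IsComponentType G := by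
  rintro ⟨t, ht, K, -, h1, h2⟩
  have := H2.solv (h2t H t ht)
  have h3 : Nontrivial (K ⧸ center K) := h2.toNontrivial
  have h4 : Nontrivial K := (QuotientGroup.mk'_surjective (center K)).nontrivial
  exact (Group.IsSolvable.commutator_lt_top_of_nontrivial K).ne h1.commutator_eq_top

theorem basics (hs : IsSimpleGroup G) (hn : ¬ IsMulCommutative G) :
    Even (Nat.card G) ∧ (∀ N : Subgroup G, N.index ≠ 2) ∧ Cfsg.oddCore G = ⊥ ∧ center G = ⊥ ∧
      (∀ z : G, ¬ Cfsg.IsIsolatedInvolution z) ∧ ¬ Cfsg.PRankLE 2 1 G := by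
  have h1 : Even (Nat.card G) := Nat.not_odd_iff_even.1 fun h =>
    hn ⟨⟨IsSimpleGroup.comm_iff_isSolvable.2 (S0205.result h)⟩⟩
  have h2 : ∀ N : Subgroup G, N.Normal → Odd (Nat.card N) → N = ⊥ := fun N hN ho =>
    (hs.eq_bot_or_eq_top_of_normal N hN).resolve_right fun h => by
      rw [h, card_top] at ho
      exact Nat.not_odd_iff_even.2 h1 ho
  have h3 := H2.cen_bot hs hn
  have h4 : ∀ z : G, ¬ Cfsg.IsIsolatedInvolution z := fun z hz => by
    obtain ⟨N, hN, ho, hc⟩ := H42.zstar hz
    rw [h2 N hN ho] at hc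
    have : z ∈ center G := mem_center_iff.2 fun g => by
      have := mem_bot.1 (hc g)
      rw [mul_inv_eq_one, mul_inv_eq_iff_eq_mul] at this
      exact this.symm
    rw [h3, mem_bot] at this
    simpa [this] using hz.1
  refine ⟨h1, fun N hN => ?_, sSup_eq_bot.2 fun N hN => h2 N hN.1 (Nat.coprime_two_right.1 hN.2), h3, h4,
    fun h => ?_⟩
  · rcases hs.eq_bot_or_eq_top_of_normal N (normal_of_index_eq_two hN) with rfl | rfl
    · rw [index_bot] at hN
      exact hn (isCyclic_of_prime_card hN).isMulCommutative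
    · simp at hN
  · obtain ⟨z, hz⟩ := exists_prime_orderOf_dvd_card' (G := G) 2 h1.two_dvd
    refine h4 z ⟨hz, fun g hg => ?_⟩
    have z2 : z * z = 1 := by rw [← sq, ← hz, pow_orderOf_eq_one]
    have w2 : g * z * g⁻¹ * (g * z * g⁻¹) = 1 := by rw [conj_mul, z2, mul_one, mul_inv_cancel]
    have w1 : g * z * g⁻¹ ≠ 1 := fun e => by
      rw [mul_inv_eq_one, mul_eq_left] at e
      simp [e] at hz
    generalize g * z * g⁻¹ = w at hg w2 w1
    have hc : ∀ a ∈ ({z, w} : Set G), ∀ b ∈ ({z, w} : Set G), a * b = b * a := by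
      rintro a (rfl | rfl) b (rfl | rfl)
      exacts [rfl, hg.eq, hg.eq.symm, rfl]
    have hA : IsMulCommutative (closure ({z, w} : Set G)) := isMulCommutative_closure hc
    have h5 := h _ hA fun a ha => by
      induction ha using closure_induction with
      | mem x hx =>
        rcases hx with rfl | rfl
        exacts [by rw [sq, z2], by rw [sq, w2]]
      | one => exact one_pow _
      | mul x y hx hy h1 h2 =>
        have : Commute x y := congrArg Subtype.val (hA.is_comm.comm ⟨x, hx⟩ ⟨y, hy⟩)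
        rw [this.mul_pow, h1, h2, one_mul]
      | inv x _ h1 => rw [inv_pow, h1, inv_one]
    have h6 : zpowers z = closure ({z, w} : Set G) :=
      eq_of_le_of_card_ge (zpowers_le.2 (subset_closure (by simp))) (by rw [Nat.card_zpowers, hz]; exact h5)
    have h7 : w ∈ zpowers z := h6 ▸ subset_closure (by simp)
    classical
    rw [mem_zpowers_iff_mem_range_orderOf, hz] at h7
    simpa [Finset.range_add_one, w1, eq_comm] using h7

end Cfsg.Agent.RC
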