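import Cfsg.Agent.RC.Df2
import Cfsg.Agent.RC.B2b
import Cfsg.Agent.RC.B2c
import Cfsg.Agent.RC.H2
import Cfsg.Agent.DT.Cop2

/-! RC/B4 (S3860): the case `|Y| = 2` gives an isolated involution. -/

set_option autoImplicit false

namespace Cfsg.Agent.RC

open Subgroup

universe u

variable {G : Type u} [Group G] [Finite G]

variable {F : G → Subgroup G} {t l : G} {τ : MulAut G}

namespace B4b

theorem cjm {D : Subgroup G} {g a : G} (hg : g ∈ nor D) (ha : a ∈ D) : g * a * g⁻¹ ∈ D :=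
  (mem_normalizer_iff.1 hg a).1 ha

/-- the preimage of the fixed points of `F t` on `B / Y` -/
def A0 (C : C1 F) (P : Pr t l) : Subgroup G where
  carrier := {b | b ∈ Bt F t l ∧ ∀ f ∈ F t, f * b * f⁻¹ * b⁻¹ ∈ Yt F t l}
  one_mem' := ⟨one_mem _, fun f _ => by rw [mul_one, mul_inv_cancel, inv_one, mul_one]; exact one_mem _⟩
  mul_mem' := fun {b c} hb hc => ⟨mul_mem hb.1 hc.1, fun f hf => by
    rw [show f * (b * c) * f⁻¹ * (b * c)⁻¹ = f * b * f⁻¹ * b⁻¹ * (b * (f * c * f⁻¹ * c⁻¹) * b⁻¹) by group]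
    exact mul_mem (hb.2 f hf) (cjm (nY C P (le_normalizer hb.1)) (hc.2 f hf))⟩
  inv_mem' := fun {b} hb => ⟨inv_mem hb.1, fun f hf => by
    rw [show f * b⁻¹ * f⁻¹ * b⁻¹⁻¹ = b⁻¹ * (f * b * f⁻¹ * b⁻¹)⁻¹ * b⁻¹⁻¹ by group]
    exact cjm (nY C P (le_normalizer (inv_mem hb.1))) (inv_mem (hb.2 f hf))⟩

theorem lA (C : C1 F) (P : Pr t l) : l ∈ nor (A0 C P) :=
  mem_normalizer_fintype fun b hb => ⟨cjm (b3_lB C P) hb.1, fun f hf => by
    rw [show f * (l * b * l⁻¹) * f⁻¹ * (l * b * l⁻¹)⁻¹ =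
      l * (l⁻¹ * f * l⁻¹⁻¹ * b * (l⁻¹ * f * l⁻¹⁻¹)⁻¹ * b⁻¹) * l⁻¹ by group]
    exact cjm (nY C P (b3_lB C P)) (hb.2 _ (cjm (nF C.toC0 P.inv (inv_mem P.cm)) hf))⟩

theorem YA (C : C1 F) (P : Pr t l) : Yt F t l ≤ A0 C P := fun _ hy =>
  ⟨hy.1, fun _ hf => mul_mem (cjm (nY C P (nB C.toC0 P hf)) hy) (inv_mem hy)⟩

theorem allA (C : C1 F) (P : Pr t l) (h : Nat.card (Yt F t l) = 2) : A0 C P = Bt F t l := by
  obtain ⟨o3, c8⟩ := b2b' C P h
  have AB : A0 C P ≤ Bt F t l := fun b hb => hb.1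
  have p := C.p2 t P.inv
  obtain ⟨v, hv, hv', e⟩ := DT.fix_coset Nat.prime_two (N := Yt F t l) p (p.to_le (B_le C.toC0 P)) inf_le_left
    (fun e => by rw [e, c8] at h; omega) (le_normalizer.trans (nY C P)) (nB C.toC0 P)
    ((nB C.toC0 P).trans (nY C P))
  have vA : v ∈ A0 C P := ⟨hv, fun f hf => by
    rw [show f * v * f⁻¹ * v⁻¹ = (v * f * v⁻¹ * f⁻¹)⁻¹ by group]
    exact inv_mem (e f hf)⟩
  have m := B2c.md P.pr (lA C P)
  rw [show A0 C P ⊓ cen l = Yt F t l from le_antisymm (inf_le_inf_right _ AB) (le_inf (YA C P) inf_le_right),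
    h, o3] at m
  obtain ⟨n, hn⟩ := B2c.pw C P AB
  have h8 : Nat.card (A0 C P) ≤ 8 := c8 ▸ Subgroup.card_le_of_le AB
  have h2 : ¬ Nat.card (A0 C P) ≤ 2 := fun k =>
    hv' ((eq_of_le_of_card_ge (YA C P) (by rw [h]; exact k)).ge vA)
  refine eq_of_le_of_card_ge AB ?_
  rw [c8]
  rw [hn] at m h8 h2 ⊢
  match n with
  | 0 => simp at h2
  | 1 => simp at h2
  | 2 => exact absurd m (by decide)
  | n + 3 => rw [pow_add]; have := Nat.one_le_two_pow (n := n); omega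

theorem cent (C : C1 F) (P : Pr t l) (h : Nat.card (Yt F t l) = 2) {d : G} (hd : d ∈ F t) (hl : d ∈ cen l) :
    d ∈ Cs (Bt F t l) :=
  hom C P d hl (nB C.toC0 P hd) fun _ hb => ((allA C P h).ge hb).2 d hd

theorem invD (C : C1 F) (P : Pr t l) (h : Nat.card (Yt F t l) = 2) {u : G} (hd : u ∈ F t) (hl : u ∈ cen l)
    (o : orderOf u = 2) : u = t := by
  have hc := cent C P h hd hl
  have P' := Pu P o hl
  have S := b1 C P
  have h1 : Bt F t l ≤ cen u := fun b hb => mem_cen.2 (mem_centralizer_iff.1 hc b hb)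
  have h2 : Bt F t l ≤ F u := Fsyl C.toC0 o _ ((C.p2 t P.inv).to_le (B_le C.toC0 P)) h1
  have h3 : Bt F t l ≤ Bt F u l := by
    rw [← BB C.toC0 P]
    exact commutator_mono h2 le_rfl
  have h4 : Bt F u l ≤ Bt F t l := g1 C P' P.inv ⟨h3 S.tY.1, S.tY.2⟩
  have t1 : t ≠ 1 := fun e => by have := P.inv; rw [e] at this; simp at this
  refine (B2b.two h S.tY t1 (y := u) ⟨h4 (b1 C P').tY.1, hl⟩).resolve_left fun e => ?_
  rw [e] at o
  simp at o

theorem sqD (C : C1 F) (P : Pr t l) (h : Nat.card (Yt F t l) = 2) {f : G} (hf : f ∈ F t)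
    (o : orderOf (f * f) = 2) : f * f = t := by
  obtain ⟨b, hb, d, hd, rfl⟩ := dec C.toC0 P f hf
  refine invD C P h (mul_mem hf hf) ?_ o
  have e : b * d = d * b := mem_centralizer_iff.1 (cent C P h hd.1 hd.2) b hb
  rw [show b * d * (b * d) = b * (d * b) * d by group, ← e, show b * (b * d) * d = b * b * (d * d) by group]
  exact mul_mem ((b1 C P).sq b hb).2 (mul_mem hd.2 hd.2)

theorem no2 (C : C1 F) (P : Pr t l) : Nat.card (Yt F t l) ≠ 2 := fun h => by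
  refine (basics C.simp C.nab).2.2.2.2.1 t ⟨P.inv, fun g hg => ?_⟩
  have P' := Pcj P g
  have h' : Nat.card (Yt F (g * t * g⁻¹) (g * l * g⁻¹)) = 2 := by
    rw [(Bcj C.toC0 P g).2, Subgroup.card_map_of_injective (MulAut.conj g).injective, h]
  obtain ⟨u, hu⟩ : ∃ u, u = g * t * g⁻¹ := ⟨_, rfl⟩
  rw [← hu] at hg P' h' ⊢
  have uF : u ∈ F t := (C.mem t P.inv u).2 ⟨mem_cen.2 hg.eq.symm, 1, by rw [pow_one, ← P'.inv, pow_orderOf_eq_one]⟩
  obtain ⟨b, hb, d, hd, e⟩ := dec C.toC0 P u uF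
  by_cases hY : b ∈ Yt F t l
  · exact invD C P h uF (e ▸ mul_mem hY.2 hd.2) P'.inv
  have bb := b2b C P h b hb hY
  have c : b * d = d * b := mem_centralizer_iff.1 (cent C P h hd.1 hd.2) b hb
  have bF : b ∈ F u := (C.mem u P'.inv b).2 ⟨mem_cen.2 (by rw [e, mul_assoc, ← c]),
    ((C.mem t P.inv b).1 (B_le C.toC0 P hb)).2⟩
  rw [← sqD C P' h' bF (by rw [bb]; exact P.inv), bb]

theorem b4 (C : C1 F) : Big F := fun _ _ P => by
  have h := (b1 C P).c4.resolve_left (no2 C P)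
  exact ⟨(b2c C P h).1, h, (b2c C P h).2⟩

end B4b

theorem b4 (C : C1 F) : Big F := B4b.b4 C

end Cfsg.Agent.RC
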