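import Cfsg.Agent.RC.Df2
import Cfsg.Agent.RC.B4
import Cfsg.Agent.DT.Cop
import Cfsg.Agent.DT.Cop2

/-! RC/B5 (S3860). -/

set_option autoImplicit false

namespace Cfsg.Agent.RC

open Subgroup

universe u

variable {G : Type u} [Group G] [Finite G]

variable {F : G → Subgroup G} {t l : G} {τ : MulAut G}

namespace B5Aux

theorem ord2 {y : G} (h : y * y = 1) (h1 : y ≠ 1) : orderOf y = 2 := orderOf_eq_prime (by rw [sq, h]) h1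

theorem by0 (H : Bg F t l) {y : G} (hy : y ∈ Yt F t l) (h1 : y ≠ 1) : Bg F y l ∧ Bt F y l = Bt F t l := by
  have o := ord2 ((b1 H.c1 H.pr).el y hy) h1
  have P := Pu H.pr o hy.2
  refine ⟨⟨H.c1, H.big, P⟩, (eq_of_le_of_card_ge (g1 H.c1 H.pr o hy) ?_).symm⟩
  rw [(H.big _ _ P).2.2, (H.big _ _ H.pr).2.2]

theorem cjm {D : Subgroup G} {g a : G} (hg : g ∈ nor D) (ha : a ∈ D) : g * a * g⁻¹ ∈ D :=
  (mem_normalizer_iff.1 hg a).1 ha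

/-- the preimage of the fixed points of `F t` on `B / Y` -/
def A0 (H : Bg F t l) : Subgroup G where
  carrier := {b | b ∈ Bt F t l ∧ ∀ f ∈ F t, f * b * f⁻¹ * b⁻¹ ∈ Yt F t l}
  one_mem' := ⟨one_mem _, fun f _ => by rw [mul_one, mul_inv_cancel, inv_one, mul_one]; exact one_mem _⟩
  mul_mem' := fun {b c} hb hc => ⟨mul_mem hb.1 hc.1, fun f hf => by
    rw [show f * (b * c) * f⁻¹ * (b * c)⁻¹ = f * b * f⁻¹ * b⁻¹ * (b * (f * c * f⁻¹ * c⁻¹) * b⁻¹) by group]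
    exact mul_mem (hb.2 f hf) (cjm (nY H.c1 H.pr (le_normalizer hb.1)) (hc.2 f hf))⟩
  inv_mem' := fun {b} hb => ⟨inv_mem hb.1, fun f hf => by
    rw [show f * b⁻¹ * f⁻¹ * b⁻¹⁻¹ = b⁻¹ * (f * b * f⁻¹ * b⁻¹)⁻¹ * b⁻¹⁻¹ by group]
    exact cjm (nY H.c1 H.pr (le_normalizer (inv_mem hb.1))) (inv_mem (hb.2 f hf))⟩

theorem lB (H : Bg F t l) : l ∈ nor (Bt F t l) := nBc H.c1.toC0 H.pr ⟨H.pr.cm, mem_cen.2 rfl⟩

theorem lA (H : Bg F t l) : l ∈ nor (A0 H) := mem_normalizer_fintype fun b hb => ⟨cjm (lB H) hb.1, fun f hf => by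
  rw [show f * (l * b * l⁻¹) * f⁻¹ * (l * b * l⁻¹)⁻¹ =
    l * (l⁻¹ * f * l⁻¹⁻¹ * b * (l⁻¹ * f * l⁻¹⁻¹)⁻¹ * b⁻¹) * l⁻¹ by group]
  exact cjm (nY H.c1 H.pr (lB H)) (hb.2 _ (cjm (nF H.c1.toC0 H.pr.inv (inv_mem H.pr.cm)) hf))⟩

theorem YA (H : Bg F t l) : Yt F t l ≤ A0 H := fun _ hy =>
  ⟨hy.1, fun _ hf => mul_mem (cjm (nY H.c1 H.pr (nB H.c1.toC0 H.pr hf)) hy) (inv_mem hy)⟩

theorem not_el (H : Bg F t l) : ¬ ∀ a ∈ A0 H, a * a = 1 := fun h => by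
  have C := H.c1.toC0
  obtain ⟨τ, T⟩ := H.c1.tau t H.pr.inv
  have k := e4 T (A0 H) (fun a ha => B_le C H.pr ha.1) h fun b hb => ⟨(Btau C H.pr T b).2 hb.1, fun f hf => by
    have e : τ (τ f) = f := by rw [← MulAut.mul_apply, T.sq, MulAut.one_apply]
    have := (Ytau H.c1 H.pr T _).2 (hb.2 _ ((Ftau C H.pr.inv T.fix f).2 hf))
    rwa [map_mul, map_mul, map_mul, map_inv, map_inv, e] at this⟩
  obtain ⟨-, c4, c64⟩ := H.big _ _ H.pr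
  have p := C.p2 t H.pr.inv
  obtain ⟨v, hv, hv', e⟩ := DT.fix_coset Nat.prime_two (N := Yt F t l) p (p.to_le (B_le C H.pr)) inf_le_left
    (fun e => by rw [e, c64] at c4; omega) (le_normalizer.trans (nY H.c1 H.pr)) (nB C H.pr)
    ((nB C H.pr).trans (nY H.c1 H.pr))
  refine hv' ((eq_of_le_of_card_ge (YA H) (by rw [c4]; exact k)).ge ⟨hv, fun f hf => ?_⟩)
  rw [show f * v * f⁻¹ * v⁻¹ = (v * f * v⁻¹ * f⁻¹)⁻¹ by group]
  exact inv_mem (e f hf)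

end B5Aux

theorem b5 (H : Bg F t l) {u : G} (hu : u ∈ F t) (hl : u ∈ cen l) (h2 : u * u = 1) : u ∈ Yt F t l := by
  by_cases u1 : u = 1
  · rw [u1]
    exact one_mem _
  have C := H.c1.toC0
  have S := b1 H.c1 H.pr
  have o := B5Aux.ord2 h2 u1
  have P := Pu H.pr o hl
  have ul : u * l = l * u := mem_cen.1 hl
  have l2 : orderOf l ≠ 2 := by rw [(H.big _ _ H.pr).1]; decide
  have pA : IsPGroup 2 (B5Aux.A0 H) := (C.p2 t H.pr.inv).to_le fun a ha => B_le C H.pr ha.1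
  have lA := B5Aux.lA H
  have k1 : DT.cm (B5Aux.A0 H) l ≤ cen u := DT.cm_le_of (le_normalizer (mem_cen.2 ul.symm)) fun a ha => by
    have hy := ha.2 u hu
    have hw : a * l * a⁻¹ * l⁻¹ ∈ Bt F t l := by
      have := mul_mem ha.1 (B5Aux.cjm (B5Aux.lB H) (inv_mem ha.1))
      rwa [← mul_assoc, ← mul_assoc] at this
    have c1 := ((S.cz _).1 hy).2 _ hw
    have c2 : u * a * u⁻¹ * a⁻¹ * l = l * (u * a * u⁻¹ * a⁻¹) := mem_cen.1 hy.2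
    have c3 : u * l * u⁻¹ = l := by rw [ul, mul_inv_cancel_right]
    obtain ⟨y, e⟩ : ∃ y, y = u * a * u⁻¹ * a⁻¹ := ⟨_, rfl⟩
    rw [← e] at c1 c2
    have e1 : u * a * u⁻¹ = y * a := by rw [e]; group
    have e2 : y⁻¹ * l⁻¹ = l⁻¹ * y⁻¹ := by rw [← mul_inv_rev, ← c2, mul_inv_rev]
    rw [mem_cen, eq_comm, ← mul_inv_eq_iff_eq_mul]
    calc u * (a * l * a⁻¹ * l⁻¹) * u⁻¹ = u * a * u⁻¹ * (u * l * u⁻¹) * (u * a * u⁻¹)⁻¹ * (u * l * u⁻¹)⁻¹ := by group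
      _ = y * (a * l * a⁻¹) * (y⁻¹ * l⁻¹) := by rw [c3, e1]; group
      _ = y * (a * l * a⁻¹ * l⁻¹) * y⁻¹ := by rw [e2]; group
      _ = a * l * a⁻¹ * l⁻¹ := by rw [← c1, mul_inv_cancel_right]
  have k2 : DT.cm (B5Aux.A0 H) l ≤ Bt F u l := by
    rw [← DT.cop_cm_cm H.pr.pr Nat.prime_two l2 pA (pow_orderOf_eq_one l) lA]
    exact commutator_mono (Fsyl C o _ (pA.to_le (DT.cm_le lA)) k1) le_rfl
  by_contra hn
  refine B5Aux.not_el H fun a ha => ?_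
  obtain ⟨e, he, c, hc, cl, rfl⟩ := DT.cop_decomp H.pr.pr Nat.prime_two l2 pA (pow_orderOf_eq_one l) lA ha
  have eB : e ∈ Bt F t l := (DT.cm_le lA he).1
  have cY : c ∈ Yt F t l := ⟨hc.1, mem_cen.2 cl⟩
  have ec : e * c = c * e := ((S.cz _).1 cY).2 _ eB
  have e2 : e * e = 1 := by
    by_contra e1
    have y1 := S.sq e eB
    have b1' := (B5Aux.by0 H y1 e1).2
    have b2 := (B5Aux.by0 (t := u) ⟨H.c1, H.big, P⟩ ⟨mul_mem (k2 he) (k2 he), y1.2⟩ e1).2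
    exact hn ⟨(b2.symm.trans b1').le (b1 H.c1 P).tY.1, hl⟩
  rw [mul_assoc, ← mul_assoc c, ← ec, mul_assoc e, S.el c cY, mul_one, e2]

theorem BY (H : Bg F t l) {y : G} (hy : y ∈ Yt F t l) (h1 : y ≠ 1) : Bg F y l ∧ Bt F y l = Bt F t l :=
  B5Aux.by0 H hy h1

end Cfsg.Agent.RC
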