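import Cfsg.Agent.RC.Df2
import Cfsg.Agent.RC.B5

/-! RC/B6 (S3860): the four-group `Y` depends only on the involution. -/

set_option autoImplicit false

namespace Cfsg.Agent.RC

open Subgroup

universe u

variable {G : Type u} [Group G] [Finite G]

variable {F : G → Subgroup G} {t l : G} {τ : MulAut G}

theorem b6_four (Y : Subgroup G) (c4 : Nat.card Y = 4) (ht : orderOf t = 2) (tY : t ∈ Y) {x : G}
    (o3 : orderOf x = 3) (hx : x ∈ cen t) (hn : x ∈ nor Y) {y : G} (hy : y ∈ Y) : y ∈ cen x := by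
  have t1 : t ≠ 1 := by rintro rfl; simp at ht
  have tt : t * t = 1 := by rw [← pow_two, ← ht, pow_orderOf_eq_one]
  have x3 : x * x * x = 1 := by
    have := pow_orderOf_eq_one x
    rw [o3] at this
    simpa [pow_succ] using this
  have xt : x * t = t * x := mem_cen.1 hx
  rw [mem_cen]
  by_cases y1 : y = 1
  · simp [y1]
  by_cases yt : y = t
  · rw [yt, xt]
  have h1 : y * t ≠ 1 := fun h => yt (by
    have : y * t * t = t := by rw [h, one_mul]
    rwa [mul_assoc, tt, mul_one] at this)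
  have h2 : y * t ≠ t := fun h => y1 (mul_right_cancel (h.trans (one_mul t).symm))
  have h3 : y * t ≠ y := fun h => t1 (mul_left_cancel (h.trans (mul_one y).symm))
  have hs : ({1, t, y, y * t} : Set G) = (Y : Set G) := by
    refine Set.eq_of_subset_of_ncard_le ?_ ?_ (Set.toFinite _)
    · intro z hz
      rcases hz with rfl | rfl | rfl | rfl
      · exact Y.one_mem
      · exact tY
      · exact hy
      · exact Y.mul_mem hy tY
    · have e1 : (Y : Set G).ncard = 4 := by rw [← Nat.card_coe_set_eq]; exact c4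
      have e2 : ({1, t, y, y * t} : Set G).ncard = 4 :=
        Set.ncard_eq_four.2 ⟨1, t, y, y * t, t1.symm, fun h => y1 h.symm, h1.symm, fun h => yt h.symm, h2.symm,
          h3.symm, rfl⟩
      rw [e1, e2]
  have hz : x * y * x⁻¹ ∈ Y := (mem_normalizer_iff.1 hn y).1 hy
  have hz' : x * y * x⁻¹ ∈ ({1, t, y, y * t} : Set G) := by rw [hs]; exact hz
  rcases hz' with h | h | h | h
  · exfalso
    apply y1
    have : y = x⁻¹ * (x * y * x⁻¹) * x := by group
    rw [this, h]; group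
  · exfalso
    apply yt
    have : y = x⁻¹ * (x * y * x⁻¹) * x := by group
    rw [this, h, mul_assoc, ← xt]; group
  · have : y * x = x * y * x⁻¹ * x := by rw [h]
    rw [this]; group
  · have h : x * y * x⁻¹ = y * t := h
    have e : x * y = y * t * x := by rw [← h]; group
    have e2 : x * x * y = y * (x * x) := by
      calc x * x * y = x * (y * t * x) := by rw [mul_assoc, e]
        _ = (x * y) * t * x := by group
        _ = y * t * (x * t) * x := by rw [e]; group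
        _ = y * (t * t) * (x * x) := by rw [xt]; group
        _ = y * (x * x) := by rw [tt, mul_one]
    have e3 : x = (x * x) * (x * x) := by
      calc x = (x * x * x) * x := by rw [x3, one_mul]
        _ = _ := by group
    calc y * x = y * (x * x) * (x * x) := by rw [mul_assoc, ← e3]
      _ = (x * x * y) * (x * x) := by rw [e2]
      _ = x * x * (y * (x * x)) := by rw [mul_assoc (x * x) y]
      _ = (x * x) * (x * x) * y := by rw [← e2]; group
      _ = x * y := by rw [← e3]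

theorem b6_A (H : Bg F t l) {l1 : G} (P1 : Pr t l1) (hc : l1 ∈ cen l) : Yt F t l1 = Yt F t l := by
  have C := H.c1
  have S := b1 C H.pr
  have c4 := (H.big t l H.pr).2.1
  have c4' := (H.big t l1 P1).2.1
  have o3 := (H.big t l1 P1).1
  have hn : l1 ∈ nor (Yt F t l) := nY C H.pr (nBc C.toC0 H.pr ⟨P1.cm, hc⟩)
  symm
  apply Subgroup.eq_of_le_of_card_ge _ (by rw [c4, c4'])
  intro y hy
  have H1 : Bg F t l1 := ⟨C, H.big, P1⟩
  exact b5 H1 (B_le C.toC0 H.pr hy.1) (b6_four _ c4 H.pr.inv S.tY o3 P1.cm hn hy) (S.el y hy)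

theorem b6_B (H : Bg F t l) {q : G} (hq : q ∈ F t) : Pr t (q * l * q⁻¹) ∧ Yt F t (q * l * q⁻¹) = Yt F t l := by
  have C := H.c1
  have qt : q * t * q⁻¹ = t := by
    have := mem_cen.1 ((tF C.toC0 H.pr.inv).2 hq)
    rw [this]; group
  have h1 := Pcj H.pr q
  have h2 := (Bcj C.toC0 H.pr q).2
  rw [qt] at h1 h2
  refine ⟨h1, h2.trans ?_⟩
  have hn : q ∈ nor (Yt F t l) := nY C H.pr (nB C.toC0 H.pr hq)
  ext a
  rw [mem_cj]
  have := mem_normalizer_iff.1 (inv_mem hn) a
  rw [inv_inv] at this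
  exact this.symm

theorem b6a (H : Bg F t l) {l' : G} (P' : Pr t l') : Yt F t l' = Yt F t l := by
  have C := H.c1
  have ht := H.pr.inv
  have : Fact (Nat.Prime 3) := ⟨Nat.prime_three⟩
  have hle : F t ≤ cen t := (tF C.toC0 ht).2
  have hQ : ((F t).subgroupOf (cen t)).Normal :=
    (Subgroup.normal_subgroupOf_iff_le_normalizer hle).2 (nF C.toC0 ht)
  have hp : ∀ {x : G} (P : Pr t x), IsPGroup 3 (zpowers (⟨x, P.cm⟩ : cen t)) := fun {x} P => by
    apply IsPGroup.of_card (n := 1)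
    rw [Nat.card_zpowers, Subgroup.orderOf_mk, (H.big t x P).1, pow_one]
  obtain ⟨R, hR⟩ := (hp H.pr).exists_le_sylow
  obtain ⟨R', hR'⟩ := (hp P').exists_le_sylow
  have lR : (⟨l, H.pr.cm⟩ : cen t) ∈ (R : Subgroup (cen t)) := hR (mem_zpowers _)
  have lR' : (⟨l', P'.cm⟩ : cen t) ∈ (R' : Subgroup (cen t)) := hR' (mem_zpowers _)
  have htop : (F t).subgroupOf (cen t) ⊔ (R : Subgroup (cen t)) = ⊤ := by
    rw [← Subgroup.index_eq_one]
    by_contra hne
    obtain ⟨p, pp, hd⟩ := Nat.exists_prime_and_dvd hne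
    have d1 : p ∣ (F t).index := by
      refine hd.trans ((Subgroup.index_dvd_of_le le_sup_left).trans ?_)
      exact Dvd.intro _ (Subgroup.relIndex_mul_index hle)
    have d2 : p ∣ (R : Subgroup (cen t)).index := hd.trans (Subgroup.index_dvd_of_le le_sup_right)
    have d3 : p ∣ Nat.card (cen t) := hd.trans (Subgroup.index_dvd_card _)
    have : Fact p.Prime := ⟨pp⟩
    obtain ⟨x, hx⟩ := exists_prime_orderOf_dvd_card' p d3
    have hx' : orderOf (x : G) = p := by rw [Subgroup.orderOf_coe, hx]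
    have po : Odd p := Odd.of_dvd_nat (C.odd t ht) d1
    have : orderOf (x : G) = 3 := (H.big t x ⟨ht, hx' ▸ pp, hx' ▸ po, x.2⟩).1
    rw [hx'] at this
    subst this
    exact R.not_dvd_index d2
  obtain ⟨g, hg⟩ := MulAction.exists_smul_eq (cen t) R' R
  have hg' : g⁻¹ ∈ (F t).subgroupOf (cen t) ⊔ (R : Subgroup (cen t)) := htop ▸ mem_top _
  obtain ⟨q, hq, r, hr, hqr⟩ := Subgroup.mem_sup_of_normal_left.1 hg'
  have m1 : g * (⟨l', P'.cm⟩ : cen t) * g⁻¹ ∈ (R : Subgroup (cen t)) := by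
    rw [← hg, Sylow.coe_subgroup_smul]
    exact Subgroup.smul_mem_pointwise_smul _ (MulAut.conj g) _ lR'
  have m2 : q⁻¹ * (⟨l', P'.cm⟩ : cen t) * q⁻¹⁻¹ ∈ (R : Subgroup (cen t)) := by
    have e : q⁻¹ * (⟨l', P'.cm⟩ : cen t) * q⁻¹⁻¹ = r * (g * (⟨l', P'.cm⟩ : cen t) * g⁻¹) * r⁻¹ := by
      have : g = r⁻¹ * q⁻¹ := by rw [← mul_inv_rev, hqr, inv_inv]
      rw [this]; group
    rw [e]
    exact mul_mem (mul_mem hr m1) (inv_mem hr)
  have H' : Bg F t l' := ⟨C, H.big, P'⟩
  obtain ⟨P2, e2⟩ := b6_B H' (q := (q : G)⁻¹) (inv_mem (Subgroup.mem_subgroupOf.1 hq))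
  have : Nontrivial (R : Subgroup (cen t)) := by
    refine ⟨⟨⟨_, lR⟩, 1, fun h => ?_⟩⟩
    have : l = 1 := congrArg (fun z : (R : Subgroup (cen t)) => ((z : cen t) : G)) h
    have o := (H.big t l H.pr).1
    rw [this] at o
    simp at o
  have := R.isPGroup'.center_nontrivial
  have hZ : IsPGroup 3 (center (R : Subgroup (cen t))) := R.isPGroup'.to_subgroup _
  obtain ⟨n, hn0, hn⟩ := hZ.nontrivial_iff_card.1 inferInstance
  obtain ⟨z, hz⟩ := exists_prime_orderOf_dvd_card' (G := center (R : Subgroup (cen t))) 3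
    (by rw [hn]; exact dvd_pow_self 3 hn0.ne')
  have oz : orderOf (((z : (R : Subgroup (cen t))) : cen t) : G) = 3 := by
    rw [Subgroup.orderOf_coe, Subgroup.orderOf_coe, Subgroup.orderOf_coe, hz]
  have P0 : Pr t (((z : (R : Subgroup (cen t))) : cen t) : G) :=
    ⟨ht, by rw [oz]; exact Nat.prime_three, by rw [oz]; decide, ((z : (R : Subgroup (cen t))) : cen t).2⟩
  have zc : ∀ x : cen t, x ∈ (R : Subgroup (cen t)) → (((z : (R : Subgroup (cen t))) : cen t) : G) ∈ cen (x : G) := by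
    intro x hx
    have := Subgroup.mem_center_iff.1 z.2 ⟨x, hx⟩
    rw [mem_cen]
    exact (congrArg (fun w : (R : Subgroup (cen t)) => ((w : cen t) : G)) this).symm
  have a1 := b6_A H P0 (zc _ lR)
  have a2 := b6_A (⟨C, H.big, P2⟩ : Bg F t _) P0 (zc _ m2)
  rw [← e2, ← a2, a1]

theorem b6 (H : Bg F t l) {t' l' y : G} (P' : Pr t' l') (hy : y ∈ Yt F t l) (hy' : y ∈ Yt F t' l') (h1 : y ≠ 1) :
    Yt F t' l' = Yt F t l := by
  obtain ⟨H1, e1⟩ := BY H hy h1
  obtain ⟨H2, e2⟩ := BY (⟨H.c1, H.big, P'⟩ : Bg F t' l') hy' h1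
  have := b6a H1 H2.pr
  show Bt F t' l' ⊓ cen l' = Bt F t l ⊓ cen l
  rw [← e1, ← e2]
  exact this

theorem b6z (H : Bg F t l) {u : G} (hu : orderOf u = 2) : ∃ g : G, Pr u (g * l * g⁻¹) ∧
    Yt F u (g * l * g⁻¹) = cj g (Yt F t l) := by
  have C := H.c1
  have ht := H.pr.inv
  obtain ⟨g, hg⟩ := Fconj C ht u hu
  have uF : g⁻¹ * u * g ∈ F t := by
    have := (tF C.toC0 hu).1
    rwa [hg, mem_cj] at this
  have uu : u * u = 1 := by rw [← pow_two, ← hu, pow_orderOf_eq_one]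
  have uC : g⁻¹ * u * g ∈ Cs (Bt F t l) := by
    rw [mem_centralizer_iff]
    intro b hb
    have hb' : g * b * g⁻¹ ∈ F u := by
      rw [hg, mem_cj]
      have : g⁻¹ * (g * b * g⁻¹) * g = b := by group
      rw [this]
      exact B_le C.toC0 H.pr hb
    have e := mem_cen.1 ((tF C.toC0 hu).2 hb')
    calc b * (g⁻¹ * u * g) = g⁻¹ * (g * b * g⁻¹ * u) * g := by group
      _ = g⁻¹ * (u * (g * b * g⁻¹)) * g := by rw [e]
      _ = _ := by group
  have uY : g⁻¹ * u * g ∈ Yt F t l := b5 H uF (cB C H.pr ⟨uF, uC⟩) (by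
    calc g⁻¹ * u * g * (g⁻¹ * u * g) = g⁻¹ * (u * u) * g := by group
      _ = 1 := by rw [uu]; group)
  have u1 : g⁻¹ * u * g ≠ 1 := fun h => by
    have : u = g * (g⁻¹ * u * g) * g⁻¹ := by group
    rw [h, mul_one, mul_inv_cancel] at this
    rw [this] at hu
    simp at hu
  obtain ⟨H1, e1⟩ := BY H uY u1
  have h1 := Pcj H1.pr g
  have h2 := (Bcj C.toC0 H1.pr g).2
  have e : g * (g⁻¹ * u * g) * g⁻¹ = u := by group
  rw [e] at h1 h2
  refine ⟨g, h1, h2.trans ?_⟩
  show cj g (Bt F (g⁻¹ * u * g) l ⊓ cen l) = cj g (Bt F t l ⊓ cen l)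
  rw [e1]

end Cfsg.Agent.RC
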