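import Cfsg.Agent.RC.Df2
import Cfsg.Agent.RC.B4

/-! RC/B7a (S3860). PROOF: B/Y is a 2-dim F4-space (l=ω, l³=1 fpf so b·b^l·b^{l²}∈Y). Sm is an equivalence on B; points have 3 cosets. Sm_sq: squares constant on Y-cosets, l fixes Y. two: x fixes a nonzero vector of each point (2-element permuting 3 cosets) hence all of it (commutes with l); two points span B/Y (pointwise-fixed set is a subgroup of order >16, l-invariant, order 4·4^k). fix1: a 2-group element has a nonzero fixed vector. span: the subgroup {b1 | b1∈Y ∨ Sm b b1} has order 16. -/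

set_option autoImplicit false
set_option linter.unusedSectionVars false

namespace Cfsg.Agent.RC

open Subgroup

universe u

variable {G : Type u} [Group G] [Finite G]

variable {F : G → Subgroup G} {t l : G} {τ : MulAut G}

namespace B7a

/-- the point relation in the quotient -/
def Pt {V : Type u} (ω : V → V) (a b : V) : Prop := b = a ∨ b = ω a ∨ b = ω (ω a)

structure Md (B Y : Subgroup G) (l : G) {V : Type u} [CommGroup V] (π : G → V) (ω : V →* V) : Prop where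
  mul : ∀ a ∈ B, ∀ b ∈ B, π (a * b) = π a * π b
  one : ∀ a ∈ B, π a = 1 ↔ a ∈ Y
  cj : ∀ a ∈ B, π (l * a * l⁻¹) = ω (π a)
  sur : ∀ v, ∃ a ∈ B, π a = v
  sq : ∀ v : V, v * v = 1
  w3 : ∀ v, ω (ω (ω v)) = v
  f1 : ∀ v, ω v = v → v = 1
  card : Nat.card V = 16
  sub : ∀ U : Subgroup V, Nat.card U = 4 → ∃ W : Subgroup G, Nat.card W = 16 ∧ ∀ b, b ∈ W ↔ b ∈ B ∧ π b ∈ U

theorem lB (H : Bg F t l) : l ∈ nor (Bt F t l) :=
  nBc H.c1.toC0 H.pr ⟨H.pr.cm, mem_cen.2 rfl⟩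

theorem cjm {W : Subgroup G} {g a : G} (h : g ∈ nor W) (ha : a ∈ W) : g * a * g⁻¹ ∈ W :=
  (mem_normalizer_iff.1 h a).1 ha

theorem l3 (H : Bg F t l) : l ^ 3 = 1 := by
  rw [← (H.big t l H.pr).1]; exact pow_orderOf_eq_one l

theorem ex (H : Bg F t l) : ∃ (V : Type u) (_ : CommGroup V) (_ : Finite V) (π : G → V) (ω : V →* V),
    Md (Bt F t l) (Yt F t l) l π ω := by
  classical
  have S := b1 H.c1 H.pr
  obtain ⟨o3, cY, cB⟩ := H.big t l H.pr
  have hl := lB H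
  have hf := fpf H.c1 H.pr 1 (by
    rw [pow_one]; intro e; rw [e, orderOf_one] at o3; omega)
  have h3 := l3 H
  have YB : Yt F t l ≤ Bt F t l := inf_le_left
  have Yl : Yt F t l ≤ cen l := inf_le_right
  have hz := S.cz
  have hc := S.cm
  have hs := S.sq
  generalize Yt F t l = Y at *
  generalize Bt F t l = B at *
  haveI : (Y.subgroupOf B).Normal := ⟨fun y hy g => by
    rw [mem_subgroupOf] at hy ⊢
    have := ((hz _).1 hy).2 g.1 g.2
    simp only [Subgroup.coe_mul, Subgroup.coe_inv]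
    rw [this, mul_inv_cancel_right]; exact hy⟩
  let c : B →* B := ((MulAut.conj l).toMonoidHom.comp B.subtype).codRestrict B fun a => cjm hl a.2
  have hcY : Y.subgroupOf B ≤ (Y.subgroupOf B).comap c := fun y hy => by
    rw [mem_comap, mem_subgroupOf]
    rw [mem_subgroupOf] at hy
    show l * y.1 * l⁻¹ ∈ Y
    rw [← mem_cen.1 (Yl hy), mul_inv_cancel_right]; exact hy
  letI cg : CommGroup (B ⧸ Y.subgroupOf B) :=
    { QuotientGroup.Quotient.group _ with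
      mul_comm := fun a b => by
        obtain ⟨a, rfl⟩ := QuotientGroup.mk_surjective a
        obtain ⟨b, rfl⟩ := QuotientGroup.mk_surjective b
        rw [← QuotientGroup.mk_mul, ← QuotientGroup.mk_mul, QuotientGroup.eq, mem_subgroupOf]
        have := hc _ (inv_mem b.2) _ (inv_mem a.2)
        simpa [mul_assoc] using this }
  let π : G → B ⧸ Y.subgroupOf B := fun g => if h : g ∈ B then QuotientGroup.mk ⟨g, h⟩ else 1
  have hπ : ∀ a (h : a ∈ B), π a = QuotientGroup.mk ⟨a, h⟩ := fun a h => dif_pos h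
  have cV : Nat.card (B ⧸ Y.subgroupOf B) = 16 := by
    have e := card_eq_card_quotient_mul_card_subgroup (Y.subgroupOf B)
    rw [Nat.card_congr (subgroupOfEquivOfLe YB).toEquiv, cY, cB] at e
    omega
  refine ⟨B ⧸ Y.subgroupOf B, cg, inferInstance, π, QuotientGroup.map _ _ c hcY, fun a ha b hb => ?_, fun a ha => ?_,
    fun a ha => ?_, fun v => ?_, fun v => ?_, fun v => ?_, fun v hv => ?_, cV, fun U hU => ?_⟩
  · rw [hπ a ha, hπ b hb, hπ _ (mul_mem ha hb)]; rfl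
  · rw [hπ a ha, QuotientGroup.eq_one_iff, mem_subgroupOf]
  · rw [hπ a ha, hπ _ (cjm hl ha)]; rfl
  · obtain ⟨a, rfl⟩ := QuotientGroup.mk_surjective v
    exact ⟨a.1, a.2, hπ _ _⟩
  · obtain ⟨a, rfl⟩ := QuotientGroup.mk_surjective v
    rw [← QuotientGroup.mk_mul, QuotientGroup.eq_one_iff, mem_subgroupOf]
    exact hs _ a.2
  · obtain ⟨a, rfl⟩ := QuotientGroup.mk_surjective v
    show QuotientGroup.mk (c (c (c a))) = _
    congr 1
    ext
    show l * (l * (l * a.1 * l⁻¹) * l⁻¹) * l⁻¹ = a.1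
    calc _ = l ^ 3 * a.1 * (l ^ 3)⁻¹ := by simp only [pow_succ, pow_zero, one_mul]; group
      _ = _ := by rw [h3]; group
  · obtain ⟨a, rfl⟩ := QuotientGroup.mk_surjective v
    rw [QuotientGroup.eq_one_iff, mem_subgroupOf]
    have e : (QuotientGroup.mk (c a * a⁻¹) : B ⧸ Y.subgroupOf B) = 1 := by
      rw [QuotientGroup.mk_mul, QuotientGroup.mk_inv]
      exact mul_inv_eq_one.2 hv
    rw [QuotientGroup.eq_one_iff, mem_subgroupOf] at e
    refine hf _ a.2 ?_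
    rw [pow_one]; exact e
  · refine ⟨(U.comap (QuotientGroup.mk' (Y.subgroupOf B))).map B.subtype, ?_, fun b => ⟨?_, fun ⟨h1, h2⟩ => ?_⟩⟩
    · rw [card_map_of_injective B.subtype_injective]
      have e1 := (U.comap (QuotientGroup.mk' (Y.subgroupOf B))).card_mul_index
      have e2 := U.card_mul_index
      rw [index_comap_of_surjective _ (QuotientGroup.mk'_surjective _), cB] at e1
      rw [hU, cV] at e2
      have e3 : U.index = 4 := by omega
      rw [e3] at e1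
      omega
    · rintro ⟨a, ha, rfl⟩
      exact ⟨a.2, by rw [coe_subtype, hπ _ a.2]; exact ha⟩
    · exact ⟨⟨b, h1⟩, by rw [hπ _ h1] at h2; exact h2, rfl⟩

section
variable {B Y : Subgroup G} {V : Type u} [CommGroup V] {π : G → V} {ω : V →* V}

theorem Md.inv (M : Md B Y l π ω) {a : G} (ha : a ∈ B) : π a⁻¹ = (π a)⁻¹ := by
  have e := M.mul a ha _ (inv_mem ha)
  rw [mul_inv_cancel, (M.one 1 (one_mem _)).2 (one_mem _)] at e
  exact (inv_eq_of_mul_eq_one_right e.symm).symm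

theorem Md.eq (M : Md B Y l π ω) {a b : G} (ha : a ∈ B) (hb : b ∈ B) : a * b⁻¹ ∈ Y ↔ π a = π b := by
  rw [← M.one _ (mul_mem ha (inv_mem hb)), M.mul _ ha _ (inv_mem hb), M.inv hb, mul_inv_eq_one]

theorem Md.inj (M : Md B Y l π ω) {u v : V} (e : ω u = ω v) : u = v := by rw [← M.w3 u, e, M.w3]

theorem Md.f2 (M : Md B Y l π ω) {v : V} (e : ω (ω v) = v) : v = 1 :=
  M.f1 v (by conv_lhs => rw [← e, M.w3])

theorem Md.symm (M : Md B Y l π ω) {u v : V} (h : Pt ω u v) : Pt ω v u := by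
  rcases h with rfl | rfl | rfl <;> simp [Pt, M.w3]

theorem Md.trans (M : Md B Y l π ω) {u v w : V} (h : Pt ω u v) (h' : Pt ω v w) : Pt ω u w := by
  rcases h with rfl | rfl | rfl <;> rcases h' with rfl | rfl | rfl <;> simp [Pt, M.w3]

theorem Md.ne (M : Md B Y l π ω) {u v : V} (h : Pt ω u v) (h1 : v = 1) : u = 1 := by
  rcases M.symm h with e | e | e <;> simp [e, h1]

theorem Md.pw (M : Md B Y l π ω) (hl : l ∈ nor B) {a : G} (ha : a ∈ B) (i : ℕ) :
    Pt ω (π a) (π (l ^ i * a * (l ^ i)⁻¹)) := by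
  induction i with
  | zero => simp [Pt]
  | succ i ih =>
    have e : l ^ (i + 1) * a * (l ^ (i + 1))⁻¹ = l * (l ^ i * a * (l ^ i)⁻¹) * l⁻¹ := by rw [pow_succ']; group
    rw [e, M.cj _ (cjm (pow_mem hl i) ha)]
    exact M.trans ih (Or.inr (Or.inl rfl))

theorem Md.tri (M : Md B Y l π ω) (u : V) : u * ω u = ω (ω u) := by
  have e : u * ω u * ω (ω u) = 1 := M.f1 _ (by rw [map_mul, map_mul, M.w3, mul_comm, ← mul_assoc])
  rw [← mul_one (u * ω u), ← M.sq (ω (ω u)), ← mul_assoc, e, one_mul]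

theorem Md.pl (M : Md B Y l π ω) {u : V} (hu : u ≠ 1) :
    ∃ U : Subgroup V, Nat.card U = 4 ∧ ∀ v, v ∈ U ↔ v = 1 ∨ Pt ω u v := by
  have t1 := M.tri u
  have t2 := M.tri (ω u)
  have t3 := M.tri (ω (ω u))
  rw [M.w3] at t2
  rw [M.w3] at t3
  have t1' := (mul_comm _ _).trans t1
  have t2' := (mul_comm _ _).trans t2
  have t3' := (mul_comm _ _).trans t3
  refine ⟨{ carrier := {1, u, ω u, ω (ω u)}, one_mem' := by simp, mul_mem' := ?_, inv_mem' := ?_ }, ?_,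
    fun v => Iff.rfl⟩
  · intro a b ha hb
    simp only [Set.mem_insert_iff, Set.mem_singleton_iff] at ha hb ⊢
    rcases ha with rfl | rfl | rfl | rfl <;> rcases hb with rfl | rfl | rfl | rfl <;>
      simp [M.sq, t1, t2, t3, t1', t2', t3']
  · intro a ha
    rw [inv_eq_of_mul_eq_one_right (M.sq a)]; exact ha
  · have n1 : ω u ≠ 1 := fun e => hu (M.inj (e.trans (map_one ω).symm))
    have n2 : ω (ω u) ≠ 1 := fun e => n1 (M.inj (e.trans (map_one ω).symm))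
    have n3 : ω u ≠ u := fun e => hu (M.f1 _ e)
    have n4 : ω (ω u) ≠ u := fun e => hu (M.f2 e)
    have n5 : ω (ω u) ≠ ω u := fun e => n1 (M.f1 _ e)
    show Set.ncard ({1, u, ω u, ω (ω u)} : Set V) = 4
    rw [Set.ncard_insert_of_notMem (by simp [hu.symm, n1.symm, n2.symm]),
      Set.ncard_insert_of_notMem (by simp [n3.symm, n4.symm]), Set.ncard_pair n5.symm]

theorem it {V : Type u} (ρ : V → V) (h3 : ∀ v, ρ (ρ (ρ v)) = v) (n : ℕ) :
    (∀ v, ρ^[2 ^ n] v = ρ v) ∨ ∀ v, ρ^[2 ^ n] v = ρ (ρ v) := by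
  induction n with
  | zero => exact Or.inl fun v => rfl
  | succ n ih =>
    rw [pow_succ, mul_two]
    rcases ih with h | h
    · exact Or.inr fun v => by rw [Function.iterate_add_apply, h, h]
    · exact Or.inl fun v => by rw [Function.iterate_add_apply, h, h, h3]

theorem it2 {V : Type u} (ρ ψ : V → V) (hc : ∀ v, ψ (ρ v) = ρ (ψ v)) {u : V} (h : ψ u = ρ u) (k : ℕ) :
    ψ^[k] u = ρ^[k] u := by
  induction k with
  | zero => rfl
  | succ k ih =>
    rw [Function.iterate_succ_apply', ih, Function.iterate_succ_apply, ← h]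
    exact (Function.Commute.iterate_right (f := ψ) (g := ρ) hc k) u

theorem Md.fx (M : Md B Y l π ω) (ψ : V → V) (hc : ∀ v, ψ (ω v) = ω (ψ v)) (n : ℕ) (hn : ∀ v, ψ^[2 ^ n] v = v)
    {u : V} (hu : u ≠ 1) (h : Pt ω u (ψ u)) : ψ u = u := by
  rcases h with h | h | h
  · exact h
  · have e := it2 ω ψ hc h (2 ^ n)
    rw [hn] at e
    rcases it ω M.w3 n with k | k <;> rw [k] at e
    · exact (hu (M.f1 _ e.symm)).elim
    · exact (hu (M.f2 e.symm)).elim
  · have e := it2 (fun v => ω (ω v)) ψ (fun v => by simp only [hc]) h (2 ^ n)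
    rw [hn] at e
    rcases it (fun v => ω (ω v)) (fun v => by simp only [M.w3]) n with k | k <;> rw [k] at e
    · exact (hu (M.f2 e.symm)).elim
    · simp only [M.w3] at e
      exact (hu (M.f1 _ e.symm)).elim

theorem Md.all [Finite V] (M : Md B Y l π ω) (X : Subgroup V) (hX : ∀ v ∈ X, ω v ∈ X) {u u' : V} (hu : u ≠ 1)
    (hu' : u' ≠ 1) (hne : ¬ Pt ω u u') (h : u ∈ X) (h' : u' ∈ X) : X = ⊤ := by
  obtain ⟨U, c1, m1⟩ := M.pl hu
  obtain ⟨U', c2, m2⟩ := M.pl hu'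
  have le : ∀ {w : V} {W : Subgroup V}, w ∈ X → (∀ v, v ∈ W ↔ v = 1 ∨ Pt ω w v) → W ≤ X := fun hw m v hv => by
    rcases (m v).1 hv with rfl | rfl | rfl | rfl
    exacts [one_mem _, hw, hX _ hw, hX _ (hX _ hw)]
  have dis : ∀ v ∈ U, v ∈ U' → v = 1 := fun v hv hv' => by
    rcases (m1 v).1 hv with e | e
    · exact e
    rcases (m2 v).1 hv' with e' | e'
    · exact e'
    exact (hne (M.trans e (M.symm e'))).elim
  let f : U × U' → X := fun p => ⟨p.1.1 * p.2.1, mul_mem (le h m1 p.1.2) (le h' m2 p.2.2)⟩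
  have fi : Function.Injective f := by
    rintro ⟨x, y⟩ ⟨x', y'⟩ e
    have e1 : x.1 * y.1 = x'.1 * y'.1 := congrArg Subtype.val e
    have e2 : x'.1⁻¹ * x.1 = y'.1 * y.1⁻¹ := by
      rw [inv_mul_eq_iff_eq_mul, ← mul_assoc, ← e1, mul_inv_cancel_right]
    have e3 := dis _ (mul_mem (inv_mem x'.2) x.2) (e2 ▸ mul_mem y'.2 (inv_mem y.2))
    have e4 : x'.1 = x.1 := inv_mul_eq_one.1 e3
    rw [e3] at e2
    exact Prod.ext (Subtype.ext e4.symm) (Subtype.ext (mul_inv_eq_one.1 e2.symm).symm)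
  have c := Nat.card_le_card_of_injective f fi
  rw [Nat.card_prod, c1, c2] at c
  exact eq_top_of_le_card X (by rw [M.card]; exact c)

end

theorem sm_iff (H : Bg F t l) {V : Type u} [CommGroup V] {π : G → V} {ω : V →* V}
    (M : Md (Bt F t l) (Yt F t l) l π ω) {a b : G} (ha : a ∈ Bt F t l) :
    Sm F t l a b ↔ b ∈ Bt F t l ∧ Pt ω (π a) (π b) := by
  have hl := lB H
  refine ⟨fun ⟨i, h⟩ => ?_, fun ⟨hb, h⟩ => ?_⟩
  · have m := cjm (pow_mem hl i) ha
    have hb : b ∈ Bt F t l := by simpa only [inv_mul_cancel_right] using mul_mem (mem_inf.1 h).1 m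
    exact ⟨hb, by rw [(M.eq hb m).1 h]; exact M.pw hl ha i⟩
  · rcases h with h | h | h
    · exact ⟨0, by simpa using (M.eq hb ha).2 h⟩
    · exact ⟨1, by rw [pow_one]; exact (M.eq hb (cjm hl ha)).2 (by rw [h, M.cj _ ha])⟩
    · refine ⟨2, ?_⟩
      have e : l ^ 2 * a * (l ^ 2)⁻¹ = l * (l * a * l⁻¹) * l⁻¹ := by rw [sq]; group
      rw [e]
      exact (M.eq hb (cjm hl (cjm hl ha))).2 (by rw [h, M.cj _ (cjm hl ha), M.cj _ ha])

end B7a

open B7a

theorem Sm_refl (b : G) : Sm F t l b b := ⟨0, by simp⟩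

theorem Sm_symm (H : Bg F t l) {a b : G} (ha : a ∈ Bt F t l) (h : Sm F t l a b) : Sm F t l b a := by
  obtain ⟨V, _, _, π, ω, M⟩ := ex H
  obtain ⟨hb, e⟩ := (sm_iff H M ha).1 h
  exact (sm_iff H M hb).2 ⟨ha, M.symm e⟩

theorem Sm_trans (H : Bg F t l) {a b c : G} (ha : a ∈ Bt F t l) (h : Sm F t l a b) (h' : Sm F t l b c) :
    Sm F t l a c := by
  obtain ⟨V, _, _, π, ω, M⟩ := ex H
  obtain ⟨hb, e⟩ := (sm_iff H M ha).1 h
  obtain ⟨hc, e'⟩ := (sm_iff H M hb).1 h'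
  exact (sm_iff H M ha).2 ⟨hc, M.trans e e'⟩

theorem Sm_mem (H : Bg F t l) {a b : G} (ha : a ∈ Bt F t l) (h : Sm F t l a b) :
    b ∈ Bt F t l ∧ (a ∉ Yt F t l → b ∉ Yt F t l) ∧ b * b = a * a := by
  obtain ⟨V, _, _, π, ω, M⟩ := ex H
  obtain ⟨hb, e⟩ := (sm_iff H M ha).1 h
  refine ⟨hb, fun h1 h2 => h1 ((M.one _ ha).1 (M.ne e ((M.one _ hb).2 h2))), ?_⟩
  obtain ⟨i, h⟩ := h
  have S := b1 H.c1 H.pr
  have m := cjm (pow_mem (lB H) i) ha
  have e1 := ((S.cz _).1 h).2 _ m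
  have e2 := S.el _ h
  have e3 : l ^ i * (a * a) = a * a * l ^ i :=
    (Commute.pow_right (show Commute (a * a) l from mem_cen.1 (S.sq a ha).2) i).eq.symm
  have e4 : l ^ i * a * (l ^ i)⁻¹ * (l ^ i * a * (l ^ i)⁻¹) = a * a := by
    calc _ = l ^ i * (a * a) * (l ^ i)⁻¹ := by group
      _ = _ := by rw [e3, mul_inv_cancel_right]
  generalize l ^ i * a * (l ^ i)⁻¹ = x at *
  calc b * b = b * x⁻¹ * (x * (b * x⁻¹)) * x := by group
    _ = b * x⁻¹ * (b * x⁻¹) * (x * x) := by rw [e1]; group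
    _ = _ := by rw [e2, e4, one_mul]

theorem span (H : Bg F t l) {a : G} (ha : a ∈ Bt F t l) (hY : a ∉ Yt F t l) :
    ∃ W : Subgroup G, Nat.card W = 16 ∧ W ≤ Bt F t l ∧ l ∈ nor W ∧ ∀ b, b ∈ W ↔ b ∈ Yt F t l ∨ Sm F t l a b := by
  obtain ⟨V, _, _, π, ω, M⟩ := ex H
  obtain ⟨U, c, m⟩ := M.pl (u := π a) fun e => hY ((M.one _ ha).1 e)
  obtain ⟨W, cW, mW⟩ := M.sub U c
  refine ⟨W, cW, fun b hb => ((mW b).1 hb).1, ?_, fun b => ?_⟩
  · refine mem_normalizer_fintype fun b hb => ?_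
    obtain ⟨h1, h2⟩ := (mW b).1 hb
    refine (mW _).2 ⟨cjm (lB H) h1, ?_⟩
    rw [M.cj _ h1, m]
    rcases (m _).1 h2 with e | e
    · exact Or.inl (by rw [e, map_one])
    · exact Or.inr (M.trans e (Or.inr (Or.inl rfl)))
  · rw [mW, m, sm_iff H M ha]
    exact ⟨fun ⟨h1, h2⟩ => h2.imp (M.one _ h1).1 fun e => ⟨h1, e⟩,
      fun h => h.elim (fun e => ⟨e.1, Or.inl ((M.one _ e.1).2 e)⟩) fun e => ⟨e.1, Or.inr e.2⟩⟩

theorem span' (H : Bg F t l) {W : Subgroup G} (hc : Nat.card W = 16) (hY : Yt F t l ≤ W) (hB : W ≤ Bt F t l)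
    (hl : l ∈ nor W) {a b : G} (ha : a ∈ W) (hb : b ∈ W) (haY : a ∉ Yt F t l) (hbY : b ∉ Yt F t l) :
    Sm F t l a b := by
  obtain ⟨W', c, -, -, m⟩ := span H (hB ha) haY
  have le : W' ≤ W := fun x hx => by
    rcases (m x).1 hx with e | ⟨i, e⟩
    · exact hY e
    · simpa only [inv_mul_cancel_right] using mul_mem (hY e) (cjm (pow_mem hl i) ha)
  have e : W' = W := eq_of_le_of_card_ge le (by rw [c, hc])
  exact ((m b).1 (e ▸ hb)).resolve_left hbY

theorem two (H : Bg F t l) (φ : G → G) (hB : ∀ b ∈ Bt F t l, φ b ∈ Bt F t l)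
    (hm : ∀ a ∈ Bt F t l, ∀ b ∈ Bt F t l, φ (a * b) * (φ a * φ b)⁻¹ ∈ Yt F t l)
    (hY : ∀ a ∈ Yt F t l, φ a ∈ Yt F t l)
    (hl : ∀ b ∈ Bt F t l, φ (l * b * l⁻¹) * (l * φ b * l⁻¹)⁻¹ ∈ Yt F t l)
    (n : ℕ) (hn : ∀ b ∈ Bt F t l, φ^[2 ^ n] b = b)
    {a a' : G} (ha : a ∈ Bt F t l) (ha' : a' ∈ Bt F t l) (haY : a ∉ Yt F t l) (haY' : a' ∉ Yt F t l)
    (hne : ¬ Sm F t l a a') (h : Sm F t l a (φ a)) (h' : Sm F t l a' (φ a')) :
    ∀ b ∈ Bt F t l, φ b * b⁻¹ ∈ Yt F t l := by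
  obtain ⟨V, _, _, π, ω, M⟩ := ex H
  have nl := lB H
  have pm : ∀ x ∈ Bt F t l, ∀ y ∈ Bt F t l, π (φ (x * y)) = π (φ x) * π (φ y) := fun x hx y hy => by
    rw [← M.mul _ (hB x hx) _ (hB y hy)]
    exact (M.eq (hB _ (mul_mem hx hy)) (mul_mem (hB x hx) (hB y hy))).1 (hm x hx y hy)
  have wd : ∀ x ∈ Bt F t l, ∀ y ∈ Bt F t l, π x = π y → π (φ x) = π (φ y) := fun x hx y hy e => by
    have k := (M.eq hx hy).2 e
    have := pm _ k.1 y hy
    rwa [inv_mul_cancel_right, (M.one _ (hB _ k.1)).2 (hY _ k), one_mul] at this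
  choose o ho eo using M.sur
  let ψ : V → V := fun v => π (φ (o v))
  have hψ : ∀ x ∈ Bt F t l, ψ (π x) = π (φ x) := fun x hx => wd _ (ho _) x hx (eo _)
  have ψm : ∀ v w, ψ (v * w) = ψ v * ψ w := fun v w => by
    rw [← pm _ (ho v) _ (ho w), ← hψ _ (mul_mem (ho v) (ho w)), M.mul _ (ho v) _ (ho w), eo, eo]
  have ψc : ∀ v, ψ (ω v) = ω (ψ v) := fun v => by
    rw [← M.cj _ (hB _ (ho v)), ← (M.eq (hB _ (cjm nl (ho v))) (cjm nl (hB _ (ho v)))).1 (hl _ (ho v)),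
      ← hψ _ (cjm nl (ho v)), M.cj _ (ho v), eo]
  have ψi : ∀ k, ∀ x ∈ Bt F t l, φ^[k] x ∈ Bt F t l ∧ ψ^[k] (π x) = π (φ^[k] x) := fun k x hx => by
    induction k with
    | zero => exact ⟨hx, rfl⟩
    | succ k ih =>
      rw [Function.iterate_succ_apply', Function.iterate_succ_apply', ih.2, hψ _ ih.1]
      exact ⟨hB _ ih.1, rfl⟩
  have ψn : ∀ v, ψ^[2 ^ n] v = v := fun v => by
    have := (ψi (2 ^ n) _ (ho v)).2
    rwa [hn _ (ho v), eo] at this
  let f : V →* V := MonoidHom.mk' ψ ψm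
  have n1 : π a ≠ 1 := fun e => haY ((M.one _ ha).1 e)
  have n2 : π a' ≠ 1 := fun e => haY' ((M.one _ ha').1 e)
  have top : f.eqLocus (MonoidHom.id V) = ⊤ :=
    M.all _ (fun v (hv : ψ v = v) => show ψ (ω v) = ω v by rw [ψc, hv]) n1 n2
      (fun e => hne ((sm_iff H M ha).2 ⟨ha', e⟩))
      (M.fx ψ ψc n ψn n1 (by rw [hψ _ ha]; exact ((sm_iff H M ha).1 h).2))
      (M.fx ψ ψc n ψn n2 (by rw [hψ _ ha']; exact ((sm_iff H M ha').1 h').2))
  intro b hb
  have e : π b ∈ f.eqLocus (MonoidHom.id V) := top ▸ mem_top _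
  exact (M.eq (hB b hb) hb).2 ((hψ b hb).symm.trans e)

end Cfsg.Agent.RC
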