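import Cfsg.Agent.RC.Df2
import Cfsg.Agent.RC.B7a

/-! RC/B7b (S3860): the values of the squaring map on the five points. -/

set_option autoImplicit false

namespace Cfsg.Agent.RC

open Subgroup

universe u

variable {G : Type u} [Group G] [Finite G]
variable {F : G → Subgroup G} {t l : G} {τ : MulAut G}

namespace B7b

omit [Finite G] in
theorem exq {B Y : Subgroup G} (S1 : ∀ b, b ∈ Y → b ∈ B ∧ b ∈ Cs B) (cm : ∀ a ∈ B, ∀ b ∈ B, a * b * a⁻¹ * b⁻¹ ∈ Y) :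
    ∃ (Q : Type u) (_ : CommGroup Q) (π : G → Q), (∀ x ∈ B, ∀ y ∈ B, π (x * y) = π x * π y) ∧
      ∀ x ∈ B, (π x = 1 ↔ x ∈ Y) := by
  classical
  have : (Y.subgroupOf B).Normal := ⟨fun n hn g => by
    have : (g : G) * n = n * g := (S1 n hn).2 g g.2
    rw [mem_subgroupOf] at hn ⊢
    simpa [this] using hn⟩
  let _ : CommGroup (B ⧸ Y.subgroupOf B) := { (inferInstance : Group (B ⧸ Y.subgroupOf B)) with
    mul_comm := by
      rintro ⟨a⟩ ⟨b⟩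
      refine QuotientGroup.eq.2 ?_
      rw [mem_subgroupOf]
      simpa [mul_assoc] using cm _ (inv_mem b.2) _ (inv_mem a.2) }
  refine ⟨B ⧸ Y.subgroupOf B, inferInstance, fun x => if h : x ∈ B then QuotientGroup.mk ⟨x, h⟩ else 1,
    fun x hx y hy => ?_, fun x hx => ?_⟩
  · simp only [dif_pos hx, dif_pos hy, dif_pos (mul_mem hx hy)]
    rfl
  · simp only [dif_pos hx, QuotientGroup.eq_one_iff, mem_subgroupOf]

theorem five (H : Bg F t l) : ∃ τ, Ta F t τ ∧ ∃ a b c d e : G, a ∈ Bt F t l ∧ b ∈ Bt F t l ∧ c ∈ Bt F t l ∧ d ∈ Bt F t l ∧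
    e ∈ Bt F t l ∧ a * a = t ∧ c * c = τ (b * b) ∧ e * e = τ (d * d) ∧ b * b * τ (b * b) * (d * d * τ (d * d)) = t ∧
    ∀ x ∈ Bt F t l, x ∉ Yt F t l → Sm F t l a x ∨ Sm F t l b x ∨ Sm F t l c x ∨ Sm F t l d x ∨ Sm F t l e x := by
  have C := H.c1
  have P := H.pr
  obtain ⟨l3, cY, cB⟩ := H.big t l P
  obtain ⟨τ, T⟩ := C.tau t P.inv
  obtain ⟨A, X⟩ := b2a C P T
  have cA := axc C P cY X
  have S := b1 C P
  obtain ⟨Q, _, π, pm, p1⟩ := exq (fun b h => (S.cz b).1 h) S.cm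
  have AB : A ≤ Bt F t l := fun x h => ((X.mem x).1 h).1
  have YB : Yt F t l ≤ Bt F t l := inf_le_left
  have yc : ∀ y ∈ Yt F t l, ∀ x ∈ Bt F t l, x * y = y * x := fun y hy x hx => ((S.cz y).1 hy).2 x hx
  have ps : ∀ x ∈ Bt F t l, π x * π x = 1 := fun x hx => by rw [← pm x hx x hx, p1 _ (mul_mem hx hx)]; exact S.sq x hx
  have pi : ∀ x ∈ Bt F t l, π x⁻¹ = π x := fun x hx => by
    have := pm _ (inv_mem hx) x hx
    rw [inv_mul_cancel, (p1 1 (one_mem _)).2 (one_mem _)] at this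
    exact mul_right_cancel (this.symm.trans (ps x hx).symm)
  have pE : ∀ x ∈ Bt F t l, ∀ y ∈ Bt F t l, (x * y⁻¹ ∈ Yt F t l ↔ π x = π y) := fun x hx y hy => by
    rw [← p1 _ (mul_mem hx (inv_mem hy)), pm _ hx _ (inv_mem hy), pi y hy, ← ps y hy, mul_left_inj]
  have sqE : ∀ x ∈ Bt F t l, ∀ y ∈ Bt F t l, π x = π y → x * x = y * y := fun x hx y hy e => by
    have h := (pE x hx y hy).2 e
    obtain ⟨n, rfl⟩ : ∃ n, x = n * y := ⟨x * y⁻¹, by group⟩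
    rw [mul_inv_cancel_right] at h
    rw [mul_assoc, ← mul_assoc y, yc n h y hy, mul_assoc, ← mul_assoc, S.el n h, one_mul]
  have lB : l ∈ nor (Bt F t l) := nBc C.toC0 P ⟨P.cm, mem_cen.2 rfl⟩
  obtain ⟨φ, hφ⟩ : ∃ φ : G ≃* G, ∀ x, φ x = l * x * l⁻¹ := ⟨MulAut.conj l, fun _ => rfl⟩
  have fB : ∀ x ∈ Bt F t l, φ x ∈ Bt F t l := fun x hx => hφ x ▸ (mem_normalizer_iff.1 lB x).1 hx
  have fA : ∀ x ∈ A, φ x ∈ A := fun x hx => hφ x ▸ (mem_normalizer_iff.1 X.nl x).1 hx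
  have fY : ∀ y ∈ Yt F t l, φ y = y := fun y hy => by rw [hφ, ← mem_cen.1 hy.2, mul_inv_cancel_right]
  have l1 : l ^ 3 = 1 := l3 ▸ pow_orderOf_eq_one l
  have f3 : ∀ x, φ (φ (φ x)) = x := fun x => by
    calc φ (φ (φ x)) = l ^ 3 * x * (l ^ 3)⁻¹ := by simp only [hφ, pow_succ, pow_zero, one_mul, mul_inv_rev, mul_assoc]
      _ = x := by rw [l1]; group
  have tB : ∀ x ∈ Bt F t l, τ x ∈ Bt F t l := fun x hx => (Btau C.toC0 P T x).2 hx
  have fE : ∀ x ∈ Bt F t l, ∀ y ∈ Bt F t l, π x = π y → π (φ x) = π (φ y) := fun x hx y hy e => by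
    rw [← pE _ (fB x hx) _ (fB y hy), ← map_inv, ← map_mul, fY _ ((pE x hx y hy).2 e)]
    exact (pE x hx y hy).2 e
  have tf : ∀ x ∈ Bt F t l, π (τ (φ x)) = π (φ (τ x)) := fun x hx => by
    rw [← pE _ (tB _ (fB x hx)) _ (fB _ (tB x hx)), hφ, hφ]
    exact tl C P T x hx
  have mA : ∀ x ∈ Bt F t l, (x ∈ A ↔ π (τ x) = π x) := fun x hx => by
    rw [X.mem, and_iff_right hx, ← p1 _ (mul_mem (inv_mem hx) (tB x hx)), pm _ (inv_mem hx) _ (tB x hx), pi x hx,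
      ← ps x hx, mul_right_inj]
  have n3 : ∀ x ∈ Bt F t l, x * φ x * φ (φ x) ∈ Yt F t l := fun x hx => by
    have h1 := fB x hx
    have h2 := fB _ h1
    have h3 := mul_mem (mul_mem hx h1) h2
    refine fpf C P 1 (by rw [pow_one]; rintro rfl; simp at l3) _ h3 ?_
    rw [pow_one, ← hφ, pE _ (fB _ h3) _ h3, map_mul, map_mul, f3, pm _ (mul_mem h1 h2) _ hx, pm _ (mul_mem hx h1) _ h2,
      pm _ h1 _ h2, pm _ hx _ h1, mul_comm, mul_assoc]
  have s0 : ∀ x ∈ Bt F t l, ∀ y ∈ Bt F t l, π y = π x → Sm F t l x y := fun x hx y hy e =>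
    ⟨0, by simpa using (pE y hy x hx).2 e⟩
  have s1 : ∀ x, Sm F t l x (φ x) := fun x => ⟨1, by simp [hφ]⟩
  have s3 : ∀ x ∈ Bt F t l, ∀ y ∈ Bt F t l, Sm F t l x y → π y = π x ∨ π y = π (φ x) ∨ π y = π (φ (φ x)) := by
    rintro x hx y hy ⟨i, hi⟩
    rw [pow_eq_pow_mod i l1] at hi
    obtain e | e | e : i % 3 = 0 ∨ i % 3 = 1 ∨ i % 3 = 2 := by omega
    · exact .inl ((pE y hy x hx).1 (by simpa [e] using hi))
    · exact .inr (.inl ((pE y hy _ (fB x hx)).1 (by simpa [e, hφ] using hi)))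
    · exact .inr (.inr ((pE y hy _ (fB _ (fB x hx))).1 (by simpa [e, hφ, sq, mul_assoc] using hi)))
  obtain ⟨b, hb, bA⟩ : ∃ b ∈ Bt F t l, b ∉ A := by
    by_contra! h
    have := card_le_of_le (show Bt F t l ≤ A from h)
    omega
  obtain ⟨a, ha⟩ : ∃ a, a = b⁻¹ * τ b := ⟨_, rfl⟩
  have aA : a ∈ A := ha ▸ X.im b hb
  have aY : a ∉ Yt F t l := fun h => bA ((X.mem b).2 ⟨hb, ha ▸ h⟩)
  have aB := AB aA
  have tb : τ b = b * a := by rw [ha, mul_inv_cancel_left]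
  have smA : ∀ x ∈ A, x ∉ Yt F t l → Sm F t l a x := fun x hx h => span' H cA X.lt.le AB X.nl aA hx aY h
  have BF := B_le C.toC0 P
  have aa : a * a = t := by
    refine (T.uq _ (BF (mul_mem aB aB)) (S.el _ (S.sq a aB)) ?_).resolve_left fun h => ?_
    · rw [map_mul]
      exact sqE _ (tB a aB) _ aB ((mA a aB).1 aA)
    · have := e4 T A (AB.trans BF) (fun x hx => ?_) X.tau
      · omega
      by_cases hx' : x ∈ Yt F t l
      · exact S.el x hx'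
      · exact (Sm_mem H aB (smA x hx hx')).2.2.trans h
  have a1 := fB a aB
  have a2 := fB _ a1
  have pa : π a * π (φ a) = π (φ (φ a)) := by
    have := (p1 _ (YB (n3 a aB))).2 (n3 a aB)
    rw [pm _ (mul_mem aB a1) _ a2, pm _ aB _ a1, ← ps _ a2] at this
    exact mul_right_cancel this
  have k : ∀ x ∈ Bt F t l, x * x = t → ∃ k ∈ Yt F t l, b⁻¹ * x * b = k * x ∧ b * x * (b * x) = b * b * t * k := fun x hx e => by
    have h := S.cm _ (inv_mem hb) x hx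
    refine ⟨_, h, by group, ?_⟩
    rw [← e, mul_assoc (b * b), yc _ h _ (mul_mem hx hx)]
    group
  have ft : φ t = t := fY t S.tY
  obtain ⟨k1, y1, e1, q1⟩ := k a aB aa
  obtain ⟨k2, y2, e2, q2⟩ := k _ a1 (by rw [← map_mul, aa, ft])
  obtain ⟨k3, y3, e3, q3⟩ := k _ a2 (by rw [← map_mul, ← map_mul, aa, ft, ft])
  have kk : k1 * k2 * k3 = 1 := by
    have h : b⁻¹ * (a * φ a * φ (φ a)) * b = k1 * a * (k2 * φ a) * (k3 * φ (φ a)) := by rw [← e1, ← e2, ← e3]; group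
    rw [yc _ (n3 a aB) _ (inv_mem hb), inv_mul_cancel_right, mul_assoc k1, ← mul_assoc a, yc _ y2 a aB, mul_assoc k2,
      mul_assoc k1, mul_assoc k2, ← mul_assoc (a * φ a), yc _ y3 _ (mul_mem aB a1), mul_assoc k3, ← mul_assoc, ← mul_assoc] at h
    exact (right_eq_mul.1 h)
  have c1 : b * a * (b * a) = τ (b * b) := by rw [map_mul, tb]
  have c2 : b * φ (φ a) * (b * φ (φ a)) = τ (b * φ a * (b * φ a)) := by
    rw [map_mul τ (b * φ a)]
    refine sqE _ (mul_mem hb a2) _ (tB _ (mul_mem hb a1)) ?_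
    rw [map_mul, tb, pm _ (mul_mem hb aB) _ (tB _ a1), (mA _ a1).1 (fA a aA), pm _ hb _ aB, pm _ hb _ a2, mul_assoc, pa]
  have cov : ∀ x ∈ Bt F t l, π (x⁻¹ * τ x) = π a → Sm F t l b x ∨ Sm F t l (b * a) x ∨ Sm F t l (b * φ a) x ∨
      Sm F t l (b * φ (φ a)) x := fun x hx e => by
    have hw := mul_mem (inv_mem hb) hx
    have wA : b⁻¹ * x ∈ A := by
      rw [pm _ (inv_mem hx) _ (tB x hx), pi x hx] at e
      rw [mA _ hw, map_mul, map_inv, pm _ (inv_mem (tB b hb)) _ (tB x hx), pi _ (tB b hb), tb, pm _ hb _ aB,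
        pm _ (inv_mem hb) _ hx, pi b hb, ← e, mul_assoc, mul_assoc, ps _ (tB x hx), mul_one]
    have px : π x = π b * π (b⁻¹ * x) := by rw [← pm _ hb _ hw, mul_inv_cancel_left]
    by_cases h : b⁻¹ * x ∈ Yt F t l
    · exact .inl (s0 _ hb _ hx (by rw [px, (p1 _ hw).2 h, mul_one]))
    obtain e | e | e := s3 _ aB _ hw (smA _ wA h)
    · exact .inr (.inl (s0 _ (mul_mem hb aB) _ hx (by rw [px, e, pm _ hb _ aB])))
    · exact .inr (.inr (.inl (s0 _ (mul_mem hb a1) _ hx (by rw [px, e, pm _ hb _ a1]))))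
    · exact .inr (.inr (.inr (s0 _ (mul_mem hb a2) _ hx (by rw [px, e, pm _ hb _ a2]))))
  have df : ∀ x ∈ Bt F t l, π ((φ x)⁻¹ * τ (φ x)) = π (φ (x⁻¹ * τ x)) := fun x hx => by
    rw [map_mul, map_inv, pm _ (inv_mem (fB x hx)) _ (tB _ (fB x hx)), pm _ (inv_mem (fB x hx)) _ (fB _ (tB x hx)), tf x hx]
  have up : ∀ x y : G, Sm F t l x y → (Sm F t l b x ∨ Sm F t l (b * a) x ∨ Sm F t l (b * φ a) x ∨
      Sm F t l (b * φ (φ a)) x) → Sm F t l b y ∨ Sm F t l (b * a) y ∨ Sm F t l (b * φ a) y ∨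
      Sm F t l (b * φ (φ a)) y := fun x y h => Or.imp (Sm_trans H hb · h) (Or.imp (Sm_trans H (mul_mem hb aB) · h)
        (Or.imp (Sm_trans H (mul_mem hb a1) · h) (Sm_trans H (mul_mem hb a2) · h)))
  refine ⟨τ, T, a, b, b * a, b * φ a, b * φ (φ a), aB, hb, mul_mem hb aB, mul_mem hb a1, mul_mem hb a2, aa, c1, c2, ?_,
    fun x hx hY => ?_⟩
  · rw [← c1, ← c2, q1, q2, q3]
    have hu := S.sq b hb
    generalize b * b = u at hu
    have w := mul_mem hu S.tY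
    have : u * (u * t * k1) * (u * t * k2 * (u * t * k3)) = u * (u * t) * (k1 * k2 * k3) := by
      have e := S.el _ w
      generalize u * t = s at w e
      rw [mul_assoc s k2, ← mul_assoc k2, yc _ w k2 (YB y2), ← mul_assoc s, ← mul_assoc s, e, one_mul]
      group
    rw [this, kk, mul_one, ← mul_assoc, S.el u hu, one_mul]
  by_cases h : x ∈ A
  · exact .inl (smA x h hY)
  have hd := mul_mem (inv_mem hx) (tB x hx)
  obtain e | e | e := s3 _ aB _ hd (smA _ (X.im x hx) fun k => h ((X.mem x).2 ⟨hx, k⟩))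
  · exact .inr (cov x hx e)
  · refine .inr (up (φ (φ x)) x (by simpa only [f3] using s1 (φ (φ x))) (cov _ (fB _ (fB x hx)) ?_))
    rw [df _ (fB x hx), fE _ (mul_mem (inv_mem (fB x hx)) (tB _ (fB x hx))) _ a2
      ((df x hx).trans (fE _ hd _ a1 e)), f3]
  · refine .inr (up (φ (φ x)) x (by simpa only [f3] using s1 (φ (φ x))) (up (φ x) _ (s1 _) (cov _ (fB x hx) ?_)))
    rw [df x hx, fE _ hd _ a2 e, f3]

theorem five' (H : Bg F t l) : ∃ a b c d e z v : G, a ∈ Bt F t l ∧ b ∈ Bt F t l ∧ c ∈ Bt F t l ∧ d ∈ Bt F t l ∧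
    e ∈ Bt F t l ∧ a * a = t ∧ b * b = z ∧ c * c = z * t ∧ d * d = v ∧ e * e = v ∧ z ≠ 1 ∧ z ≠ t ∧ z * t ≠ 1 ∧ z * t ≠ t ∧
    z ≠ z * t ∧ t ≠ 1 ∧ (v = 1 ∨ v = t) ∧ (∀ y ∈ Yt F t l, y = 1 ∨ y = t ∨ y = z ∨ y = z * t) ∧
    ∀ x ∈ Bt F t l, x ∉ Yt F t l → Sm F t l a x ∨ Sm F t l b x ∨ Sm F t l c x ∨ Sm F t l d x ∨ Sm F t l e x := by
  obtain ⟨τ, T, a, b, c, d, e, ha, hb, hc, hd, he, e1, e2, e3, e4, h⟩ := five H
  have S := b1 H.c1 H.pr
  have t1 : t ≠ 1 := fun k => by simpa [k] using H.pr.inv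
  have tt := S.el t S.tY
  have yc : ∀ y ∈ Yt F t l, ∀ x ∈ Yt F t l, x * y = y * x := fun y hy x hx => ((S.cz y).1 hy).2 x hx.1
  have uq : ∀ y ∈ Yt F t l, τ y = y → y = 1 ∨ y = t := fun y hy k => T.uq y (B_le H.c1.toC0 H.pr hy.1) (S.el y hy) k
  have tY : ∀ y ∈ Yt F t l, τ y ∈ Yt F t l := fun y hy => (Ytau H.c1 H.pr T y).2 hy
  have di : ∀ y ∈ Yt F t l, τ y = y ∨ τ y = y * t := fun y hy => by
    have : τ (τ y) = y := by rw [← MulAut.mul_apply, T.sq, MulAut.one_apply]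
    refine (uq _ (mul_mem hy (tY y hy)) (by rw [map_mul, this, yc y hy _ (tY y hy)])).imp (fun k => ?_) fun k => ?_
    · exact mul_left_cancel (k.trans (S.el y hy).symm)
    · rw [← k, ← mul_assoc, S.el y hy, one_mul]
  have key : ∀ z ∈ Yt F t l, τ z = z * t → z ≠ 1 ∧ z ≠ t ∧ z * t ≠ 1 ∧ z * t ≠ t ∧ z ≠ z * t ∧
      ∀ y ∈ Yt F t l, y = 1 ∨ y = t ∨ y = z ∨ y = z * t := fun z hz k => by
    have z1 : z ≠ 1 := by rintro rfl; exact t1 (by simpa using k.symm)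
    have z2 : z ≠ t := by rintro rfl; exact t1 (T.fix.symm.trans (k.trans tt))
    refine ⟨z1, z2, fun q => z2 (mul_right_cancel (q.trans tt.symm)), fun q => z1 (by simpa using q),
      fun q => t1 (by simpa using q), fun y hy => ?_⟩
    obtain q | q := di y hy
    · exact (uq y hy q).imp_right .inl
    · refine .inr (.inr ((uq _ (mul_mem hz hy) ?_).imp (fun r => ?_) fun r => ?_))
      · rw [map_mul, k, q, mul_assoc, ← mul_assoc t, yc y hy t S.tY, mul_assoc, tt, mul_one]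
      · exact mul_left_cancel (r.trans (S.el z hz).symm)
      · rw [← r, ← mul_assoc, S.el z hz, one_mul]
  have hu := S.sq b hb
  have hv := S.sq d hd
  obtain p | p := di _ hu <;> obtain q | q := di _ hv
  · rw [p, q, S.el _ hu, S.el _ hv, mul_one] at e4
    exact (t1 e4.symm).elim
  · obtain ⟨k1, k2, k3, k4, k5, k6⟩ := key _ hv q
    exact ⟨a, d, e, b, c, _, _, ha, hd, he, hb, hc, e1, rfl, e3.trans q, rfl, e2.trans p, k1, k2, k3, k4, k5, t1, uq _ hu p, k6,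
      fun x hx hY => by have := h x hx hY; tauto⟩
  · obtain ⟨k1, k2, k3, k4, k5, k6⟩ := key _ hu p
    exact ⟨a, b, c, d, e, _, _, ha, hb, hc, hd, he, e1, rfl, e2.trans p, rfl, e3.trans q, k1, k2, k3, k4, k5, t1, uq _ hv q, k6, h⟩
  · rw [p, q, ← mul_assoc (b * b), S.el _ hu, ← mul_assoc (d * d), S.el _ hv, one_mul, tt] at e4
    exact (t1 e4.symm).elim

theorem st (H : Bg F t l) {p a b : G} (hp : p ∈ Bt F t l) (h : Sm F t l p a) (h' : Sm F t l p b) : Sm F t l a b :=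
  Sm_trans H (Sm_mem H hp h).1 (Sm_symm H hp h) h'

theorem val (H : Bg F t l) : ∃ a b c d e z v : G, a ∈ Bt F t l ∧ b ∈ Bt F t l ∧ c ∈ Bt F t l ∧ d ∈ Bt F t l ∧
    e ∈ Bt F t l ∧ z ≠ 1 ∧ z ≠ t ∧ z * t ≠ 1 ∧ z * t ≠ t ∧ z ≠ z * t ∧ t ≠ 1 ∧ (v = 1 ∨ v = t) ∧
    ∀ x ∈ Bt F t l, x ∉ Yt F t l → Sm F t l a x ∧ x * x = t ∨ Sm F t l b x ∧ x * x = z ∨ Sm F t l c x ∧ x * x = z * t ∨
      Sm F t l d x ∧ x * x = v ∨ Sm F t l e x ∧ x * x = v := by
  obtain ⟨a, b, c, d, e, z, v, ha, hb, hc, hd, he, e1, e2, e3, e4, e5, k1, k2, k3, k4, k5, k6, k7, -, h⟩ := five' H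
  refine ⟨a, b, c, d, e, z, v, ha, hb, hc, hd, he, k1, k2, k3, k4, k5, k6, k7, fun x hx hY => ?_⟩
  exact (h x hx hY).imp (fun k => ⟨k, (Sm_mem H ha k).2.2.trans e1⟩) (Or.imp (fun k => ⟨k, (Sm_mem H hb k).2.2.trans e2⟩)
    (Or.imp (fun k => ⟨k, (Sm_mem H hc k).2.2.trans e3⟩) (Or.imp (fun k => ⟨k, (Sm_mem H hd k).2.2.trans e4⟩)
      fun k => ⟨k, (Sm_mem H he k).2.2.trans e5⟩)))

theorem nY' (H : Bg F t l) {a : G} (h : a * a ≠ 1) : a ∉ Yt F t l := fun k => h ((b1 H.c1 H.pr).el a k)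

end B7b

theorem v1 (H : Bg F t l) {y : G} (hy : y ∈ Yt F t l) (h1 : y ≠ 1) : ∃ b ∈ Bt F t l, b * b = y := by
  obtain ⟨a, b, c, d, e, z, v, ha, hb, hc, hd, he, e1, e2, e3, e4, e5, k1, k2, k3, k4, k5, k6, k7, h, -⟩ := B7b.five' H
  obtain q | q | q | q := h y hy
  · exact (h1 q).elim
  · exact ⟨a, ha, q ▸ e1⟩
  · exact ⟨b, hb, q ▸ e2⟩
  · exact ⟨c, hc, q ▸ e3⟩

theorem v2 (H : Bg F t l) {y : G} (h1 : y ≠ 1) (ht : y ≠ t) {a b : G} (ha : a ∈ Bt F t l) (hb : b ∈ Bt F t l)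
    (h : a * a = y) (h' : b * b = y) : Sm F t l a b := by
  obtain ⟨p0, p1, p2, p3, p4, z, v, h0, h1', h2, h3, h4, k1, k2, k3, k4, k5, k6, k7, k⟩ := B7b.val H
  have hv : y ≠ v := by rintro rfl; exact k7.elim h1 ht
  have x := k a ha (B7b.nY' H (h ▸ h1))
  have x' := k b hb (B7b.nY' H (h' ▸ h1))
  rw [h] at x
  rw [h'] at x'
  obtain x | x | x | x | x := x <;> obtain x' | x' | x' | x' | x' := x' <;>
    first | exact B7b.st H ‹_› x.1 x'.1 | exact (ht x.2).elim | exact (ht x'.2).elim | exact (hv x.2).elim |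
      exact (hv x'.2).elim | exact (k5 (x.2.symm.trans x'.2)).elim | exact (k5 (x'.2.symm.trans x.2)).elim

theorem v3 (H : Bg F t l) {c : G} (hc : c ∈ Bt F t l) (hY : c ∉ Yt F t l) (h2 : c * c = 1) {a b : G}
    (ha : a ∈ Bt F t l) (hb : b ∈ Bt F t l) (h : a * a = t) (h' : b * b = t) : Sm F t l a b := by
  obtain ⟨p0, p1, p2, p3, p4, z, v, h0, h1', h2', h3, h4, k1, k2, k3, k4, k5, k6, k7, k⟩ := B7b.val H
  have hv : 1 = v := by
    have x := k c hc hY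
    rw [h2] at x
    obtain x | x | x | x | x := x
    exacts [(k6 x.2.symm).elim, (k1 x.2.symm).elim, (k3 x.2.symm).elim, x.2, x.2]
  have key : ∀ a ∈ Bt F t l, a * a = t → Sm F t l p0 a := fun a ha h => by
    have x := k a ha (B7b.nY' H (h ▸ k6))
    rw [h, ← hv] at x
    obtain x | x | x | x | x := x
    exacts [x.1, (k2 x.2.symm).elim, (k4 x.2.symm).elim, (k6 x.2).elim, (k6 x.2).elim]
  exact B7b.st H h0 (key a ha h) (key b hb h')

theorem v4 (H : Bg F t l) {a b c : G} (ha : a ∈ Bt F t l) (hb : b ∈ Bt F t l) (hc : c ∈ Bt F t l)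
    (haY : a ∉ Yt F t l) (hbY : b ∉ Yt F t l) (hcY : c ∉ Yt F t l) (h : a * a = 1) (h' : b * b = 1) (h'' : c * c = 1) :
    Sm F t l a b ∨ Sm F t l a c ∨ Sm F t l b c := by
  obtain ⟨p0, p1, p2, p3, p4, z, v, h0, h1', h2', h3, h4, k1, k2, k3, k4, k5, k6, k7, k⟩ := B7b.val H
  have key : ∀ a ∈ Bt F t l, a ∉ Yt F t l → a * a = 1 → Sm F t l p3 a ∨ Sm F t l p4 a := fun a ha hY h => by
    have x := k a ha hY
    rw [h] at x
    obtain x | x | x | x | x := x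
    exacts [(k6 x.2.symm).elim, (k1 x.2.symm).elim, (k3 x.2.symm).elim, .inl x.1, .inr x.1]
  obtain x | x := key a ha haY h <;> obtain y | y := key b hb hbY h' <;> obtain w | w := key c hc hcY h'' <;>
    first | exact .inl (B7b.st H ‹_› x y) | exact .inr (.inl (B7b.st H ‹_› x w)) | exact .inr (.inr (B7b.st H ‹_› y w))

end Cfsg.Agent.RC
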