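import Cfsg.Agent.RC.Df2
import Cfsg.Agent.RC.B7b
import Cfsg.Agent.RC.B5

/-! RC/B7c (S3860): elements centralising `Y`, and singular points. -/

set_option autoImplicit false

namespace Cfsg.Agent.RC

open Subgroup

universe u

variable {G : Type u} [Group G] [Finite G]

variable {F : G → Subgroup G} {t l : G} {τ : MulAut G}

theorem B7c.four {Y : Subgroup G} (hc : Nat.card Y = 4) {t y y' : G} (ht : t ∈ Y) (t1 : t ≠ 1) (t2 : t * t = 1)
    (hy : y ∈ Y) (y1 : y ≠ 1) (yt : y ≠ t) (hy' : y' ∈ Y) (y1' : y' ≠ 1) (yt' : y' ≠ t) :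
    y' = y ∨ y' = y * t := by
  classical
  by_contra! k
  have a1 : y * t ≠ 1 := fun e => yt (mul_right_cancel (e.trans t2.symm))
  have a2 : y * t ≠ t := fun e => y1 (mul_eq_right.1 e)
  have a3 : y * t ≠ y := fun e => t1 (mul_eq_left.1 e)
  have h1 : (({y', y * t, y, t, 1} : Finset G) : Set G) ⊆ (Y : Set G) := by
    intro x hx
    simp only [Finset.coe_insert, Finset.coe_singleton, Set.mem_insert_iff, Set.mem_singleton_iff] at hx
    rcases hx with rfl | rfl | rfl | rfl | rfl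
    exacts [hy', mul_mem hy ht, hy, ht, one_mem _]
  have h2 := Set.ncard_le_ncard h1 (Set.toFinite _)
  rw [Set.ncard_coe_finset, ← Nat.card_coe_set_eq, SetLike.coe_sort_coe, hc,
    Finset.card_insert_of_notMem (by simp [k.1, k.2, y1', yt']),
    Finset.card_insert_of_notMem (by simp [a1, a2, a3, t1, y1]),
    Finset.card_insert_of_notMem (by simp [y1, yt]), Finset.card_insert_of_notMem (by simp [t1]),
    Finset.card_singleton] at h2
  omega

theorem B7c.exz {Y : Subgroup G} (hc : Nat.card Y = 4) (t : G) : ∃ z ∈ Y, z ≠ 1 ∧ z ≠ t := by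
  classical
  by_contra! k
  have h1 : (Y : Set G) ⊆ (({1, t} : Finset G) : Set G) := by
    intro x hx
    by_cases h : x = 1
    · simp [h]
    · simp [k x hx h]
  have h2 := Set.ncard_le_ncard h1 (Set.toFinite _)
  rw [Set.ncard_coe_finset, ← Nat.card_coe_set_eq, SetLike.coe_sort_coe, hc] at h2
  have := Finset.card_le_two (a := (1 : G)) (b := t)
  omega

omit [Finite G] in
theorem B7c.t2 (P : Pr t l) : t ≠ 1 ∧ t * t = 1 :=
  ⟨fun e => by have := P.inv; rw [e, orderOf_one] at this; omega, by rw [← pow_two, ← P.inv, pow_orderOf_eq_one]⟩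

theorem x0 (H : Bg F t l) {f : G} (hf : f ∈ F t) (h : f ∈ Cs (Yt F t l)) :
    ∃ b ∈ Bt F t l, ∃ c ∈ F t ⊓ Cs (Bt F t l), f = b * c := by
  have S := b1 H.c1 H.pr
  obtain ⟨t1, t2⟩ := B7c.t2 H.pr
  obtain ⟨b, hb, c, ⟨hc, hl⟩, rfl⟩ := dec H.c1.toC0 H.pr f hf
  have hbY : b ∈ Cs (Yt F t l) := fun y hy => (((S.cz y).1 hy).2 b hb).symm
  have hcY : c ∈ Cs (Yt F t l) := (Subgroup.mul_mem_cancel_left _ hbY).1 h
  have fx : ∀ y ∈ Yt F t l, c * y * c⁻¹ = y := fun y hy => by rw [← hcY y hy, mul_inv_cancel_right]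
  have hn := nB H.c1.toC0 H.pr hc
  have cB' : ∀ a ∈ Bt F t l, c * a * c⁻¹ ∈ Bt F t l := fun a ha => (mem_normalizer_iff.1 hn a).1 ha
  obtain ⟨z, hz, z1, zt⟩ := B7c.exz (H.big t l H.pr).2.1 t
  have a1 : z * t ≠ 1 := fun e => zt (mul_right_cancel (e.trans t2.symm))
  have a2 : z * t ≠ t := fun e => z1 (mul_eq_right.1 e)
  have a3 : z * t ≠ z := fun e => t1 (mul_eq_left.1 e)
  obtain ⟨a, ha, e⟩ := v1 H hz z1
  obtain ⟨a', ha', e'⟩ := v1 H (mul_mem hz S.tY) a1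
  obtain ⟨n, hn2⟩ := ((H.c1.mem t H.pr.inv c).1 hc).2
  have it : ∀ (m : ℕ) (x : G), (fun x => c * x * c⁻¹)^[m] x = c ^ m * x * (c ^ m)⁻¹ := by
    intro m x
    induction m with
    | zero => simp
    | succ m ih => rw [Function.iterate_succ_apply', ih, pow_succ']; group
  refine ⟨b, hb, c, ⟨hc, hom H.c1 H.pr c hl hn (two H (fun x => c * x * c⁻¹) cB' (fun x _ y _ => ?_)
    (fun y hy => by rw [fx y hy]; exact hy) (fun x _ => ?_) n (fun x _ => by rw [it, hn2]; simp) ha ha'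
    (fun k => z1 (e.symm.trans (S.el a k))) (fun k => a1 (e'.symm.trans (S.el a' k)))
    (fun k => a3 (by rw [← e', (Sm_mem H ha k).2.2, e]))
    (v2 H z1 zt ha (cB' a ha) e (by rw [conj_mul, e, fx z hz]))
    (v2 H a1 a2 ha' (cB' a' ha') e' (by rw [conj_mul, e', fx _ (mul_mem hz S.tY)])))⟩, rfl⟩
  · rw [conj_mul, mul_inv_cancel]
    exact one_mem _
  · have e1 : c * l = l * c := mem_cen.1 hl
    have e2 : c * (l * x * l⁻¹) * c⁻¹ = l * (c * x * c⁻¹) * l⁻¹ := by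
      calc c * (l * x * l⁻¹) * c⁻¹ = (c * l) * x * (c * l)⁻¹ := by group
        _ = _ := by rw [e1]; group
    rw [e2, mul_inv_cancel]
    exact one_mem _

theorem x0s (H : Bg F t l) {f : G} (hf : f ∈ F t) (h : f ∈ Cs (Yt F t l)) (h4 : f * f * (f * f) = 1) :
    f * f ∈ Yt F t l := by
  have S := b1 H.c1 H.pr
  obtain ⟨b, hb, c, hc, e⟩ := x0 H hf h
  refine b5 H (mul_mem hf hf) ?_ h4
  have e1 : b * c = c * b := hc.2 b hb
  have e2 : f * f = b * b * (c * c) := by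
    rw [e]
    calc b * c * (b * c) = b * (c * b) * c := by group
      _ = _ := by rw [← e1]; group
  have h1 := cB H.c1 H.pr hc
  rw [e2]
  exact mul_mem (S.sq b hb).2 (mul_mem h1 h1)

theorem B7c.swap (H : Bg F t l) {f : G} (hf : f ∈ F t) (h : f ∉ Cs (Yt F t l)) {y : G} (hy : y ∈ Yt F t l)
    (y1 : y ≠ 1) (yt : y ≠ t) : f * y * f⁻¹ = y * t := by
  have S := b1 H.c1 H.pr
  obtain ⟨t1, t2⟩ := B7c.t2 H.pr
  have hc := (H.big t l H.pr).2.1
  have ft : f * t = t * f := mem_cen.1 ((tF H.c1.toC0 H.pr.inv).2 hf)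
  have ft' : f * t * f⁻¹ = t := by rw [ft, mul_inv_cancel_right]
  obtain ⟨y0, hy0, k⟩ : ∃ y0 ∈ Yt F t l, y0 * f ≠ f * y0 := by
    by_contra! k
    exact h k
  have b1' : y0 ≠ 1 := fun e => k (by rw [e, one_mul, mul_one])
  have bt : y0 ≠ t := fun e => k (by rw [e, ft])
  have hm : f * y0 * f⁻¹ ∈ Yt F t l :=
    (mem_normalizer_iff.1 (nY H.c1 H.pr (nB H.c1.toC0 H.pr hf)) y0).1 hy0
  have e0 : f * y0 * f⁻¹ = y0 * t := (B7c.four hc S.tY t1 t2 hy0 b1' bt hm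
    (fun e => b1' (conj_eq_one_iff.1 e))
    (fun e => bt (mul_left_cancel (mul_right_cancel (e.trans ft'.symm))))).resolve_left
    fun e => k (mul_inv_eq_iff_eq_mul.1 e).symm
  rcases B7c.four hc S.tY t1 t2 hy0 b1' bt hy y1 yt with rfl | rfl
  · exact e0
  · rw [← conj_mul, e0, ft']

theorem x0i (H : Bg F t l) {f g : G} (hf : f ∈ F t) (hg : g ∈ F t) (h : f ∉ Cs (Yt F t l)) (h' : g ∉ Cs (Yt F t l)) :
    f * g ∈ Cs (Yt F t l) := by
  obtain ⟨t1, t2⟩ := B7c.t2 H.pr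
  have ft : f * t = t * f := mem_cen.1 ((tF H.c1.toC0 H.pr.inv).2 hf)
  intro y hy
  by_cases y1 : y = 1
  · rw [y1, one_mul, mul_one]
  by_cases yt : y = t
  · rw [yt]
    exact (mem_cen.1 ((tF H.c1.toC0 H.pr.inv).2 (mul_mem hf hg))).symm
  have e1 := B7c.swap H hf h hy y1 yt
  have e2 := B7c.swap H hg h' hy y1 yt
  refine (mul_inv_eq_iff_eq_mul.1 ?_).symm
  calc f * g * y * (f * g)⁻¹ = f * (g * y * g⁻¹) * f⁻¹ := by group
    _ = f * y * f⁻¹ * (f * t * f⁻¹) := by rw [e2]; group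
    _ = y := by rw [e1, ft, mul_inv_cancel_right, mul_assoc, t2, mul_one]

theorem singW (H : Bg F t l) {c b : G} (hc : c ∈ Bt F t l) (hY : c ∉ Yt F t l) (h2 : c * c = 1) (hb : b ∈ Bt F t l)
    (h : b * c = c * b) : b * b = 1 ∧ (b ∈ Yt F t l ∨ Sm F t l c b) := by
  have S := b1 H.c1 H.pr
  by_cases k : b ∈ Yt F t l ∨ Sm F t l c b
  · exact ⟨k.elim (S.el b) fun k' => (Sm_mem H hc k').2.2.trans h2, k⟩
  exfalso
  obtain ⟨W, -, -, -, hW⟩ := span H hc hY
  have k1 : ¬ (c * b ∈ Yt F t l ∨ Sm F t l c (c * b)) := fun e =>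
    k ((hW b).1 ((W.mul_mem_cancel_left ((hW c).2 (Or.inr (Sm_refl c)))).1 ((hW _).2 e)))
  rw [not_or] at k k1
  obtain ⟨W', -, -, -, hW'⟩ := span H hb k.1
  have k2 : ¬ Sm F t l b (c * b) := fun e =>
    ((hW' c).1 ((W'.mul_mem_cancel_right ((hW' b).2 (Or.inr (Sm_refl b)))).1 ((hW' _).2 (Or.inr e)))).elim hY
      fun e' => k.2 (Sm_symm H hb e')
  have e1 : c * b * (c * b) = b * b := by
    calc c * b * (c * b) = c * (b * c) * b := by group
      _ = c * c * (b * b) := by rw [h]; group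
      _ = _ := by rw [h2, one_mul]
  by_cases v1' : b * b = 1
  · rcases v4 H hc hb (mul_mem hc hb) hY k.1 k1.1 h2 v1' (e1.trans v1') with e | e | e
    exacts [k.2 e, k1.2 e, k2 e]
  by_cases vt : b * b = t
  · exact k2 (v3 H hc hY h2 hb (mul_mem hc hb) vt (e1.trans vt))
  · exact k2 (v2 H v1' vt hb (mul_mem hc hb) rfl e1)

end Cfsg.Agent.RC
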