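import Cfsg.Agent.RC.Df2
import Cfsg.Agent.RC.B7c
import Cfsg.Agent.RC.B6

/-! RC/B8 (S3860): every involution of `F t` lies in `B`. -/

set_option autoImplicit false
set_option linter.unusedSectionVars false

namespace Cfsg.Agent.RC

open Subgroup

universe u

variable {G : Type u} [Group G] [Finite G]

variable {F : G → Subgroup G} {t l : G} {τ : MulAut G}

namespace B8

theorem cnt (D K : Subgroup G) {S : Type*} [Finite S] (φ : D → S)
    (h : ∀ a b : D, φ a = φ b → (a : G)⁻¹ * b ∈ K) : Nat.card D ≤ Nat.card S * Nat.card ↥(D ⊓ K) := by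
  classical
  have hr : ∀ a : D, ∃ r : D, φ r = φ a := fun a => ⟨a, rfl⟩
  let r : S → D := fun s => if e : ∃ r : D, φ r = s then e.choose else 1
  have hr' : ∀ a : D, φ (r (φ a)) = φ a := fun a => by
    simp only [r, dif_pos (hr a)]
    exact (hr a).choose_spec
  rw [← Nat.card_prod]
  refine Nat.card_le_card_of_injective (fun a : D => (φ a, (⟨((r (φ a) : D) : G)⁻¹ * a,
    D.mul_mem (D.inv_mem (r (φ a)).2) a.2, h _ _ (hr' a)⟩ : ↥(D ⊓ K)))) fun a b e => ?_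
  have e1 : φ a = φ b := congrArg Prod.fst e
  have e2 : ((r (φ a) : D) : G)⁻¹ * a = ((r (φ b) : D) : G)⁻¹ * b := congrArg (fun x => (x.2 : G)) e
  rw [e1] at e2
  exact Subtype.ext (mul_left_cancel e2)

theorem idx2 (D Z : Subgroup G) (h : ∀ x ∈ D, ∀ y ∈ D, x ∉ Z → y ∉ Z → x * y ∈ Z) :
    Nat.card D ≤ 2 * Nat.card ↥(D ⊓ Z) := by
  classical
  have := cnt D Z (fun a => decide ((a : G) ∈ Z)) fun a b e => by
    by_cases ha : (a : G) ∈ Z
    · have hb : (b : G) ∈ Z := by simpa [ha] using e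
      exact Z.mul_mem (Z.inv_mem ha) hb
    · have hb : (b : G) ∉ Z := by simpa [ha] using e
      exact h _ (D.inv_mem a.2) _ b.2 (fun k => ha (by simpa using k)) hb
  simpa using this

theorem ex_not {D Y : Subgroup G} (h : Nat.card Y < Nat.card D) : ∃ a ∈ D, a ∉ Y := by
  by_contra k
  push Not at k
  exact absurd (card_le_of_le (show D ≤ Y from k)) (not_le.2 h)

theorem iter (c x : G) (n : ℕ) : (fun y => c * y * c⁻¹)^[n] x = c ^ n * x * (c ^ n)⁻¹ := by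
  induction n with
  | zero => simp
  | succ n ih => rw [Function.iterate_succ_apply', ih, pow_succ']; group

end B8

open B8

theorem x1 (H : Bg F t l) {u : G} (hu : orderOf u = 2) (hY : u ∉ Yt F t l) : ∃ l', Pr u l' ∧
    Yt F u l' ⊓ Yt F t l = ⊥ ∧
    (∀ x ∈ F t ⊓ cen u, x ∈ Cs (Yt F u l') → x * x ∈ Yt F t l → x * x = 1) ∧
    (∀ x ∈ F t ⊓ cen u, ∀ y ∈ F t ⊓ cen u, x ∉ Cs (Yt F u l') → y ∉ Cs (Yt F u l') → x * y ∈ Cs (Yt F u l')) := by
  obtain ⟨g, P', -⟩ := b6z H hu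
  have H' : Bg F u (g * l * g⁻¹) := ⟨H.c1, H.big, P'⟩
  have hF : ∀ x ∈ F t ⊓ cen u, x ∈ F u := fun x hx =>
    (H.c1.mem u hu x).2 ⟨hx.2, ((H.c1.mem t H.pr.inv x).1 hx.1).2⟩
  have hb : Yt F u (g * l * g⁻¹) ⊓ Yt F t l = ⊥ := by
    refine eq_bot_iff.2 fun y hy => ?_
    by_contra h1
    have e := b6 H P' hy.2 hy.1 h1
    exact hY (e ▸ (b1 H.c1 P').tY)
  refine ⟨_, P', hb, fun x hx hc h2 => ?_, fun x hx y hy h1 h2 => x0i H' (hF x hx) (hF y hy) h1 h2⟩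
  have := x0s H' (hF x hx) hc ((b1 H.c1 H.pr).el _ h2)
  exact mem_bot.1 (hb ▸ (⟨this, h2⟩ : x * x ∈ Yt F u (g * l * g⁻¹) ⊓ Yt F t l))

theorem b8 (H : Bg F t l) {u : G} (hu : u ∈ F t) (h2 : u * u = 1) : u ∈ Bt F t l := by
  by_contra huB
  have u1 : u ≠ 1 := fun e => huB (e ▸ one_mem _)
  have ho : orderOf u = 2 := orderOf_eq_prime (by rw [pow_two, h2]) u1
  have huY : u ∉ Yt F t l := fun k => huB k.1
  obtain ⟨l', P', -, hsq, hix⟩ := x1 H ho huY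
  have C := H.c1.toC0
  have S := b1 H.c1 H.pr
  obtain ⟨-, c4, c64⟩ := H.big t l H.pr
  obtain ⟨b, hb, c, hc, rfl⟩ := dec C H.pr u hu
  have hcB : ∀ x ∈ Bt F t l, c * x * c⁻¹ ∈ Bt F t l := fun x hx =>
    (mem_normalizer_iff.1 (nB C H.pr hc.1) x).1 hx
  have hcY : ∀ x ∈ Yt F t l, c * x * c⁻¹ ∈ Yt F t l := fun x hx =>
    (mem_normalizer_iff.1 (nY H.c1 H.pr (nB C H.pr hc.1)) x).1 hx
  have eqv : ∀ x ∈ Bt F t l, b * c * x * (b * c)⁻¹ * x⁻¹ ∈ Yt F t l ↔ c * x * c⁻¹ * x⁻¹ ∈ Yt F t l := by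
    intro x hx
    have e : b * c * x * (b * c)⁻¹ * x⁻¹ = (b * (c * x * c⁻¹) * b⁻¹ * (c * x * c⁻¹)⁻¹) * (c * x * c⁻¹ * x⁻¹) := by
      group
    rw [e]
    exact Subgroup.mul_mem_cancel_left _ (S.cm b hb _ (hcB x hx))
  -- a singular element in a large subgroup of `C_B(u)`
  have key : ∀ D : Subgroup G, D ≤ Bt F t l → D ≤ cen (b * c) → ∀ E : Subgroup G, 2 * Nat.card E < Nat.card D →
      ∃ a ∈ D, a ∉ E ∧ a * a = 1 := by
    intro D h1 h3 E h4
    have hX : ∀ x ∈ D, x ∈ F t ⊓ cen (b * c) := fun x hx => ⟨B_le C H.pr (h1 hx), h3 hx⟩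
    have h5 := idx2 D (Cs (Yt F (b * c) l')) fun x hx y hy => hix x (hX x hx) y (hX y hy)
    obtain ⟨a, ha, haE⟩ := ex_not (D := D ⊓ Cs (Yt F (b * c) l')) (Y := E) (by omega)
    exact ⟨a, ha.1, haE, hsq a (hX a ha.1) ha.2 (S.sq a (h1 ha.1))⟩
  by_cases h0 : ∀ x ∈ Bt F t l, c * x * c⁻¹ * x⁻¹ ∈ Yt F t l
  · have hcC := hom H.c1 H.pr c hc.2 (nB C H.pr hc.1) h0
    have hcm : ∀ x ∈ Bt F t l, x * c = c * x := fun x hx => hcC x hx
    have hbb : b * b ≠ 1 := by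
      intro e
      have e' : c * c = 1 := by
        have : b * c * (b * c) = b * b * (c * c) := by
          rw [mul_assoc b c, ← mul_assoc c b, ← hcm b hb]; group
        rw [this, e, one_mul] at h2
        exact h2
      exact huB (mul_mem hb (b5 H hc.1 hc.2 e').1)
    have h6 := cnt (Bt F t l) (cen b) (S := Yt F t l) (fun a => ⟨a * b * a⁻¹ * b⁻¹, S.cm a a.2 b hb⟩) fun a a' e => by
      have e1 : (a : G) * b * a⁻¹ * b⁻¹ = a' * b * a'⁻¹ * b⁻¹ := congrArg Subtype.val e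
      have e2 := mul_right_cancel e1
      refine mem_cen.2 ?_
      calc (a : G)⁻¹ * a' * b = (a : G)⁻¹ * (a' * b * (a' : G)⁻¹) * a' := by group
        _ = b * ((a : G)⁻¹ * a') := by
          have e3 : (a' : G) * b * (a' : G)⁻¹ = a * b * (a : G)⁻¹ := by simpa using e2.symm
          rw [e3]; group
    obtain ⟨a, ha, haY, ha2⟩ := key (Bt F t l ⊓ cen b) inf_le_left (fun x hx => mem_cen.2 (by
      rw [← mul_assoc, mem_cen.1 hx.2, mul_assoc, hcm x hx.1, mul_assoc])) (Yt F t l) (by rw [c4] at h6; omega)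
    exact hbb (singW H ha.1 haY ha2 hb (mem_cen.1 ha.2).symm).1
  · apply h0
    push Not at h0
    obtain ⟨a0, ha0, h0⟩ := h0
    have huB' : ∀ x ∈ Bt F t l, b * c * x * (b * c)⁻¹ ∈ Bt F t l := fun x hx =>
      (mem_normalizer_iff.1 (nB C H.pr hu) x).1 hx
    have hinv : ∀ x, b * c * (b * c * x * (b * c)⁻¹ * x⁻¹) * (b * c)⁻¹ = (b * c * x * (b * c)⁻¹ * x⁻¹)⁻¹ := by
      intro x
      generalize b * c = u at h2
      have e : u⁻¹ = u := inv_eq_of_mul_eq_one_right h2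
      simp only [mul_inv_rev, inv_inv, e, ← mul_assoc, h2, one_mul]
    -- `u` does not centralise `Y`
    have hnc : b * c ∉ Cs (Yt F t l) := by
      intro k
      obtain ⟨b', hb', c', hc', e⟩ := x0 H hu k
      refine h0 ((eqv a0 ha0).1 ?_)
      have e1 : a0 * c' = c' * a0 := hc'.2 a0 ha0
      have : b * c * a0 * (b * c)⁻¹ * a0⁻¹ = b' * a0 * b'⁻¹ * a0⁻¹ := by
        rw [e, mul_assoc b' c', ← e1]; group
      rw [this]
      exact S.cm b' hb' a0 ha0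
    have hY2 : Nat.card ↥(Yt F t l ⊓ cen (b * c)) ≤ 2 := by
      have d := card_dvd_of_le (inf_le_left : Yt F t l ⊓ cen (b * c) ≤ Yt F t l)
      have n4 : Nat.card ↥(Yt F t l ⊓ cen (b * c)) ≠ 4 := by
        intro e
        have := eq_of_le_of_card_ge (inf_le_left : Yt F t l ⊓ cen (b * c) ≤ Yt F t l) (by omega)
        exact hnc fun y hy => mem_cen.1 (show y ∈ Yt F t l ⊓ cen (b * c) from this.symm ▸ hy).2
      rw [c4] at d
      have := Nat.le_of_dvd (by norm_num) d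
      generalize Nat.card ↥(Yt F t l ⊓ cen (b * c)) = n at *
      interval_cases n <;> simp_all
    have hw : b * c * a0 * (b * c)⁻¹ * a0⁻¹ ∈ Bt F t l := mul_mem (huB' a0 ha0) (inv_mem ha0)
    have hwY : b * c * a0 * (b * c)⁻¹ * a0⁻¹ ∉ Yt F t l := fun k => h0 ((eqv a0 ha0).1 k)
    have hw2 := (eqv _ hw).1 (by rw [hinv, ← mul_inv_rev]; exact inv_mem (S.sq _ hw))
    generalize b * c * a0 * (b * c)⁻¹ * a0⁻¹ = w at hw hwY hw2
    obtain ⟨W, c16, hWB, -, hW⟩ := span H hw hwY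
    have hWc : ∀ x ∈ W, b * c * x * (b * c)⁻¹ * x⁻¹ ∈ Yt F t l := by
      intro x hx
      refine (eqv x (hWB hx)).2 ?_
      rcases (hW x).1 hx with k | ⟨i, k⟩
      · exact mul_mem (hcY x k) (inv_mem k)
      · have e1 : l ^ i * c = c * l ^ i := ((show Commute c l from mem_cen.1 hc.2).pow_right i).symm.eq
        have e2 : c * w * c⁻¹ * w⁻¹ * l ^ i = l ^ i * (c * w * c⁻¹ * w⁻¹) :=
          ((show Commute (c * w * c⁻¹ * w⁻¹) l from mem_cen.1 hw2.2).pow_right i).eq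
        have e3 : c * (l ^ i * w * (l ^ i)⁻¹) * c⁻¹ * (l ^ i * w * (l ^ i)⁻¹)⁻¹ = c * w * c⁻¹ * w⁻¹ := by
          calc c * (l ^ i * w * (l ^ i)⁻¹) * c⁻¹ * (l ^ i * w * (l ^ i)⁻¹)⁻¹
              = (c * l ^ i) * w * (c * l ^ i)⁻¹ * l ^ i * w⁻¹ * (l ^ i)⁻¹ := by group
            _ = l ^ i * (c * w * c⁻¹ * w⁻¹) * (l ^ i)⁻¹ := by rw [← e1]; group
            _ = c * w * c⁻¹ * w⁻¹ := by rw [← e2]; group
        have e4 : c * x * c⁻¹ * x⁻¹ = c * (x * (l ^ i * w * (l ^ i)⁻¹)⁻¹) * c⁻¹ *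
            (c * (l ^ i * w * (l ^ i)⁻¹) * c⁻¹ * (l ^ i * w * (l ^ i)⁻¹)⁻¹) * (x * (l ^ i * w * (l ^ i)⁻¹)⁻¹)⁻¹ := by
          group
        rw [e4, e3]
        exact mul_mem (mul_mem (hcY _ k) hw2) (inv_mem k)
    have h6 := cnt W (cen (b * c)) (S := ↥(Yt F t l ⊓ cen (b * c)))
      (fun a => ⟨b * c * a * (b * c)⁻¹ * a⁻¹, hWc a a.2, mem_cen.2 (by
        have e1 := hinv a
        rw [inv_eq_of_mul_eq_one_right (S.el _ (hWc a a.2)), mul_inv_eq_iff_eq_mul] at e1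
        exact e1.symm)⟩) fun a a' e => by
      have e1 : b * c * a * (b * c)⁻¹ * (a : G)⁻¹ = b * c * a' * (b * c)⁻¹ * (a' : G)⁻¹ := congrArg Subtype.val e
      refine mem_cen.2 ?_
      generalize b * c = u at e1
      calc (a : G)⁻¹ * a' * u = (a : G)⁻¹ * (u * a' * u⁻¹ * (a' : G)⁻¹)⁻¹ * u * a' := by group
        _ = u * ((a : G)⁻¹ * a') := by rw [← e1]; group
    obtain ⟨a, ha, haE, ha2⟩ := key (W ⊓ cen (b * c)) (inf_le_left.trans hWB) inf_le_right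
      (Yt F t l ⊓ cen (b * c)) (by nlinarith)
    have haB := hWB ha.1
    have haY : a ∉ Yt F t l := fun k => haE ⟨k, ha.2⟩
    have t1 : t ≠ 1 := fun e => by simpa [e] using H.pr.inv
    obtain ⟨a', ha', e'⟩ := v1 H S.tY t1
    obtain ⟨n, hn⟩ := ((C.mem t H.pr.inv c).1 hc.1).2
    refine two H (fun y => c * y * c⁻¹) hcB (fun x _ y _ => ?_) hcY (fun x _ => ?_) n (fun x _ => ?_) haB ha' haY
      (fun k => t1 (e'.symm.trans (S.el _ k))) (fun k => t1 ?_) ⟨0, ?_⟩ (v3 H haB haY ha2 ha' (hcB _ ha') e' ?_)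
    · have : c * (x * y) * c⁻¹ * (c * x * c⁻¹ * (c * y * c⁻¹))⁻¹ = 1 := by group
      simp only [this, one_mem]
    · have e1 : c * l = l * c := mem_cen.1 hc.2
      have : c * (l * x * l⁻¹) * c⁻¹ * (l * (c * x * c⁻¹) * l⁻¹)⁻¹ = 1 := by
        calc _ = (c * l) * x * (c * l)⁻¹ * (l * (c * x * c⁻¹) * l⁻¹)⁻¹ := by group
          _ = 1 := by rw [e1]; group
      simp only [this, one_mem]
    · rw [iter, hn]; simp
    · rw [← e', (Sm_mem H haB k).2.2, ha2]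
    · simp only [pow_zero, one_mul, inv_one, mul_one]
      refine (eqv a haB).1 ?_
      rw [← mem_cen.1 ha.2, mul_inv_cancel_right, mul_inv_cancel]
      exact one_mem _
    · have e1 : c * t = t * c := mem_cen.1 ((tF C H.pr.inv).2 hc.1)
      calc c * a' * c⁻¹ * (c * a' * c⁻¹) = c * (a' * a') * c⁻¹ := by group
        _ = t := by rw [e', e1]; group

end Cfsg.Agent.RC
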