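import Cfsg.Agent.RC.Df2

/-! RC/TT (S3860): Thompson transfer for an element of minimal order. -/

set_option autoImplicit false

namespace Cfsg.Agent.RC

open Subgroup

universe u

variable {G : Type u} [Group G] [Finite G]

theorem tt (S M : Subgroup G) (hS : IsPGroup 2 S) (ho : Odd S.index) (hM : M ≤ S) (hi : M.relIndex S = 2)
    (hG : ∀ N : Subgroup G, N.index ≠ 2) (x : G) (hx : x ∈ S) (hmin : ∀ s ∈ S, orderOf s < orderOf x → s ∈ M) :
    ∃ g : G, g * x * g⁻¹ ∈ M := by
  classical
  have _ := hM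
  by_contra hn
  have hn' : ∀ g : G, g⁻¹ * x * g ∉ M := fun g e => hn ⟨g⁻¹, by rwa [inv_inv]⟩
  let φ : S →* ℤˣ := MonoidHom.mk' (fun s => if s ∈ M.subgroupOf S then 1 else -1) fun a b => by
    simp only [mul_mem_iff_of_index_two hi]
    by_cases ha : a ∈ M.subgroupOf S <;> by_cases hb : b ∈ M.subgroupOf S <;> simp [ha, hb]
  have φ1 : ∀ s : S, s.1 ∈ M → φ s = 1 := fun s hs => if_pos hs
  have φ2 : ∀ s : S, s.1 ∉ M → φ s = -1 := fun s hs => if_neg hs
  have : Fact (Nat.Prime 2) := ⟨Nat.prime_two⟩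
  obtain ⟨k, hk⟩ := IsPGroup.iff_orderOf.1 hS ⟨x, hx⟩
  rw [Subgroup.orderOf_mk] at hk
  have : Fintype (Quotient (MulAction.orbitRel (zpowers x) (G ⧸ S))) := Fintype.ofFinite _
  have e : MonoidHom.transfer φ x = -1 := by
    rw [MonoidHom.transfer_eq_prod_quotient_orbitRel_zpowers_quot, ← ho.neg_one_pow,
      Subgroup.index_eq_sum_minimalPeriod S x, ← Finset.prod_pow_eq_pow_sum]
    refine Finset.prod_congr rfl fun q _ => ?_
    have hd : Function.minimalPeriod (x • ·) q.out ∣ orderOf x := MulAction.period_dvd_orderOf x q.out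
    have h0 : Function.minimalPeriod (x • ·) q.out ≠ 0 := fun e => (orderOf_pos x).ne' (by
      rwa [e, zero_dvd_iff] at hd)
    by_cases h1 : Function.minimalPeriod (x • ·) q.out = 1
    · rw [φ2 _ (by simp only [h1, pow_one]; exact hn' _), h1, pow_one]
    · have ev : Even (Function.minimalPeriod (x • ·) q.out) := by
        obtain ⟨j, -, hj⟩ := (Nat.dvd_prime_pow Nat.prime_two).1 (hk ▸ hd)
        rw [hj] at h1 ⊢
        exact (Nat.even_pow.2 ⟨even_two, fun e => h1 (by rw [e, pow_zero])⟩)
      rw [ev.neg_one_pow]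
      refine φ1 _ (hmin _ (QuotientGroup.out_conj_pow_minimalPeriod_mem S x q.out) ?_)
      have c : orderOf (q.out.out⁻¹ * x ^ Function.minimalPeriod (x • ·) q.out * q.out.out) =
          orderOf (x ^ Function.minimalPeriod (x • ·) q.out) := by
        have := orderOf_injective (MulAut.conj q.out.out⁻¹).toMonoidHom (MulAut.conj _).injective
          (x ^ Function.minimalPeriod (x • ·) q.out)
        rw [← this]
        congr 1
        simp [MulAut.conj_apply]
      rw [c, orderOf_pow_of_dvd h0 hd]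
      exact Nat.div_lt_self (orderOf_pos x) (by omega)
  refine hG (MonoidHom.transfer φ).ker ?_
  have r : (MonoidHom.transfer φ).range = ⊤ := eq_top_iff.2 fun u _ => by
    rcases Int.units_eq_one_or u with rfl | rfl
    · exact one_mem _
    · exact ⟨x, e⟩
  rw [Subgroup.index_ker, r, Subgroup.card_top, Nat.card_eq_fintype_card, Fintype.card_units_int]

end Cfsg.Agent.RC
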