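import Cfsg.Agent.RC.Df2
import Cfsg.Agent.RC.B8
import Cfsg.Agent.RC.TT
import Cfsg.Agent.RC.H2

/-! RC/B10 (S3860): `F t = B` and a second conjugate of `Y` inside `B`. -/

set_option autoImplicit false

namespace Cfsg.Agent.RC

open Subgroup

universe u

variable {G : Type u} [Group G] [Finite G]

variable {F : G → Subgroup G} {t l : G} {τ : MulAut G}

namespace B10

omit [Finite G] in
theorem ord2 {y : G} (h1 : y ≠ 1) (h2 : y * y = 1) : orderOf y = 2 := by
  haveI : Fact (Nat.Prime 2) := ⟨Nat.prime_two⟩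
  exact orderOf_eq_prime (by rw [pow_two]; exact h2) h1

omit [Finite G] in
theorem pg2 {A : Subgroup G} (h : ∀ a ∈ A, a * a = 1) : IsPGroup 2 A := by
  intro a
  refine ⟨1, Subtype.ext ?_⟩
  have := h a a.2
  simpa [pow_two] using this

theorem exu (H : Bg F t l) (hr : ¬ Cfsg.PRankLE 2 2 G) : ∃ u ∈ F t, u ∉ Yt F t l ∧ u * u = 1 := by
  unfold Cfsg.PRankLE at hr
  push Not at hr
  obtain ⟨A, -, hA, hc⟩ := hr
  have hA' : ∀ a ∈ A, a * a = 1 := fun a ha => by rw [← pow_two]; exact hA a ha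
  obtain ⟨g, hg⟩ := Fsub H.c1 H.pr.inv A (pg2 hA')
  have h4 := (H.big t l H.pr).2.1
  have hcard : Nat.card (cj g A) = Nat.card A :=
    card_map_of_injective (MulAut.conj g).injective
  have hn : ¬ cj g A ≤ Yt F t l := by
    intro hle
    have := card_le_of_le hle
    omega
  obtain ⟨u, hu, huY⟩ := SetLike.not_le_iff_exists.1 hn
  refine ⟨u, hg hu, huY, ?_⟩
  have h1 := hA' _ (mem_cj.1 hu)
  have : u * u = g * (g⁻¹ * u * g * (g⁻¹ * u * g)) * g⁻¹ := by group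
  rw [this, h1]; group

theorem YB : Yt F t l ≤ Bt F t l := inf_le_left

theorem BC (H : Bg F t l) {b : G} (hb : b ∈ Bt F t l) : b ∈ Cs (Yt F t l) := by
  rw [mem_centralizer_iff]
  intro y hy
  have := (((b1 H.c1 H.pr).cz y).1 hy).2
  rw [mem_centralizer_iff] at this
  exact (this b hb).symm

theorem exz (H : Bg F t l) : ∃ z ∈ Yt F t l, z ≠ 1 ∧ z ≠ t := by
  by_contra hn
  push Not at hn
  have h4 := (H.big t l H.pr).2.1
  have hle : Yt F t l ≤ zpowers t := by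
    intro z hz
    by_cases h1 : z = 1
    · rw [h1]; exact one_mem _
    · rw [hn z hz h1]; exact mem_zpowers t
  have := card_le_of_le hle
  rw [Nat.card_zpowers, H.pr.inv] at this
  omega

end B10

open B10 in
theorem b10 (H : Bg F t l) (hr : ¬ Cfsg.PRankLE 2 2 G) :
    F t = Bt F t l ∧ ∃ u ∈ Bt F t l, u ∉ Yt F t l ∧ u * u = 1 ∧ ∃ g : G, cj g (Yt F t l) ≤ Bt F t l ∧
      u ∈ cj g (Yt F t l) ∧ cj g (Yt F t l) ⊓ Yt F t l = ⊥ := by
  have C := H.c1
  have C0' : C0 F := C.toC0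
  have P := H.pr
  have S := b1 C P
  have hBF : Bt F t l ≤ F t := B_le C0' P
  obtain ⟨u, huF, huY, hu2⟩ := exu H hr
  have hu1 : u ≠ 1 := fun h => huY (h ▸ one_mem _)
  have hu : orderOf u = 2 := ord2 hu1 hu2
  have huB : u ∈ Bt F t l := b8 H huF hu2
  obtain ⟨l', P', hdis, hc, hd⟩ := x1 H hu huY
  have H' : Bg F u l' := ⟨H.c1, H.big, P'⟩
  have S' := b1 C P'
  have hYc : ∀ y ∈ Yt F t l, y ∈ F t ⊓ cen u := fun y hy =>
    ⟨hBF (YB hy), mem_cen.2 ((mem_centralizer_iff.1 (BC H huB)) y hy)⟩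
  have ht1 : t ≠ 1 := by
    intro h
    have := P.inv
    rw [h, orderOf_one] at this
    omega
  -- a non-trivial element of `Y` centralising `Y_u`
  obtain ⟨y, hy, hy1, hyc⟩ : ∃ y ∈ Yt F t l, y ≠ 1 ∧ y ∈ Cs (Yt F u l') := by
    by_cases h1 : t ∈ Cs (Yt F u l')
    · exact ⟨t, S.tY, ht1, h1⟩
    obtain ⟨z, hz, hz1, hzt⟩ := exz H
    by_cases h2 : z ∈ Cs (Yt F u l')
    · exact ⟨z, hz, hz1, h2⟩
    refine ⟨t * z, mul_mem S.tY hz, ?_, hd t (hYc t S.tY) z (hYc z hz) h1 h2⟩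
    intro h
    apply hzt
    have h3 := S.el t S.tY
    calc z = (t * t) * z := by rw [h3, one_mul]
      _ = t * (t * z) := by rw [mul_assoc]
      _ = t := by rw [h, mul_one]
  have hYuB : Yt F u l' ≤ Bt F t l := by
    have hyo : orderOf y = 2 := ord2 hy1 (S.el y hy)
    have hle : Yt F u l' ≤ F y := Fsyl C0' hyo _ (pg2 S'.el) (fun w hw =>
      mem_cen.2 ((mem_centralizer_iff.1 hyc) w hw))
    obtain ⟨Hy', hB⟩ := BY H hy hy1
    intro w hw
    rw [← hB]
    exact b8 Hy' (hle hw) (S'.el w hw)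
  -- `F t ⊓ Cs B ≤ Y`
  have hCel : ∀ n : ℕ, ∀ c ∈ F t ⊓ Cs (Bt F t l), c ^ 2 ^ n = 1 → c * c = 1 := by
    intro n
    induction n with
    | zero => intro c _ h; rw [pow_zero, pow_one] at h; rw [h, one_mul]
    | succ n ih =>
      intro c hc' h
      have h1 : (c * c) ^ 2 ^ n = 1 := by rw [← pow_two, ← pow_mul, ← pow_succ']; exact h
      have h2 := ih (c * c) (mul_mem hc' hc') h1
      have hcB := mem_centralizer_iff.1 hc'.2
      have h3 : c * c ∈ Yt F t l :=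
        x0s H hc'.1 (mem_centralizer_iff.2 fun w hw => hcB w (YB hw)) h2
      exact hc c ⟨hc'.1, mem_cen.2 (hcB u huB).symm⟩
        (mem_centralizer_iff.2 fun w hw => hcB w (hYuB hw)) h3
  have hCY : ∀ c ∈ F t ⊓ Cs (Bt F t l), c ∈ Yt F t l := by
    intro c hc'
    obtain ⟨n, hn⟩ := ((C0'.mem t P.inv c).1 hc'.1).2
    exact b5 H hc'.1 (cB C P hc') (hCel n c hc' hn)
  have hYB' : ∀ f ∈ F t, f ∈ Cs (Yt F t l) → f ∈ Bt F t l := by
    intro f hf h
    obtain ⟨b, hb, c, hc', rfl⟩ := x0 H hf h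
    exact mul_mem hb (YB (hCY c hc'))
  refine ⟨?_, u, huB, huY, hu2, ?_⟩
  · refine le_antisymm ?_ hBF
    by_contra hn
    obtain ⟨f, hf, hfB⟩ := SetLike.not_le_iff_exists.1 hn
    obtain ⟨b0, hb0, c, hc', rfl⟩ := dec C0' P f hf
    have hcB : c ∉ Bt F t l := fun h => hfB (mul_mem hb0 h)
    have hcC : c ∉ Cs (Yt F t l) := fun h => hcB (hYB' c hc'.1 h)
    have hcc : c * c ∈ Yt F t l :=
      ⟨hYB' _ (mul_mem hc'.1 hc'.1) (x0i H hc'.1 hc'.1 hcC hcC), mul_mem hc'.2 hc'.2⟩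
    have hcc1 : c * c ≠ 1 := fun h => hcB (b8 H hc'.1 h)
    have hc4 : orderOf c ≤ 4 := by
      refine orderOf_le_of_pow_eq_one (by norm_num) ?_
      have := S.el _ hcc
      calc c ^ 4 = c * c * (c * c) := by simp only [pow_succ, pow_zero, one_mul, mul_assoc]
        _ = 1 := this
    have hi : (Bt F t l).relIndex (F t) = 2 := by
      rw [relIndex, index_eq_two_iff]
      refine ⟨⟨c, hc'.1⟩, fun b => ?_⟩
      simp only [mem_subgroupOf, coe_mul]
      by_cases hb : (b : G) ∈ Bt F t l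
      · refine Or.inr ⟨hb, fun h => hcB ?_⟩
        exact (mul_mem_cancel_left hb).1 h
      · refine Or.inl ⟨?_, hb⟩
        exact hYB' _ (mul_mem b.2 hc'.1) (x0i H b.2 hc'.1 (fun h => hb (hYB' _ b.2 h)) hcC)
    obtain ⟨g, hg⟩ := tt (F t) (Bt F t l) (C0'.p2 t P.inv) (C.odd t P.inv) hBF hi
      (basics C0'.simp C0'.nab).2.1 c hc'.1 (by
        intro s hs hlt
        obtain ⟨n, hn⟩ := ((C0'.mem t P.inv s).1 hs).2
        obtain ⟨k, -, hk⟩ := (Nat.dvd_prime_pow Nat.prime_two).1 (orderOf_dvd_of_pow_eq_one hn)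
        have hk4 : 2 ^ k < 2 ^ 2 := by omega
        have hk2 : k ≤ 1 := by
          have := (Nat.pow_lt_pow_iff_right (by norm_num : 1 < 2)).1 hk4
          omega
        refine b8 H hs ?_
        rw [← pow_two]
        apply orderOf_dvd_iff_pow_eq_one.1
        rw [hk]
        exact (pow_dvd_pow 2 hk2).trans (by norm_num))
    have e1 : g * c * g⁻¹ * (g * c * g⁻¹) = g * (c * c) * g⁻¹ := by group
    have h1 : g * (c * c) * g⁻¹ ∈ Yt F t l := e1 ▸ S.sq _ hg
    have h2 : g * (c * c) * g⁻¹ ∈ Yt F (g * t * g⁻¹) (g * l * g⁻¹) := by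
      rw [(Bcj C0' P g).2, mem_cj]
      have : g⁻¹ * (g * (c * c) * g⁻¹) * g = c * c := by group
      rw [this]; exact hcc
    have h3 : g * (c * c) * g⁻¹ ≠ 1 := by
      intro h
      apply hcc1
      calc c * c = g⁻¹ * (g * (c * c) * g⁻¹) * g := by group
        _ = 1 := by rw [h]; group
    have h4 := b6 H (Pcj P g) h1 h2 h3
    rw [(Bcj C0' P g).2] at h4
    apply hcC
    rw [mem_centralizer_iff]
    intro w hw
    have h5 : g * w * g⁻¹ ∈ Yt F t l := by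
      rw [← h4, mem_cj]
      have : g⁻¹ * (g * w * g⁻¹) * g = w := by group
      rw [this]; exact hw
    have h6 := mem_centralizer_iff.1 (BC H hg) _ h5
    calc w * c = g⁻¹ * (g * w * g⁻¹ * (g * c * g⁻¹)) * g := by group
      _ = g⁻¹ * (g * c * g⁻¹ * (g * w * g⁻¹)) * g := by rw [h6]
      _ = c * w := by group
  · obtain ⟨g, Pg, hg⟩ := b6z H hu
    have e : cj g (Yt F t l) = Yt F u l' := by rw [← hg]; exact b6a H' Pg
    refine ⟨g, ?_, ?_, ?_⟩
    · rw [e]; exact hYuB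
    · rw [e]; exact S'.tY
    · rw [e]; exact hdis

end Cfsg.Agent.RC
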