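import Cfsg.Agent.RC.Df2
import Cfsg.Agent.CO1.SzL34

/-! RC/L34a (S3860): the element orders of `PSL₃(4)` are 1, 2, 3, 4, 5, 7, so it is a CIT group. -/

set_option autoImplicit false

namespace Cfsg.Agent.RC

open Subgroup

universe u

variable {G : Type u} [Group G] [Finite G]

theorem l34a {F : Type} [Field F] [Fintype F] (h : Fintype.card F = 4) (e : G ≃* Matrix.ProjectiveSpecialLinearGroup (Fin 3) F) : CIT G := by
  obtain ⟨e'⟩ := H56.L34.equiv h
  have ho : ∀ g : G, orderOf g ∈ [1, 2, 3, 4, 5, 7] := fun g => by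
    rw [← (e.trans e').orderOf_eq g]
    exact CO1.Sz.l34_ord _
  intro t ht x
  refine ⟨2, Subtype.ext ?_⟩
  have hc : Commute t (x : G) := (mem_cen.1 x.2).symm
  have h1 := ho (x : G)
  have h2 := ho (t * x)
  have h4 := hc.orderOf_mul_eq_mul_orderOf_of_coprime
  rw [ht] at h4
  show (x : G) ^ 2 ^ 2 = 1
  rw [← orderOf_dvd_iff_pow_eq_one]
  simp only [List.mem_cons, List.not_mem_nil, or_false] at h1 h2
  rcases h1 with h1 | h1 | h1 | h1 | h1 | h1 <;> rw [h1] at h4 ⊢
  · norm_num
  · norm_num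
  · have := h4 (by norm_num); omega
  · norm_num
  · have := h4 (by norm_num); omega
  · have := h4 (by norm_num); omega

end Cfsg.Agent.RC
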