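import Cfsg.Agent.RC.Df2
import Cfsg.Agent.RC.B7a

/-! RC/B7b2 (S3860): the values of squaring on the five points of `B / Y`. -/

set_option autoImplicit false

namespace Cfsg.Agent.RC.B7b2

open Subgroup

universe u

variable {G : Type u} [Group G] [Finite G]
variable {F : G → Subgroup G} {t l : G} {τ : MulAut G}

theorem hc (S : Sp F t l) {y b : G} (hy : y ∈ Yt F t l) (hb : b ∈ Bt F t l) : b * y = y * b :=
  ((S.cz y).1 hy).2 b hb

theorem E_mul (S : Sp F t l) {a a' b b' : G} (ha : a ∈ Bt F t l) (h : a * a'⁻¹ ∈ Yt F t l) (h' : b * b'⁻¹ ∈ Yt F t l) :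
    a * b * (a' * b')⁻¹ ∈ Yt F t l := by
  have e : a * b * (a' * b')⁻¹ = a * (b * b'⁻¹) * a'⁻¹ := by group
  rw [e, hc S h' ha, mul_assoc]
  exact mul_mem h' h

theorem E_sq (S : Sp F t l) {a b : G} (hb : b ∈ Bt F t l) (h : a * b⁻¹ ∈ Yt F t l) : a * a = b * b := by
  have e : a * a = a * b⁻¹ * (b * (a * b⁻¹)) * b := by group
  rw [e, hc S h hb, ← mul_assoc, S.el _ h, one_mul]

theorem cjY {y : G} (hy : y ∈ Yt F t l) (i : ℕ) : l ^ i * y * (l ^ i)⁻¹ = y := by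
  have : Commute y l := mem_cen.1 hy.2
  rw [← (this.pow_right i).eq, mul_inv_cancel_right]

theorem cjB (C : C1 F) (P : Pr t l) (i : ℕ) {b : G} (hb : b ∈ Bt F t l) : l ^ i * b * (l ^ i)⁻¹ ∈ Bt F t l :=
  (mem_normalizer_iff.1 (pow_mem (nBc C.toC0 P ⟨P.cm, mem_cen.2 rfl⟩) i) b).1 hb

theorem tli (C : C1 F) (P : Pr t l) (T : Ta F t τ) (i : ℕ) {b : G} (hb : b ∈ Bt F t l) :
    τ (l ^ i * b * (l ^ i)⁻¹) * (l ^ i * τ b * (l ^ i)⁻¹)⁻¹ ∈ Yt F t l := by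
  induction i with
  | zero => simp
  | succ i ih =>
    have h1 := tl C P T _ (cjB C P i hb)
    have h2 := cjY ih 1
    have e : τ (l ^ (i + 1) * b * (l ^ (i + 1))⁻¹) * (l ^ (i + 1) * τ b * (l ^ (i + 1))⁻¹)⁻¹ =
        τ (l * (l ^ i * b * (l ^ i)⁻¹) * l⁻¹) * (l * τ (l ^ i * b * (l ^ i)⁻¹) * l⁻¹)⁻¹ *
          (l ^ 1 * (τ (l ^ i * b * (l ^ i)⁻¹) * (l ^ i * τ b * (l ^ i)⁻¹)⁻¹) * (l ^ 1)⁻¹) := by
      rw [show l ^ (i + 1) * b * (l ^ (i + 1))⁻¹ = l * (l ^ i * b * (l ^ i)⁻¹) * l⁻¹ by group]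
      generalize τ (l * (l ^ i * b * (l ^ i)⁻¹) * l⁻¹) = x
      generalize τ (l ^ i * b * (l ^ i)⁻¹) = y
      generalize τ b = z
      group
    rw [e, h2]
    exact mul_mem h1 ih

theorem sqc (S : Sp F t l) {c x : G} (hc' : c ∈ Bt F t l) (hx : x ∈ Bt F t l) :
    x * c * (x * c) = c * x * c⁻¹ * x⁻¹ * (x * x * (c * c)) := by
  have e : x * c * (x * c) = x * (c * x * c⁻¹ * x⁻¹) * (x * (c * c)) := by group
  rw [e, hc S (S.cm c hc' x hx) hx]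
  group

theorem kmul (S : Sp F t l) {c x y : G} (hc' : c ∈ Bt F t l) (hx : x ∈ Bt F t l) (hy : y ∈ Bt F t l) :
    c * (x * y) * c⁻¹ * (x * y)⁻¹ = c * x * c⁻¹ * x⁻¹ * (c * y * c⁻¹ * y⁻¹) := by
  have e : c * (x * y) * c⁻¹ * (x * y)⁻¹ = c * x * c⁻¹ * (c * y * c⁻¹ * y⁻¹ * x⁻¹) := by group
  rw [e, ← hc S (S.cm c hc' y hy) (inv_mem hx)]
  group

theorem nrm (C : C1 F) (P : Pr t l) (T : Ta F t τ) {y : G} (hy : y ∈ Yt F t l) :
    (τ y = y ∧ (y = 1 ∨ y = t)) ∨ (y * τ y = t ∧ y ≠ 1 ∧ y ≠ t) := by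
  have S := b1 C P
  have h1 := (Ytau C P T y).2 hy
  have tt : τ (τ y) = y := by rw [← MulAut.mul_apply, T.sq, MulAut.one_apply]
  by_cases e : τ y = y
  · exact .inl ⟨e, T.uq y (B_le C.toC0 P hy.1) (S.el y hy) e⟩
  · refine .inr ⟨?_, fun k => e (by rw [k, map_one]), fun k => e (by rw [k, T.fix])⟩
    rcases T.uq _ (B_le C.toC0 P (mul_mem hy h1).1) (S.el _ (mul_mem hy h1))
      (by rw [map_mul, tt, hc S hy h1.1]) with k | k
    · exact (e (mul_left_cancel (k.trans (S.el y hy).symm))).elim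
    · exact k

theorem main (H : Bg F t l) : ∃ p0 p1 p2 p3 p4 : G, p0 ∈ Bt F t l ∧ p1 ∈ Bt F t l ∧ p2 ∈ Bt F t l ∧ p3 ∈ Bt F t l ∧
    p4 ∈ Bt F t l ∧ (∀ b ∈ Bt F t l, b ∉ Yt F t l →
      Sm F t l p0 b ∨ Sm F t l p1 b ∨ Sm F t l p2 b ∨ Sm F t l p3 b ∨ Sm F t l p4 b) ∧
    p0 * p0 = t ∧ p1 * p1 * (p2 * p2) = t ∧ p1 * p1 ≠ 1 ∧ p1 * p1 ≠ t ∧ p4 * p4 = p3 * p3 ∧
    (p3 * p3 = 1 ∨ p3 * p3 = t) := by
  have C := H.c1
  have P := H.pr
  have S := b1 C P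
  obtain ⟨τ, T⟩ := C.tau t P.inv
  obtain ⟨A, X⟩ := b2a C P T
  obtain ⟨l3, c4, c64⟩ := H.big t l P
  have c16 := axc C P c4 X
  have AB : A ≤ Bt F t l := fun b hb => ((X.mem b).1 hb).1
  have t1 : t ≠ 1 := fun e => by simpa [e] using P.inv
  have ll : l ^ 3 = 1 := by rw [← l3, pow_orderOf_eq_one]
  have l1 : l ^ 1 ≠ 1 := fun e => by
    rw [pow_one] at e
    simp [e] at l3
  obtain ⟨c, hc', cA⟩ : ∃ c ∈ Bt F t l, c ∉ A := by
    by_contra n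
    push Not at n
    have := card_le_of_le (show Bt F t l ≤ A from n)
    omega
  obtain ⟨a, ea⟩ : ∃ a, a = c⁻¹ * τ c := ⟨_, rfl⟩
  have aA : a ∈ A := ea ▸ X.im c hc'
  have aY : a ∉ Yt F t l := fun k => cA ((X.mem c).2 ⟨hc', ea ▸ k⟩)
  have aB := AB aA
  have sA : ∀ x ∈ A, x ∉ Yt F t l → Sm F t l a x := fun x hx k => span' H c16 X.lt.le AB X.nl aA hx aY k
  have fA : ∀ x ∈ A, τ x * x⁻¹ ∈ Yt F t l := fun x hx => by
    have h1 := ((X.mem x).1 hx).2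
    have e : τ x * x⁻¹ = x * (x⁻¹ * τ x) * x⁻¹ := by group
    rw [e, hc S h1 (AB hx), mul_inv_cancel_right]
    exact h1
  have a2 : a * a = t := by
    rcases T.uq _ (B_le C.toC0 P (mul_mem aB aB)) (S.el _ (S.sq a aB))
      (by rw [map_mul]; exact E_sq S aB (fA a aA)) with k | k
    · have := e4 T A (AB.trans (B_le C.toC0 P)) (fun x hx => by
        by_cases hY : x ∈ Yt F t l
        · exact S.el x hY
        · rw [(Sm_mem H aB (sA x hx hY)).2.2, k]) X.tau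
      omega
    · exact k
  obtain ⟨g, hg⟩ : ∃ g : ℕ → G, ∀ m, g m = l ^ m * a * (l ^ m)⁻¹ := ⟨_, fun _ => rfl⟩
  have gA : ∀ m, g m ∈ A := fun m => hg m ▸ (mem_normalizer_iff.1 (pow_mem X.nl m) a).1 aA
  have gB : ∀ m, g m ∈ Bt F t l := fun m => AB (gA m)
  have g2 : ∀ m, g m * g m = t := fun m => by rw [hg, conj_mul, a2, cjY S.tY]
  have g0 : g 0 = a := by simp [hg]
  have g3 : g 0 * g 1 * g 2 ∈ Yt F t l := by
    refine fpf C P 1 l1 _ (mul_mem (mul_mem (gB 0) (gB 1)) (gB 2)) ?_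
    have e : l ^ 1 * (g 0 * g 1 * g 2) * (l ^ 1)⁻¹ * (g 0 * g 1 * g 2)⁻¹ =
        g 1 * g 2 * g 0 * (g 1 * g 2)⁻¹ * (g 0)⁻¹ := by
      have : g 0 = l ^ 3 * a * (l ^ 3)⁻¹ := by simp [hg, ll]
      have e1 : l ^ 1 * (g 0 * g 1 * g 2) * (l ^ 1)⁻¹ = g 1 * g 2 * (l ^ 3 * a * (l ^ 3)⁻¹) := by
        simp only [hg]; group
      rw [e1, ← this]; group
    rw [e]
    exact S.cm _ (mul_mem (gB 1) (gB 2)) _ (gB 0)
  have cov : ∀ b ∈ Bt F t l, b ∉ Yt F t l → Sm F t l a b ∨ Sm F t l c b ∨ Sm F t l (g 0 * c) b ∨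
      Sm F t l (g 1 * c) b ∨ Sm F t l (g 2 * c) b := by
    intro b hb bY
    by_cases bA : b ∈ A
    · exact .inl (sA b bA bY)
    obtain ⟨i, hi⟩ := sA _ (X.im b hb) fun k => bA ((X.mem b).2 ⟨hb, k⟩)
    obtain ⟨d, hd⟩ : ∃ d, d = l ^ i * c * (l ^ i)⁻¹ := ⟨_, rfl⟩
    have dB : d ∈ Bt F t l := hd ▸ cjB C P i hc'
    have h1 : τ d * (d * (l ^ i * a * (l ^ i)⁻¹))⁻¹ ∈ Yt F t l := by
      have := tli C P T i hc'
      rw [← hd] at this
      convert this using 3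
      rw [hd, ea]; group
    have xA : b * d⁻¹ ∈ A := by
      refine (X.mem _).2 ⟨mul_mem hb (inv_mem dB), ?_⟩
      have h2 := E_mul S dB (a' := d) (by simp) hi
      have := mul_mem h2 (inv_mem h1)
      convert this using 1
      rw [map_mul, map_inv]; group
    by_cases xY : b * d⁻¹ ∈ Yt F t l
    · exact .inr (.inl ⟨i, hd ▸ xY⟩)
    obtain ⟨j, hj⟩ := sA _ xA xY
    have key : Sm F t l (g ((j + 2 * i) % 3) * c) b := by
      refine ⟨i, ?_⟩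
      have e1 : l ^ i * l ^ ((j + 2 * i) % 3) = l ^ j := by
        rw [← pow_eq_pow_mod _ ll, ← pow_add, show i + (j + 2 * i) = j + 3 * i by ring, pow_add, pow_mul, ll, one_pow,
          mul_one]
      have e2 : l ^ i * (g ((j + 2 * i) % 3) * c) * (l ^ i)⁻¹ = l ^ j * a * (l ^ j)⁻¹ * d := by
        rw [hg, hd, ← e1]
        generalize l ^ ((j + 2 * i) % 3) = x
        generalize l ^ i = y
        group
      rw [e2]
      convert hj using 1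
      group
    have : (j + 2 * i) % 3 = 0 ∨ (j + 2 * i) % 3 = 1 ∨ (j + 2 * i) % 3 = 2 := by omega
    rcases this with k | k | k <;> rw [k] at key
    exacts [.inr (.inr (.inl key)), .inr (.inr (.inr (.inl key))), .inr (.inr (.inr (.inr key)))]
  have tc : τ c = c * g 0 := by rw [g0, ea]; group
  have q0 : g 0 * c * (g 0 * c) = τ (c * c) := by
    rw [map_mul, tc]
    refine E_sq S (mul_mem hc' (gB 0)) ?_
    convert S.cm _ (gB 0) _ hc' using 1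
    group
  have q1 : g 2 * c * (g 2 * c) = τ (g 1 * c * (g 1 * c)) := by
    rw [map_mul, map_mul, tc]
    refine (E_sq S (mul_mem (gB 2) hc') ?_).symm
    have h1 := E_mul S ((Btau C.toC0 P T _).2 (gB 1)) (fA _ (gA 1)) (b := c * g 0) (b' := g 0 * c) (by
      convert S.cm _ hc' _ (gB 0) using 1
      group)
    have h2 := S.cm _ (gB 1) _ (gB 0)
    have h3 : g 0 * g 1 * (g 2)⁻¹ ∈ Yt F t l := by
      convert mul_mem g3 (inv_mem (S.sq _ (gB 2))) using 1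
      group
    convert mul_mem (mul_mem h1 h2) h3 using 1
    group
  have pr : c * c * (g 0 * c * (g 0 * c)) * (g 1 * c * (g 1 * c) * (g 2 * c * (g 2 * c))) = t := by
    have k3 : c * g 0 * c⁻¹ * (g 0)⁻¹ * (c * g 1 * c⁻¹ * (g 1)⁻¹) * (c * g 2 * c⁻¹ * (g 2)⁻¹) = 1 := by
      rw [← kmul S hc' (gB 0) (gB 1), ← kmul S hc' (mul_mem (gB 0) (gB 1)) (gB 2), hc S g3 hc']
      group
    rw [sqc S hc' (gB 0), sqc S hc' (gB 1), sqc S hc' (gB 2), g2, g2, g2]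
    have y0 := S.cm _ hc' _ (gB 0)
    have y1 := S.cm _ hc' _ (gB 1)
    have y2 := S.cm _ hc' _ (gB 2)
    have yv := S.sq c hc'
    have yt := S.tY
    generalize c * g 0 * c⁻¹ * (g 0)⁻¹ = k0 at *
    generalize c * g 1 * c⁻¹ * (g 1)⁻¹ = k1 at *
    generalize c * g 2 * c⁻¹ * (g 2)⁻¹ = k2 at *
    generalize c * c = v at *
    have ys := mul_mem yt yv
    have e1 : v * (k0 * (t * v)) = k0 * t := by
      rw [hc S (mul_mem y0 ys) yv.1, mul_assoc, mul_assoc, S.el v yv, mul_one]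
    have e2 : k1 * (t * v) * (k2 * (t * v)) = k1 * k2 := by
      rw [hc S ys y2.1, mul_assoc, ← mul_assoc (t * v), S.el _ ys, one_mul]
    rw [e1, e2, hc S yt y0.1, mul_assoc, ← mul_assoc k0, k3, mul_one]
  have cB1 := mul_mem (gB 1) hc'
  have tt := S.el t S.tY
  rw [q0, q1] at pr
  rcases nrm C P T (S.sq c hc') with ⟨u1, u2⟩ | ⟨u1, u2, u3⟩ <;>
    rcases nrm C P T (S.sq _ cB1) with ⟨w1, w2⟩ | ⟨w1, w2, w3⟩
  · rw [u1, w1, S.el _ (S.sq c hc'), S.el _ (S.sq _ cB1), one_mul] at pr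
    exact (t1 pr.symm).elim
  · refine ⟨a, g 1 * c, g 2 * c, c, g 0 * c, aB, cB1, mul_mem (gB 2) hc', hc', mul_mem (gB 0) hc',
      fun b hb k => ?_, a2, q1 ▸ w1, w2, w3, q0.trans u1, u2⟩
    have := cov b hb k
    tauto
  · exact ⟨a, c, g 0 * c, g 1 * c, g 2 * c, aB, hc', mul_mem (gB 0) hc', cB1, mul_mem (gB 2) hc',
      cov, a2, q0 ▸ u1, u2, u3, q1.trans w1, w2⟩
  · rw [u1, w1, tt] at pr
    exact (t1 pr.symm).elim

theorem main' (H : Bg F t l) : ∃ p0 p1 p2 p3 p4 : G, p0 ∈ Bt F t l ∧ p1 ∈ Bt F t l ∧ p2 ∈ Bt F t l ∧ p3 ∈ Bt F t l ∧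
    p4 ∈ Bt F t l ∧ (∀ b ∈ Bt F t l, b * b ≠ 1 ∨ b ∉ Yt F t l →
      (Sm F t l p0 b ∧ b * b = t) ∨ (Sm F t l p1 b ∧ b * b = p1 * p1) ∨ (Sm F t l p2 b ∧ b * b = p2 * p2) ∨
      (Sm F t l p3 b ∧ b * b = p3 * p3) ∨ (Sm F t l p4 b ∧ b * b = p3 * p3)) ∧
    p0 * p0 = t ∧ t ≠ 1 ∧ p1 * p1 ≠ 1 ∧ p1 * p1 ≠ t ∧ p2 * p2 ≠ 1 ∧ p2 * p2 ≠ t ∧ p1 * p1 ≠ p2 * p2 ∧
    (p3 * p3 = 1 ∨ p3 * p3 = t) := by
  obtain ⟨p0, p1, p2, p3, p4, h0, h1, h2, h3, h4, cov, e0, e1, n1, n2, e4, e3⟩ := main H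
  have S := b1 H.c1 H.pr
  have t1 : t ≠ 1 := fun e => by simpa [e] using H.pr.inv
  refine ⟨p0, p1, p2, p3, p4, h0, h1, h2, h3, h4, fun b hb k => ?_, e0, t1, n1, n2, fun k => n2 ?_, fun k => n1 ?_,
    fun k => t1 ?_, e3⟩
  · have kY : b ∉ Yt F t l := k.elim (fun k y => k (S.el b y)) id
    rcases cov b hb kY with k | k | k | k | k
    exacts [.inl ⟨k, (Sm_mem H h0 k).2.2.trans e0⟩, .inr (.inl ⟨k, (Sm_mem H h1 k).2.2⟩),
      .inr (.inr (.inl ⟨k, (Sm_mem H h2 k).2.2⟩)), .inr (.inr (.inr (.inl ⟨k, (Sm_mem H h3 k).2.2⟩))),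
      .inr (.inr (.inr (.inr ⟨k, (Sm_mem H h4 k).2.2.trans e4⟩)))]
  · rwa [k, mul_one] at e1
  · rw [k] at e1
    exact mul_right_cancel (e1.trans (one_mul t).symm)
  · rw [← e1, ← k, S.el _ (S.sq p1 h1)]

theorem st (H : Bg F t l) {p a b : G} (hp : p ∈ Bt F t l) (h : Sm F t l p a) (h' : Sm F t l p b) : Sm F t l a b :=
  Sm_trans H (Sm_mem H hp h).1 (Sm_symm H hp h) h'

theorem v1 (H : Bg F t l) {y : G} (hy : y ∈ Yt F t l) (h1 : y ≠ 1) : ∃ b ∈ Bt F t l, b * b = y := by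
  obtain ⟨p0, p1, p2, p3, p4, h0, h1', h2, h3, h4, cov, e0, t1, n1, n2, n3, n4, n5, e3⟩ := main' H
  have S := b1 H.c1 H.pr
  have c4 := (H.big t l H.pr).2.1
  have : ({1, t, p1 * p1, p2 * p2} : Set G) = (Yt F t l : Set G) := by
    refine Set.eq_of_subset_of_ncard_le ?_ ?_
    · rintro x (rfl | rfl | rfl | rfl)
      exacts [one_mem _, S.tY, S.sq _ h1', S.sq _ h2]
    · rw [Set.ncard_insert_of_notMem (by simp [t1.symm, n1.symm, n3.symm]),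
        Set.ncard_insert_of_notMem (by simp [n2.symm, n4.symm]), Set.ncard_pair n5]
      exact c4.le
  have hy' : y ∈ ({1, t, p1 * p1, p2 * p2} : Set G) := this ▸ hy
  rcases hy' with k | k | k | k
  exacts [(h1 k).elim, ⟨p0, h0, e0.trans k.symm⟩, ⟨p1, h1', k.symm⟩, ⟨p2, h2, k.symm⟩]

theorem v2 (H : Bg F t l) {y : G} (h1 : y ≠ 1) (ht : y ≠ t) {a b : G} (ha : a ∈ Bt F t l) (hb : b ∈ Bt F t l)
    (h : a * a = y) (h' : b * b = y) : Sm F t l a b := by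
  obtain ⟨p0, p1, p2, p3, p4, h0, h1', h2, h3, h4, cov, e0, t1, n1, n2, n3, n4, n5, e3⟩ := main' H
  have n6 : y ≠ p3 * p3 := fun k => e3.elim (fun e => h1 (k.trans e)) fun e => ht (k.trans e)
  have ka := cov a ha (.inl (h ▸ h1))
  have kb := cov b hb (.inl (h' ▸ h1))
  rw [h] at ka
  rw [h'] at kb
  rcases ka with k | k | k | k | k
  · exact (ht k.2).elim
  · rcases kb with m | m | m | m | m
    exacts [(ht m.2).elim, st H h1' k.1 m.1, (n5 (k.2.symm.trans m.2)).elim, (n6 m.2).elim, (n6 m.2).elim]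
  · rcases kb with m | m | m | m | m
    exacts [(ht m.2).elim, (n5 (m.2.symm.trans k.2)).elim, st H h2 k.1 m.1, (n6 m.2).elim, (n6 m.2).elim]
  · exact (n6 k.2).elim
  · exact (n6 k.2).elim

theorem v3 (H : Bg F t l) {c : G} (hc : c ∈ Bt F t l) (hY : c ∉ Yt F t l) (h2 : c * c = 1) {a b : G}
    (ha : a ∈ Bt F t l) (hb : b ∈ Bt F t l) (h : a * a = t) (h' : b * b = t) : Sm F t l a b := by
  obtain ⟨p0, p1, p2, p3, p4, h0, h1', h2', h3, h4, cov, e0, t1, n1, n2, n3, n4, n5, e3⟩ := main' H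
  have kc := cov c hc (.inr hY)
  rw [h2] at kc
  have u1 : p3 * p3 = 1 := by
    rcases kc with k | k | k | k | k
    exacts [(t1 k.2.symm).elim, (n1 k.2.symm).elim, (n3 k.2.symm).elim, k.2.symm, k.2.symm]
  have key : ∀ x ∈ Bt F t l, x * x = t → Sm F t l p0 x := fun x hx e => by
    have k := cov x hx (.inl (e ▸ t1))
    rw [e, u1] at k
    rcases k with k | k | k | k | k
    exacts [k.1, (n2 k.2.symm).elim, (n4 k.2.symm).elim, (t1 k.2).elim, (t1 k.2).elim]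
  exact st H h0 (key a ha h) (key b hb h')

theorem v4 (H : Bg F t l) {a b c : G} (ha : a ∈ Bt F t l) (hb : b ∈ Bt F t l) (hc : c ∈ Bt F t l)
    (haY : a ∉ Yt F t l) (hbY : b ∉ Yt F t l) (hcY : c ∉ Yt F t l) (h : a * a = 1) (h' : b * b = 1) (h'' : c * c = 1) :
    Sm F t l a b ∨ Sm F t l a c ∨ Sm F t l b c := by
  obtain ⟨p0, p1, p2, p3, p4, h0, h1', h2', h3, h4, cov, e0, t1, n1, n2, n3, n4, n5, e3⟩ := main' H
  have key : ∀ x ∈ Bt F t l, x ∉ Yt F t l → x * x = 1 → Sm F t l p3 x ∨ Sm F t l p4 x := fun x hx hY e => by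
    have k := cov x hx (.inr hY)
    rw [e] at k
    rcases k with k | k | k | k | k
    exacts [(t1 k.2.symm).elim, (n1 k.2.symm).elim, (n3 k.2.symm).elim, .inl k.1, .inr k.1]
  rcases key a ha haY h with k | k <;> rcases key b hb hbY h' with m | m <;> rcases key c hc hcY h'' with n | n
  exacts [.inl (st H h3 k m), .inl (st H h3 k m), .inr (.inl (st H h3 k n)), .inr (.inr (st H h4 m n)),
    .inr (.inr (st H h3 m n)), .inr (.inl (st H h4 k n)), .inl (st H h4 k m), .inl (st H h4 k m)]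

end Cfsg.Agent.RC.B7b2
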