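import Cfsg.Agent.RC.Df2
import Cfsg.Agent.RC.B0a

/-! RC/Cit (S3860). -/

set_option autoImplicit false

namespace Cfsg.Agent.RC

open Subgroup

universe u

variable {G : Type u} [Group G] [Finite G]

namespace CitA

theorem inv_of {T : Subgroup G} (h : IsPGroup 2 T) (h0 : T ≠ ⊥) : ∃ t ∈ T, orderOf t = 2 := by
  obtain ⟨n, hn⟩ := IsPGroup.iff_card.1 h
  have hd : 2 ∣ Nat.card T := by
    rcases n with _ | n
    · exact absurd (card_eq_one.1 (by simpa using hn)) h0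
    · rw [hn, pow_succ]; exact dvd_mul_left _ _
  obtain ⟨x, hx⟩ := exists_prime_orderOf_dvd_card' 2 hd
  exact ⟨x, x.2, by rw [← hx, orderOf_coe]⟩

theorem core_normal (H : Type*) [Group H] : (Cfsg.pCore 2 H).Normal := by
  unfold Cfsg.pCore
  exact sSup_normal _ fun N hN => hN.1

end CitA

theorem cit (he : Even (Nat.card G)) (h : CIT G) : Cfsg.IsCharacteristicTwoType G := by
  refine ⟨he, fun T hT h0 => ?_⟩
  obtain ⟨t, ht, t2⟩ := CitA.inv_of hT h0
  have hle : T.subgroupOf (normalizer (T : Set G)) ≤ Cfsg.pCore 2 (normalizer (T : Set G)) :=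
    le_sSup ⟨inferInstance, hT.comap_of_injective _ (subtype_injective _)⟩
  haveI := CitA.core_normal (normalizer (T : Set G))
  refine le_sSup ⟨inferInstance, fun x => ?_⟩
  have hx : (x.1.1 : G) ∈ cen t := by
    have := x.2 ⟨t, le_normalizer ht⟩ (hle ht)
    exact mem_cen.2 (congrArg Subtype.val this).symm
  obtain ⟨n, hn⟩ := h t t2 ⟨_, hx⟩
  have hn' : (x.1.1 : G) ^ 2 ^ n = 1 := congrArg Subtype.val hn
  exact ⟨n, Subtype.ext (Subtype.ext hn')⟩

theorem k8 {F : G → Subgroup G} (C : C1 F) (h : Z8 G) : False := by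
  obtain ⟨P, E, hE, hP, h2, h8⟩ := h
  have p2 : IsPGroup 2 E := P.isPGroup'.to_le hE
  have h0 : E ≠ ⊥ := by
    rintro rfl
    simp at h8
  obtain ⟨t, ht, t2⟩ := CitA.inv_of p2 h0
  have h1 : (P : Subgroup G) ≤ F t := Fsyl C.toC0 t2 _ P.isPGroup' fun x hx => mem_cen.2 (hP hx t ht).symm
  have h3 : F t = P := P.is_maximal' (C.p2 t t2) h1
  obtain ⟨τ, T⟩ := C.tau t t2
  have hτ := Ftau C.toC0 t2 T.fix
  let E1 : Subgroup G :=
    { carrier := {e | e ∈ F t ∧ e ∈ Cs (F t) ∧ e * e = 1}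
      one_mem' := ⟨one_mem _, one_mem _, one_mul _⟩
      mul_mem' := fun {a b} ha hb => ⟨mul_mem ha.1 hb.1, mul_mem ha.2.1 hb.2.1, by
        have := ha.2.1 b hb.1
        rw [mul_assoc, ← mul_assoc b, this, mul_assoc, hb.2.2, mul_one, ha.2.2]⟩
      inv_mem' := fun {a} ha => ⟨inv_mem ha.1, inv_mem ha.2.1, by rw [← mul_inv_rev, ha.2.2, inv_one]⟩ }
  have h4 := e4 T E1 (fun e he => he.1) (fun e he => he.2.2) fun e he =>
    ⟨(hτ e).2 he.1, fun x hx => by
      obtain ⟨z, rfl⟩ := τ.surjective x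
      rw [← map_mul, ← map_mul, he.2.1 z ((hτ z).1 hx)], by rw [← map_mul, he.2.2, map_one]⟩
  have h5 : E ≤ E1 := fun e he => ⟨h3 ▸ hE he, fun x hx => (hP (h3 ▸ hx) e he).symm, h2 e he⟩
  have := card_le_of_le h5
  omega

end Cfsg.Agent.RC
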