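import Cfsg.Agent.RC.Df2
import Cfsg.Agent.H13.SzInst
import Cfsg.Agent.H13.SzGroup

/-! RC/Ev2 (S3860): Suzuki groups. -/

set_option autoImplicit false

namespace Cfsg.Agent.RC

open Subgroup

universe u

variable {G : Type u} [Group G] [Finite G]

theorem ev2 (h : Cfsg.Lie.IsoSuzuki G) : CIT G ∧ Z8 G := by
  obtain ⟨F, _, _, m, hm, hF, ⟨e⟩⟩ := h
  let _ := H13.titsOfCard hF
  have M := (H13.lieModel (H13.titsOfCard_θ hF)).ofEquiv e
  have hq : 8 ≤ Nat.card F := by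
    rw [Nat.card_eq_fintype_card, hF]
    calc 8 = 2 ^ 3 := by norm_num
      _ ≤ 2 ^ (2 * m + 1) := Nat.pow_le_pow_right (by norm_num) (by omega)
  refine ⟨fun t ht => ?_, M.sylowU, M.Z, M.Z_le_U, ?_, fun z hz => ?_, by rw [M.card_Z]; exact hq⟩
  · obtain ⟨g, hg⟩ := M.exists_le_conj_U (Q := zpowers t) (IsPGroup.of_card (n := 1) (by rw [Nat.card_zpowers, ht, pow_one]))
    exact (M.conj g).isPGroup_U.to_le fun x hx => (M.conj g).mem_U_of_commute (hg (mem_zpowers t))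
      (fun e => by simp [e] at ht) (mem_cen.1 hx)
  · rintro _ ⟨a, c, rfl⟩ _ ⟨b, rfl⟩
    exact M.u_zero_comm b a c
  · obtain ⟨b, rfl⟩ := M.mem_Z.1 hz
    rw [← sq, M.u_sq, mul_zero, M.u_zero]

end Cfsg.Agent.RC
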