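import Cfsg.Agent.RC.Df2
import Cfsg.Agent.RC.H1
import Cfsg.Agent.RC.H2
import Cfsg.Agent.F2C.Oq

/-! RC/H7a (S3860): in characteristic 2 type the involution centralisers are 2-closed. -/

set_option autoImplicit false

namespace Cfsg.Agent.RC

open Subgroup

universe u

variable {G : Type u} [Group G] [Finite G]

theorem h7a_nor {t : G} (ht : orderOf t = 2) : nor (zpowers t) = cen t := by
  classical
  refine le_antisymm (fun g hg => ?_) (fun g hg => ?_)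
  · have h1 : g * t * g⁻¹ ∈ zpowers t := (mem_normalizer_iff.1 hg t).1 (mem_zpowers t)
    rw [mem_zpowers_iff_mem_range_orderOf, ht] at h1
    obtain ⟨k, hk, e⟩ := Finset.mem_image.1 h1
    have t1 : t ≠ 1 := fun e => by rw [e, orderOf_one] at ht; omega
    have hk' := Finset.mem_range.1 hk
    interval_cases k
    · exact absurd (by simpa using e.symm) t1
    · rw [pow_one, eq_mul_inv_iff_mul_eq] at e
      exact mem_cen.2 e.symm
  · have key : ∀ g ∈ cen t, ∀ a ∈ zpowers t, g * a * g⁻¹ = a := by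
      rintro g hg _ ⟨k, rfl⟩
      have : Commute g t := mem_cen.1 hg
      rw [(this.zpow_right k).eq, mul_inv_cancel_right]
    refine mem_normalizer_iff.2 fun a => ⟨fun ha => (key g hg a ha).symm ▸ ha, fun ha => ?_⟩
    have := key _ (inv_mem hg) _ ha
    rw [← this] at ha
    simpa [mul_assoc] using ha

theorem h7a_sc (h : Cfsg.IsCharacteristicTwoType G) {t : G} (ht : orderOf t = 2) {x : G} (hx : x ∈ cen t)
    (hc : x ∈ Cs (F2C.Oq 2 (cen t))) : x ∈ F2C.Oq 2 (cen t) := by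
  have h1 := h.2 (zpowers t) (IsPGroup.of_card (n := 1) (by rw [Nat.card_zpowers, ht, pow_one]))
    (fun e => by
      rw [zpowers_eq_bot.1 e, orderOf_one] at ht; omega)
  change Cfsg.IsOfCharacteristicTwo ↥(nor (zpowers t)) at h1
  rw [h7a_nor ht] at h1
  refine ⟨⟨x, hx⟩, h1 (mem_centralizer_iff.2 fun a ha => Subtype.ext ?_), rfl⟩
  exact mem_centralizer_iff.1 hc a ⟨a, ha, rfl⟩

theorem h7a_no (h : Cfsg.IsCharacteristicTwoType G) {t : G} (ht : orderOf t = 2) {N : Subgroup G}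
    (h1 : N ≤ cen t) (h2 : cen t ≤ nor N) (h3 : Odd (Nat.card N)) : N = ⊥ := by
  have hO := F2C.Oq_pgroup Nat.prime_two (cen t)
  have hd : ∀ a, a ∈ N → a ∈ F2C.Oq 2 (cen t) → a = 1 := by
    intro a ha hb
    obtain ⟨k, hk⟩ := hO ⟨a, hb⟩
    have e1 : orderOf a ∣ 2 ^ k := orderOf_dvd_of_pow_eq_one (congrArg Subtype.val hk)
    have e2 : orderOf a ∣ Nat.card N := N.orderOf_dvd_natCard ha
    exact orderOf_eq_one_iff.1 (Nat.eq_one_of_dvd_coprimes
      (Nat.Coprime.pow_left k (Nat.coprime_two_left.2 h3)) e1 e2)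
  refine (eq_bot_iff_forall N).2 fun y hy => hd y hy (h7a_sc h ht (h1 hy) (mem_centralizer_iff.2 fun o ho => ?_))
  have a1 : o * y * o⁻¹ * y⁻¹ ∈ N :=
    mul_mem ((mem_normalizer_iff.1 (h2 (F2C.Oq_le _ _ ho)) y).1 hy) (inv_mem hy)
  have a2 : o * y * o⁻¹ * y⁻¹ ∈ F2C.Oq 2 (cen t) := by
    have := mul_mem ho ((mem_normalizer_iff.1 (F2C.le_Nm_Oq 2 _ (h1 hy)) o⁻¹).1 (inv_mem ho))
    simpa only [mul_assoc] using this
  have := hd _ a1 a2
  rwa [mul_inv_eq_one, mul_inv_eq_iff_eq_mul] at this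

theorem h7a {Γ : Subgroup (MulAut G)} (H : Hy Γ) (h : Cfsg.IsCharacteristicTwoType G) :
    (∃ F : G → Subgroup G, C0 F) ∧ Re Γ := by
  refine ⟨⟨fun t => F2C.Oq 2 (cen t), H.simp, H.nab, fun t _ => F2C.Oq_pgroup Nat.prime_two _,
    fun t ht x => ⟨fun hx => ⟨F2C.Oq_le _ _ hx, ?_⟩, fun ⟨hx, n, hn⟩ => ?_⟩, fun t ht x hx => ?_⟩, ?_⟩
  · obtain ⟨k, hk⟩ := F2C.Oq_pgroup Nat.prime_two (cen t) ⟨x, hx⟩
    exact ⟨k, congrArg Subtype.val hk⟩
  · obtain ⟨N, K, a1, a2, a3, a4, a5, a6, j, a7⟩ := h2t H t ht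
    rw [h7a_no h ht (a1.trans a2) a3 a5, relIndex_bot_left] at a7
    refine F2C.le_Oq (IsPGroup.of_card a7) a2 a4 ?_
    haveI : (K.subgroupOf (cen t)).Normal := (normal_subgroupOf_iff_le_normalizer a2).2 a4
    have b1 : x ^ K.relIndex (cen t) ∈ K := pow_index_mem (H := K.subgroupOf (cen t)) ⟨x, hx⟩
    have b2 : x ∈ zpowers (x ^ K.relIndex (cen t)) := mem_zpowers_pow_iff.2
      (Nat.Coprime.coprime_dvd_right (orderOf_dvd_of_pow_eq_one hn)
        (Nat.Coprime.pow_right n (Nat.coprime_two_right.2 a6)))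
    exact zpowers_le.2 b1 b2
  · have ht' : t ∈ F2C.Oq 2 (cen t) := F2C.le_Oq
      (IsPGroup.of_card (n := 1) (by rw [Nat.card_zpowers, ht, pow_one]))
      (zpowers_le.2 (mem_cen.2 rfl)) (h7a_nor ht).ge (mem_zpowers t)
    exact h7a_sc h ht (mem_cen.2 (mem_centralizer_iff.1 hx t ht').symm) hx
  · intro y hy ho α hα hi u hu hc
    obtain ⟨t, ht, N, a1, a2, a3, a4⟩ := h1t H y hy ho α hα hi u hu hc
    rw [h7a_no h ht a1 a2 a3] at a4
    exact hy a4

end Cfsg.Agent.RC
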