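import Cfsg.Agent.RC.Df2
import Cfsg.Agent.RC.H1
import Cfsg.Agent.RC.H2
import Cfsg.Agent.DTO.Ev

/-! RC/H7c (S3860). -/

set_option autoImplicit false

namespace Cfsg.Agent.RC

open Subgroup

universe u

variable {G : Type u} [Group G] [Finite G]

namespace H7cAux

omit [Finite G] in
theorem two_odd {d : G} {k n : ℕ} (h : d ^ 2 ^ k = 1) (hn : Odd n) (h' : d ^ n = 1) : d = 1 :=
  orderOf_eq_one_iff.1 (Nat.eq_one_of_dvd_coprimes ((Nat.coprime_two_left.2 hn).pow_left k)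
    (orderOf_dvd_of_pow_eq_one h) (orderOf_dvd_of_pow_eq_one h'))

theorem modeq {X : Type*} [Finite X] (f : X → X) (h : ∀ x, f (f x) = x) :
    Nat.card X ≡ Nat.card (Function.fixedPoints f) [MOD 2] := by
  classical
  have := Fintype.ofFinite X
  have : Fact (Nat.Prime 2) := ⟨Nat.prime_two⟩
  rw [Nat.card_eq_fintype_card, Nat.card_eq_fintype_card]
  exact Equiv.Perm.card_fixedPoints_modEq (f := f) (p := 2) (n := 1) (funext fun x => h x)

/-- the `A × B` lemma for an involutory automorphism -/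
theorem axb {T : Subgroup G} (hT : IsPGroup 2 T) {τ : MulAut G} (h2 : ∀ x, τ (τ x) = x) (hτ : ∀ v ∈ T, τ v ∈ T)
    {c : G} (ho : Odd (orderOf c)) (hc : τ c = c) (hn : ∀ v ∈ T, c * v * c⁻¹ ∈ T)
    (h : ∀ d ∈ T, τ d = d → d * c = c * d) : c ∈ Cs T := by
  have : Fact (Nat.Prime 2) := ⟨Nat.prime_two⟩
  let S : Subgroup (MulAut G) := T.map (MulAut.conj : G →* MulAut G)
  have m : ∀ x, x ∈ MulAction.orbit S c ↔ ∃ v ∈ T, v * c * v⁻¹ = x := fun x =>
    ⟨fun ⟨⟨_, v, hv, rfl⟩, e⟩ => ⟨v, hv, e⟩, fun ⟨v, hv, e⟩ => ⟨⟨_, v, hv, rfl⟩, e⟩⟩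
  let f : MulAction.orbit S c → MulAction.orbit S c := fun x => ⟨τ x, by
    obtain ⟨v, hv, e⟩ := (m _).1 x.2
    exact (m _).2 ⟨τ v, hτ v hv, by rw [← e, map_mul, map_mul, map_inv, hc]⟩⟩
  have k := modeq f fun x => Subtype.ext (h2 x)
  have u : Nat.card (Function.fixedPoints f) = 1 := by
    rw [Nat.card_eq_one_iff_exists]
    refine ⟨⟨⟨c, MulAction.mem_orbit_self c⟩, Subtype.ext hc⟩, fun ⟨⟨x, hx⟩, e⟩ => Subtype.ext (Subtype.ext ?_)⟩
    have e' : τ x = x := congrArg Subtype.val e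
    obtain ⟨v, hv, rfl⟩ := (m _).1 hx
    have hd : v * c * v⁻¹ * c⁻¹ ∈ T := by
      have := mul_mem hv (hn _ (inv_mem hv))
      simpa only [mul_assoc] using this
    have cd : Commute (v * c * v⁻¹ * c⁻¹) c := h _ hd (by rw [map_mul, e', map_inv, hc])
    obtain ⟨j, hj⟩ := hT ⟨_, hd⟩
    have h1 : (v * c * v⁻¹ * c⁻¹) ^ orderOf c = 1 := by
      have := cd.mul_pow (orderOf c)
      rw [inv_mul_cancel_right, conj_pow, pow_orderOf_eq_one] at this
      simpa using this.symm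
    exact mul_inv_eq_one.1 (two_odd (congrArg Subtype.val hj) ho h1)
  obtain ⟨n, hn'⟩ := (hT.map (MulAut.conj : G →* MulAut G)).card_orbit c
  rw [u, hn'] at k
  obtain rfl : n = 0 := by
    by_contra e
    have := (Nat.modEq_zero_iff_dvd.2 (dvd_pow_self 2 e)).symm.trans k
    exact absurd this (by decide)
  obtain ⟨x, hx⟩ := Nat.card_eq_one_iff_exists.1 hn'
  refine mem_centralizer_iff.2 fun v hv => mul_inv_eq_iff_eq_mul.1 ?_
  exact congrArg Subtype.val ((hx ⟨_, (m _).2 ⟨v, hv, rfl⟩⟩).trans (hx ⟨c, MulAction.mem_orbit_self c⟩).symm)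

end H7cAux

open H7cAux

theorem h7c {Γ : Subgroup (MulAut G)} (H : Hy Γ) {F : G → Subgroup G} (C : C0 F) (y : G) (hy : y ≠ 1)
    (ho : Odd (orderOf y)) (α : MulAut G) (hα : α ∈ Γ) (hi : α y = y⁻¹) : ∃ τ N, Ab Γ y τ N := by
  have : Fact (Nat.Prime 2) := ⟨Nat.prime_two⟩
  obtain ⟨τ, hτ, o, -, ⟨N, le, nr, od, yN⟩, -⟩ := h1 H y hy ho α hα hi
  have h2 : ∀ x, τ (τ x) = x := fun x => by
    rw [← MulAut.mul_apply, ← pow_two, ← o, pow_orderOf_eq_one, MulAut.one_apply]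
  have sq : ∀ u : G, orderOf u = 2 → u * u = 1 := fun u hu => by rw [← pow_two, ← hu, pow_orderOf_eq_one]
  have ex : ∃ u, orderOf u = 2 ∧ τ u = u := by
    have k := modeq τ h2
    have e : 2 ∣ Nat.card (Fx τ) :=
      Nat.modEq_zero_iff_dvd.1 (k.symm.trans (Nat.modEq_zero_iff_dvd.2 (basics H.simp H.nab).1.two_dvd))
    obtain ⟨u, hu⟩ := exists_prime_orderOf_dvd_card' 2 e
    exact ⟨u, by rw [orderOf_coe, hu], u.2⟩
  have inv : ∀ u, orderOf u = 2 → τ u = u → ∀ a ∈ N, u * a * u⁻¹ = a⁻¹ := fun u hu e a ha => by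
    obtain ⟨w, -, c, hc, e1, e2, rfl⟩ := DTO.inv_dec od (sq u hu) (nr e) ha
    have oc : Odd (orderOf c) := Odd.of_dvd_nat od (orderOf_dvd_natCard N hc)
    have one : ∀ d ∈ F u, d ∈ N → d = 1 := fun d h h' => by
      obtain ⟨k, hk⟩ := ((C.mem u hu d).1 h).2
      exact two_odd hk od (congrArg Subtype.val (pow_card_eq_one' (G := N) (x := ⟨d, h'⟩)))
    have stab : ∀ β : MulAut G, β u = u → ∀ v ∈ F u, β v ∈ F u := fun β hβ v hv => by
      obtain ⟨a1, k, hk⟩ := (C.mem u hu v).1 hv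
      refine (C.mem u hu _).2 ⟨mem_cen.2 ?_, k, by rw [← map_pow, hk, map_one]⟩
      have := congrArg β (mem_cen.1 a1)
      rwa [map_mul, map_mul, hβ] at this
    have hn : ∀ v ∈ F u, c * v * c⁻¹ ∈ F u :=
      stab (MulAut.conj c) (mul_inv_eq_iff_eq_mul.2 e2.eq)
    have k : c ∈ Cs (F u) := axb (C.p2 u hu) h2 (stab τ e) oc (le hc) hn fun d hd ed => by
      have a1 : d * c * d⁻¹ * c⁻¹ ∈ F u := by
        have := mul_mem hd (hn _ (inv_mem hd))
        simpa only [mul_assoc] using this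
      have a2 : d * c * d⁻¹ * c⁻¹ ∈ N := mul_mem ((mem_normalizer_iff.1 (nr ed) c).1 hc) (inv_mem hc)
      exact mul_inv_eq_iff_eq_mul.1 (mul_inv_eq_one.1 (one _ a1 a2))
    rw [one c (C.sc u hu k) hc, mul_one, e1]
  refine ⟨τ, N, hτ, o, yN, le, nr, od, fun a ha b hb => ?_, inv, ex, fun u v hu hv eu ev c => ?_⟩
  · obtain ⟨u, hu, e⟩ := ex
    have k := inv u hu e _ (mul_mem ha hb)
    have k2 : u * (a * b) * u⁻¹ = (u * a * u⁻¹) * (u * b * u⁻¹) := by group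
    rw [k2, inv u hu e a ha, inv u hu e b hb, ← mul_inv_rev, inv_inj] at k
    exact k.symm
  · by_contra ne
    have w : orderOf (u * v) = 2 := orderOf_eq_prime
      (by rw [(show Commute u v from c).mul_pow, pow_two, pow_two, sq u hu, sq v hv, one_mul])
      fun e => ne ((eq_inv_of_mul_eq_one_left e).trans (inv_eq_of_mul_eq_one_right (sq v hv)))
    have k := inv _ w (by rw [map_mul, eu, ev]) y yN
    have k2 : u * v * y * (u * v)⁻¹ = u * (v * y * v⁻¹) * u⁻¹ := by group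
    rw [k2, inv v hv ev y yN, inv u hu eu _ (inv_mem yN), inv_inv] at k
    exact hy (two_odd (k := 1) (by rw [pow_one, pow_two]; exact mul_eq_one_iff_eq_inv.2 k) ho (pow_orderOf_eq_one y))

end Cfsg.Agent.RC
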