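import Cfsg.Agent.RC.Df2
import Cfsg.Agent.RC.H7a
import Cfsg.Agent.RC.H7c
import Cfsg.Agent.H8.Dihedral
import Cfsg.Agent.S0200

/-! RC/H7b (S3860): the characteristic 2 configuration. -/

set_option autoImplicit false

namespace Cfsg.Agent.RC

open Subgroup
open scoped Pointwise

universe u

variable {G : Type u} [Group G] [Finite G]

namespace H7b

theorem two_pow {w : G} (h : ¬ Odd (orderOf w)) : ∃ k : ℕ, orderOf (w ^ k) = 2 :=
  ⟨_, orderOf_pow_orderOf_div (orderOf_pos w).ne' (even_iff_two_dvd.1 (Nat.not_odd_iff_even.1 h))⟩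

omit [Finite G] in
theorem sq1 {t : G} (ht : orderOf t = 2) : t * t = 1 := by
  rw [← sq, ← ht, pow_orderOf_eq_one]

theorem tau {Γ : Subgroup (MulAut G)} (H : Hy Γ) {F : G → Subgroup G} (C : C0 F) (R : Re Γ)
    (t : G) (ht : orderOf t = 2) : ∃ τ, Ta F t τ := by
  have := H.simp
  obtain ⟨y, hy, ho, hi⟩ := S0200.result t ht fun N hN hP htN => by
    rcases hN.eq_bot_or_eq_top with rfl | rfl
    · rw [mem_bot.1 htN, orderOf_one] at ht; omega
    · have hG : IsPGroup 2 G := hP.of_equiv topEquiv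
      have h1 := hG.center_nontrivial
      rcases (inferInstance : (center G).Normal).eq_bot_or_eq_top with e | e
      · rw [e] at h1; exact not_nontrivial _ h1
      · exact H.nab ⟨⟨fun a b => mem_center_iff.1 (e ▸ mem_top b) a⟩⟩
  obtain ⟨τ, N, A⟩ := h7c H C y hy ho (MulAut.conj t) (H.inn t) hi
  obtain ⟨u, hu, hτu⟩ := A.ex
  have h1 := A.inv u hu hτu y A.yN
  have h2 : u * t * y = y * (u * t) := by
    have h3 : u * y⁻¹ * u⁻¹ = y := by rw [← conj_inv, h1, inv_inv]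
    calc u * t * y = u * (t * y * t⁻¹) * u⁻¹ * (u * t) := by group
      _ = _ := by rw [hi, h3]
  have h3 : Odd (orderOf (u * t)) := by
    by_contra e
    obtain ⟨k, hk⟩ := two_pow e
    exact R y hy ho _ (H.inn t) hi _ hk (Commute.pow_left h2 k)
  obtain ⟨g, -, hg⟩ := H8.exists_conj_of_odd (sq1 hu) (sq1 ht) h3
  have hττ : τ * τ = 1 := sq1 A.ord
  let ρ : MulAut G := MulAut.conj g * τ * (MulAut.conj g)⁻¹
  have hρΓ : ρ ∈ Γ := Γ.mul_mem (Γ.mul_mem (H.inn g) A.mem) (Γ.inv_mem (H.inn g))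
  have hρ : ∀ x, ρ x = g * τ (g⁻¹ * x * g) * g⁻¹ := fun x => by simp [ρ]
  have hsq : ρ * ρ = 1 := by
    calc ρ * ρ = MulAut.conj g * (τ * τ) * (MulAut.conj g)⁻¹ := by simp only [ρ]; group
      _ = 1 := by rw [hττ, mul_one, mul_inv_cancel]
  have hug : g⁻¹ * t * g = u := by rw [← hg]; group
  have hfix : ρ t = t := by rw [hρ, hug, hτu, hg]
  refine ⟨ρ, hsq, hfix, fun v hv hv2 hρv => ?_, fun c hc => ?_, fun y a b c u => R y a b ρ hρΓ c u⟩
  · refine or_iff_not_imp_left.2 fun hv1 => ?_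
    have h4 : orderOf v = 2 := orderOf_eq_prime (by rw [sq, hv2]) hv1
    have h5 : τ (g⁻¹ * v * g) = g⁻¹ * v * g := by
      rw [hρ] at hρv
      calc _ = g⁻¹ * (g * τ (g⁻¹ * v * g) * g⁻¹) * g := by group
        _ = _ := by rw [hρv]
    have h6 := mem_cen.1 ((C.mem t ht v).1 hv).1
    have h7 := A.n4 _ _ hu ((MulEquiv.orderOf_eq (MulAut.conj g).symm v).trans h4) hτu h5 (by
      rw [← hug]
      calc _ = g⁻¹ * (t * v) * g := by simp only [MulAut.conj_symm_apply]; group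
        _ = _ := by rw [← h6]; simp only [MulAut.conj_symm_apply]; group)
    rw [← hg, h7]
    simp only [MulAut.conj_symm_apply]; group
  · have h4 : ρ c ∈ cen t := mem_cen.2 (by
      have := congrArg ρ (mem_cen.1 hc)
      rwa [map_mul, map_mul, hfix] at this)
    have h5 : ρ c * c⁻¹ ∈ cen t := mul_mem h4 (inv_mem hc)
    refine (C.mem t ht _).2 ⟨h5, ?_⟩
    have h6 : ρ (ρ c * c⁻¹) = (ρ c * c⁻¹)⁻¹ := by
      rw [map_mul, map_inv, ← MulAut.mul_apply, hsq, MulAut.one_apply, mul_inv_rev, inv_inv]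
    obtain ⟨a, m, hm, e⟩ := Nat.exists_eq_two_pow_mul_odd (orderOf_pos (ρ c * c⁻¹)).ne'
    refine ⟨a, by_contra fun h7 => R _ h7 ?_ ρ hρΓ (by rw [map_pow, h6, inv_pow]) t ht
      (mem_cen.1 (pow_mem h5 _)).symm⟩
    refine Odd.of_dvd_nat hm (orderOf_dvd_of_pow_eq_one ?_)
    rw [← pow_mul, ← e, pow_orderOf_eq_one]

theorem odd {F : G → Subgroup G} (C : C0 F) {t : G} (ht : orderOf t = 2) {τ : MulAut G}
    (T : Ta F t τ) : Odd (F t).index := by
  classical
  have hττ : ∀ x, τ (τ x) = x := fun x => by rw [← MulAut.mul_apply, T.sq, MulAut.one_apply]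
  have hF : ∀ x ∈ F t, τ x ∈ F t := fun x hx => by
    obtain ⟨h1, n, h2⟩ := (C.mem t ht x).1 hx
    refine (C.mem t ht _).2 ⟨mem_cen.2 ?_, n, by rw [← map_pow, h2, map_one]⟩
    have := congrArg τ (mem_cen.1 h1)
    rwa [map_mul, map_mul, T.fix] at this
  have hτi : τ⁻¹ = τ := inv_eq_of_mul_eq_one_right T.sq
  have hm : ∀ (Q : Sylow 2 G) x, x ∈ ((τ • Q : Sylow 2 G) : Subgroup G) ↔ τ x ∈ (Q : Subgroup G) :=
    fun Q x => by rw [Sylow.pointwise_smul_def, mem_pointwise_smul_iff_inv_smul_mem, hτi]; rfl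
  let X := {Q : Sylow 2 G // F t ≤ Q}
  have : Fintype X := Fintype.ofFinite _
  have hX : ¬ 2 ∣ Fintype.card X := by
    have h1 := ((C.p2 t ht).card_modEq_card_fixedPoints (Sylow 2 G)).symm.trans
      (card_sylow_modEq_one 2 G)
    rw [Nat.card_congr (β := X) (Equiv.subtypeEquivRight fun Q =>
      (C.p2 t ht).sylow_mem_fixedPoints_iff), Nat.card_eq_fintype_card] at h1
    unfold Nat.ModEq at h1
    omega
  let f : X → X := fun Q => ⟨τ • Q.1, fun x hx => (hm _ _).2 (Q.2 (hF x hx))⟩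
  have hf : Function.Involutive f := fun Q => Subtype.ext (by
    change τ • τ • Q.1 = Q.1
    rw [← mul_smul, T.sq, one_smul])
  obtain ⟨⟨Q, hQ⟩, hQf⟩ := Equiv.Perm.exists_fixed_point_of_prime (p := 2) (n := 1) hX
    (σ := hf.toPerm) (Equiv.ext fun Q => hf Q)
  have hQτ : ∀ x ∈ (Q : Subgroup G), τ x ∈ (Q : Subgroup G) := fun x hx =>
    (hm Q x).1 (by rw [show τ • Q = Q from congrArg Subtype.val hQf]; exact hx)
  have htF : t ∈ F t := (C.mem t ht t).2 ⟨mem_cen.2 rfl, 1, by rw [pow_one, sq, sq1 ht]⟩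
  have ht1 : t ≠ 1 := by rintro rfl; rw [orderOf_one] at ht; omega
  let Y : Subgroup G := (Q : Subgroup G) ⊓ Cs Q
  have hYp : IsPGroup 2 Y := Q.isPGroup'.to_le inf_le_left
  have : Fintype Y := Fintype.ofFinite _
  have hY : 2 ∣ Fintype.card Y := by
    have : Nontrivial (Q : Subgroup G) := ⟨⟨⟨t, hQ htF⟩, 1, fun e => ht1 (congrArg Subtype.val e)⟩⟩
    have := Q.isPGroup'.center_nontrivial
    obtain ⟨⟨z, hz⟩, hz1⟩ := exists_ne (1 : center (Q : Subgroup G))
    rw [← Nat.card_eq_fintype_card]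
    refine hYp.card_eq_or_dvd.resolve_left fun e => hz1 (Subtype.ext (Subtype.ext ?_))
    exact mem_bot.1 ((card_eq_one.1 e).le (show (z : G) ∈ Y from
      ⟨z.2, fun a ha => congrArg Subtype.val (mem_center_iff.1 hz ⟨a, ha⟩)⟩))
  let φ : Y → Y := fun b => ⟨τ b, hQτ _ b.2.1, fun a ha => by
    have := congrArg τ (b.2.2 _ (hQτ a ha))
    rwa [map_mul, map_mul, hττ] at this⟩
  have hφ : Function.Involutive φ := fun b => Subtype.ext (hττ b)
  obtain ⟨⟨b, hb⟩, hb1, hb2⟩ := Equiv.Perm.exists_fixed_point_of_prime' (p := 2) (n := 1) hY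
    (σ := hφ.toPerm) (Equiv.ext fun Q => hφ Q) (a := 1) (Subtype.ext (map_one τ))
  have hb3 : τ b = b := congrArg Subtype.val hb1
  obtain ⟨k, hk⟩ := two_pow (w := b) fun e => by
    obtain ⟨j, hj⟩ := IsPGroup.iff_orderOf.1 hYp ⟨b, hb⟩
    rw [Subgroup.orderOf_mk] at hj
    rcases j with _ | j
    · exact hb2 (Subtype.ext (orderOf_eq_one_iff.1 hj))
    · rw [hj, pow_succ] at e
      exact (Nat.not_odd_iff_even.2 (even_two.mul_left _)) e
  have hz := Y.pow_mem hb k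
  have hzt : b ^ k = t := (T.uq _ (C.sc t ht fun a ha => hz.2 a (hQ ha)) (sq1 hk)
    (by rw [map_pow, hb3])).resolve_left fun e => by rw [e, orderOf_one] at hk; omega
  have hle : (Q : Subgroup G) ≤ F t := fun a ha => (C.mem t ht a).2
    ⟨mem_cen.2 (hzt ▸ hz.2 a ha), (Q.isPGroup' ⟨a, ha⟩).imp fun n hn => congrArg Subtype.val hn⟩
  rw [le_antisymm hQ hle, ← Nat.not_even_iff_odd, even_iff_two_dvd]
  exact Q.not_dvd_index

end H7b

theorem h7b {Γ : Subgroup (MulAut G)} (H : Hy Γ) (h : Cfsg.IsCharacteristicTwoType G) :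
    ∃ F : G → Subgroup G, C1 F := by
  obtain ⟨⟨F, C⟩, R⟩ := h7a H h
  exact ⟨F, C, fun t ht => (H7b.tau H C R t ht).elim fun _ T => H7b.odd C ht T, H7b.tau H C R⟩

end Cfsg.Agent.RC
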