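import Cfsg.Agent.RC.Df2
import Cfsg.Agent.S3862

/-! RC/R1 (S3860): a group whose real 2-elements are central has a normal 2-complement (S3862). -/

set_option autoImplicit false

namespace Cfsg.Agent.RC

open Subgroup

universe u

variable {G : Type u} [Group G] [Finite G]

theorem r1 (X : Subgroup G) (h : ∀ x ∈ X, Two x → (∃ s ∈ X, s * x * s⁻¹ = x⁻¹) → X ≤ cen x) :
    ∀ y ∈ X, Odd (orderOf y) → InO y X := by
  intro y hy ho
  have key : Cfsg.HasNormalPComplement 2 X := by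
    refine Cfsg.Agent.S3862.result (G := X) fun x ⟨j, hj⟩ hc => ?_
    obtain ⟨s, hs⟩ := isConj_iff.1 hc
    have t2 : Two (x : G) := ⟨j, by
      rw [← hj, ← Subgroup.coe_pow, pow_orderOf_eq_one, Subgroup.coe_one]⟩
    have := h x x.2 t2 ⟨s, s.2, by simpa using congrArg Subtype.val hs⟩
    exact mem_center_iff.2 fun g => Subtype.ext (mem_cen.1 (this g.2))
  obtain ⟨P, N, hN, hc⟩ := key
  haveI : Fact (Nat.Prime 2) := ⟨Nat.prime_two⟩
  have oN : Odd (Nat.card N) := by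
    rw [← hc.index_eq_card, ← Nat.not_even_iff_odd, even_iff_two_dvd]
    exact P.not_dvd_index
  obtain ⟨k, hk⟩ := IsPGroup.iff_card.1 P.isPGroup'
  have yN : (⟨y, hy⟩ : X) ∈ N := by
    have h1 : orderOf (QuotientGroup.mk' N ⟨y, hy⟩) ∣ orderOf y := by
      have e : orderOf y = orderOf (⟨y, hy⟩ : X) := Subgroup.orderOf_coe (⟨y, hy⟩ : X)
      rw [e]
      exact orderOf_map_dvd _ _
    have h2 : orderOf (QuotientGroup.mk' N ⟨y, hy⟩) ∣ 2 ^ k := by
      rw [← hk, ← hc.symm.index_eq_card]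
      exact orderOf_dvd_natCard _
    have h3 := Nat.eq_one_of_dvd_coprimes ((Nat.coprime_two_right.2 ho).pow_right k) h1 h2
    exact (QuotientGroup.eq_one_iff _).1 (orderOf_eq_one_iff.1 h3)
  refine ⟨N.map X.subtype, map_subtype_le _, fun g hg => ?_, ?_, ⟨_, yN, rfl⟩⟩
  · refine mem_normalizer_iff.2 fun a => ⟨?_, fun ⟨b, hb, e⟩ => ?_⟩
    · rintro ⟨b, hb, rfl⟩
      exact ⟨⟨g, hg⟩ * b * ⟨g, hg⟩⁻¹, hN.conj_mem b hb _, rfl⟩
    · refine ⟨(⟨g, hg⟩ : X)⁻¹ * b * (⟨g, hg⟩ : X)⁻¹⁻¹, hN.conj_mem b hb _, ?_⟩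
      have e' : (b : G) = g * a * g⁻¹ := e
      simp [e', mul_assoc]
  · rwa [card_map_of_injective X.subtype_injective]

end Cfsg.Agent.RC
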