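import Cfsg.Agent.RC.Df2
import Cfsg.Agent.RC.R1
import Cfsg.Agent.DT.Cop2

/-! RC/R2 (S3860): existence of a maximal counterexample. -/

set_option autoImplicit false

namespace Cfsg.Agent.RC

open Subgroup

universe u

variable {G : Type u} [Group G] [Finite G]

theorem r2_root {D C : Subgroup G} (h : ∀ τ ∈ nor D, τ ∈ C → τ * τ ∈ D → τ ∈ D) (n : ℕ) :
    ∀ g ∈ nor D, g ∈ C → g ^ 2 ^ n ∈ D → g ∈ D := by
  induction n with
  | zero => intro g _ _ hg; rwa [pow_zero, pow_one] at hg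
  | succ n ih =>
    intro g h1 h2 hg
    refine h g h1 h2 (ih _ (mul_mem h1 h1) (mul_mem h2 h2) ?_)
    rwa [← pow_two, ← pow_mul, ← pow_succ']

theorem r2_card {D C : Subgroup G} (hD : IsPGroup 2 D) (hle : D ≤ C)
    (h : ∀ τ ∈ nor D, τ ∈ C → τ * τ ∈ D → τ ∈ D) :
    Nat.card D = 2 ^ (Nat.card C).factorization 2 := by
  obtain ⟨P, hP⟩ := (hD.comap_subtype : IsPGroup 2 (D.subgroupOf C)).exists_le_sylow
  have h1 : D ≤ (P : Subgroup C).map C.subtype := fun d hd => ⟨⟨d, hle hd⟩, hP hd, rfl⟩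
  have h2 : IsPGroup 2 ((P : Subgroup C).map C.subtype) := P.isPGroup'.map _
  have h3 : D = (P : Subgroup C).map C.subtype := by
    by_contra hne
    obtain ⟨g, hg, hn, hgD⟩ := DT.nor_grow Nat.prime_two h2 h1 hne
    obtain ⟨n, e⟩ := h2 ⟨g, hg⟩
    have e' : g ^ 2 ^ n = 1 := congrArg Subtype.val e
    exact hgD (r2_root h n g hn (map_subtype_le _ hg) (e' ▸ D.one_mem))
  rw [h3, card_map_of_injective C.subtype_injective, P.card_eq_multiplicity]

theorem r2_max {D E C : Subgroup G} (hE : IsPGroup 2 E) (h1 : D ≤ E) (h2 : E ≤ C)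
    (h : Nat.card D = 2 ^ (Nat.card C).factorization 2) : E ≤ D := by
  obtain ⟨m, hm⟩ := IsPGroup.iff_card.1 hE
  have h3 : 2 ^ m ∣ Nat.card C := hm ▸ card_dvd_of_le h2
  have h4 : m ≤ (Nat.card C).factorization 2 :=
    (Nat.prime_two.pow_dvd_iff_le_factorization Nat.card_pos.ne').1 h3
  refine (eq_of_le_of_card_ge h1 ?_).ge
  rw [hm, h]
  exact Nat.pow_le_pow_right two_pos h4

theorem r2_nc {y : G} (hy : RO y) : y ∉ center G := by
  intro hc
  obtain ⟨h1, h2, h3⟩ := hy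
  obtain ⟨c, e⟩ := isConj_iff.1 h3
  rw [mem_center_iff.1 hc c, mul_inv_cancel_right] at e
  have h4 : orderOf y ∣ 2 := orderOf_dvd_of_pow_eq_one (by rw [pow_two]; exact mul_eq_one_iff_eq_inv.2 e)
  exact h1 (orderOf_eq_one_iff.1 (Nat.eq_one_of_dvd_coprimes
    ((Nat.coprime_two_right).2 h2) dvd_rfl h4))

theorem r2_le {D : Subgroup G} {y : G} (hy : y ∈ Cs D) : D ≤ cen y :=
  fun d hd => mem_cen.2 (mem_centralizer_iff.1 hy d hd)

theorem r2 (k : ℕ) (h : Hm G k) (y : G) (hy : RO y) (hn : ¬ InO y ⊤) : ∃ D : Subgroup G, Cx D := by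
  have hb : Cs (⊥ : Subgroup G) = ⊤ := eq_top_iff.2 fun g _ => mem_centralizer_iff.2 fun a ha => by
    rw [SetLike.mem_coe, mem_bot] at ha
    rw [ha, one_mul, mul_one]
  obtain ⟨D, ⟨hD, hbad⟩, hmax⟩ := Set.exists_max_image
    {D : Subgroup G | IsPGroup 2 D ∧ ∃ y, RO y ∧ y ∈ Cs D ∧ ¬ InO y (Cs D)}
    (fun D => Nat.card D) (Set.toFinite _)
    ⟨⊥, IsPGroup.of_bot, y, hy, by rw [hb]; trivial, by rw [hb]; exact hn⟩
  refine ⟨D, hD, hbad, fun D' hD' hlt z hz hzC => ?_, fun z hz hzC hzn => ?_⟩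
  · by_contra hc
    exact absurd (hmax D' ⟨hD', z, hz, hzC, hc⟩) (not_le.2 hlt)
  · by_contra hc
    have hk : Nat.card D = 2 ^ k := by
      rw [← h z hz.2.2 (r2_nc hz)]
      refine r2_card hD (r2_le hzC) fun τ h1 h2 h3 => ?_
      by_contra h4
      exact hc ⟨τ, h1, h2, h4, h3⟩
    refine hzn (r1 (Cs D) ?_ z hzC hz.2.1)
    rintro x hx ⟨n, hxn⟩ ⟨s, -, hs⟩
    by_cases hxc : x ∈ center G
    · exact fun g _ => mem_cen.2 (mem_center_iff.1 hxc g)
    · have hxp : IsPGroup 2 (zpowers x) := by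
        rintro ⟨_, m, rfl⟩
        refine ⟨n, Subtype.ext ?_⟩
        change (x ^ m) ^ 2 ^ n = 1
        rw [← zpow_natCast, ← zpow_mul, mul_comm, zpow_mul, zpow_natCast, hxn, one_zpow]
      have hxD : x ∈ D := r2_max (C := cen x)
        (DT.sup_pgroup hxp hD (zpowers_le.2 (centralizer_le_normalizer _ hx))) le_sup_right
        (sup_le (zpowers_le.2 (mem_cen.2 rfl)) (r2_le hx))
        (by rw [hk, h x (isConj_iff.2 ⟨s, hs⟩) hxc]) (mem_sup_left (mem_zpowers x))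
      exact fun g hg => mem_cen.2 (mem_centralizer_iff.1 hg x hxD).symm

end Cfsg.Agent.RC
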