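import Cfsg.Agent.RC.Df2
import Cfsg.Agent.RC.R0
import Cfsg.Agent.CS4.Defs
import Cfsg.Agent.H22.CoprimeQuot

/-! RC/R4a (S3860): passage to `N(D) / O(C(D))`. -/

set_option autoImplicit false
set_option linter.unusedSectionVars false

namespace Cfsg.Agent.RC

open Subgroup

universe u

variable {G : Type u} [Group G] [Finite G]

namespace R4a

variable {G' : Type u} [Group G'] [Finite G'] {X D : Subgroup G} {y : G}

theorem inO_map (f : G →* G') (h : InO y X) : InO (f y) (X.map f) :=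
  let ⟨N, a, b, c, d⟩ := h
  ⟨N.map f, map_mono a, (map_mono b).trans (le_normalizer_map f), c.of_dvd_nat (card_map_dvd _ f), mem_map_of_mem f d⟩

theorem inO_comap {f : G →* G'} (hf : Function.Injective f) (h : InO (f y) (X.map f)) : InO y X :=
  let ⟨N, a, b, c, d⟩ := h
  ⟨N.comap f, fun _ hx => (mem_map_iff_mem hf).1 (a hx),
    (map_le_iff_le_comap.1 b).trans (le_normalizer_comap f), c.of_dvd_nat (card_comap_dvd_of_injective N f hf), d⟩

theorem inO_of_sq {c w : G} (h : InO w X) (o : Odd (orderOf c)) (e : w * c ^ 2 = 1) : InO c X := by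
  obtain ⟨N, a, b, k, d⟩ := h
  obtain ⟨m, hm⟩ := exists_pow_eq_self_of_coprime (x := c) (n := 2) (Nat.coprime_two_left.2 o)
  exact ⟨N, a, b, k, hm ▸ pow_mem (eq_inv_of_mul_eq_one_right e ▸ inv_mem d) m⟩

theorem cs_sup (A : Subgroup G) (t : G) : Cs (A ⊔ zpowers t) = Cs A ⊓ cen t := by
  ext x
  refine ⟨fun h => ⟨fun a ha => h a (mem_sup_left ha), mem_cen.2 (h t (mem_sup_right (mem_zpowers t))).symm⟩,
    fun h a ha => mem_cen.1 ((sup_le (fun a ha => mem_cen.2 (h.1 a ha))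
      (zpowers_le.2 (mem_cen.2 (mem_cen.1 h.2).symm)) : A ⊔ zpowers t ≤ cen x) ha)⟩

theorem pg_z {t : G} (h : Two t) : IsPGroup 2 (zpowers t) := by
  obtain ⟨n, e⟩ := h
  rintro ⟨_, i, rfl⟩
  exact ⟨n, Subtype.ext (show (t ^ i) ^ 2 ^ n = 1 by
    rw [← zpow_natCast, ← zpow_mul, mul_comm, zpow_mul, zpow_natCast, e, one_zpow])⟩

theorem two_of (h : IsPGroup 2 D) {t : G} (e : t * t ∈ D) : Two t := by
  obtain ⟨n, k⟩ := h ⟨_, e⟩
  exact ⟨n + 1, by rw [pow_succ', pow_mul, pow_two]; exact congrArg Subtype.val k⟩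

theorem liftIn (L O M : Subgroup G) (hO : Odd (Nat.card O)) [O.Normal] (hM : ∀ g ∈ L, ∀ x ∈ M, g * x * g⁻¹ ∈ M)
    (l : M ≤ L) {s : G} (hy : y ∈ M) (hs : s ∈ L) {n : ℕ} (hn : Odd n) (hyn : y ^ n ∈ O) (e : s * y * s⁻¹ * y ∈ O) :
    ∃ w ∈ M, Odd (orderOf w) ∧ IsConj w w⁻¹ ∧ w * y ^ 2 ∈ O := by
  obtain ⟨w, a, s', b, c, d⟩ := lift (O.subgroupOf L) (M.subgroupOf L)
    (hO.of_dvd_nat (card_comap_dvd_of_injective O _ L.subtype_injective))
    (fun g x hx => Normal.conj_mem ‹O.Normal› x.1 hx g.1) (fun g x hx => hM g g.2 x hx) ⟨y, l hy⟩ ⟨s, hs⟩ hy n hn hyn e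
  exact ⟨w, a, by rwa [orderOf_coe], isConj_iff.2 ⟨s', congrArg Subtype.val c⟩, d⟩

/-- the configuration in the normaliser -/
structure Cy (D : Subgroup G) : Prop where
  p2 : IsPGroup 2 D
  nrm : D.Normal
  max : ∀ D' : Subgroup G, IsPGroup 2 D' → D < D' → ∀ y, RO y → y ∈ Cs D' → InO y (Cs D')
  ns : ∀ y, RO y → y ∈ Cs D → ¬ InO y (Cs D) → ∃ τ ∈ cen y, τ ∉ D ∧ τ * τ ∈ D
  x3 : ∃ y ∈ Cs D, ¬ InO y (Cs D) ∧ ∃ τ ∈ cen y, τ * τ ∈ D ∧ InO y (Cs (D ⊔ zpowers τ))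

theorem cy (h : Cx D) : Cy (D.subgroupOf (nor D)) := by
  have inj := (nor D).subtype_injective
  have e0 : (D.subgroupOf (nor D)).map (nor D).subtype = D := map_subgroupOf_eq_of_le le_normalizer
  have cs : ∀ D' : Subgroup (nor D), D.subgroupOf (nor D) ≤ D' →
      (Cs D').map (nor D).subtype = Cs (D'.map (nor D).subtype) := fun D' l => by
    refine le_antisymm ?_ fun g hg => ?_
    · rintro _ ⟨g, hg, rfl⟩ _ ⟨a, ha, rfl⟩
      exact congrArg Subtype.val (hg a ha)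
    · have : g ∈ nor D := centralizer_le_normalizer _ fun a ha => hg a (map_mono l (by rw [e0]; exact ha))
      exact ⟨⟨g, this⟩, fun a ha => Subtype.ext (hg a ⟨a, ha, rfl⟩), rfl⟩
  have c0 : (Cs (D.subgroupOf (nor D))).map (nor D).subtype = Cs D := by rw [cs _ le_rfl, e0]
  have ro : ∀ y : nor D, RO y → RO (y : G) := fun y k =>
    ⟨fun e => k.1 (Subtype.ext e), by rw [orderOf_coe]; exact k.2.1, (nor D).subtype.map_isConj k.2.2⟩
  have mx : ∀ D' : Subgroup (nor D), IsPGroup 2 D' → D.subgroupOf (nor D) < D' → ∀ y : nor D, RO (y : G) →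
      y ∈ Cs D' → InO y (Cs D') := fun D' p l y r m => inO_comap inj (by
    rw [cs _ l.le]
    refine h.max _ (p.map _) ?_ _ r (by rw [← cs _ l.le]; exact mem_map_of_mem _ m)
    conv_lhs => rw [← e0]
    rw [card_map_of_injective inj, card_map_of_injective inj]
    exact (card_le_of_le l.le).lt_of_ne fun e => l.ne (eq_of_le_of_card_ge l.le e.ge))
  have ns : ∀ y : nor D, RO (y : G) → y ∈ Cs (D.subgroupOf (nor D)) → ¬ InO y (Cs (D.subgroupOf (nor D))) →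
      ∃ τ ∈ cen y, τ ∉ D.subgroupOf (nor D) ∧ τ * τ ∈ D.subgroupOf (nor D) := fun y r m k => by
    obtain ⟨τ, a, b, c, d⟩ := h.ns y r (by rw [← c0]; exact mem_map_of_mem _ m)
      fun k' => k (inO_comap inj (by rw [c0]; exact k'))
    exact ⟨⟨τ, a⟩, mem_cen.2 (Subtype.ext (mem_cen.1 b)), c, d⟩
  have p2 : IsPGroup 2 (D.subgroupOf (nor D)) := h.p2.comap_subtype
  refine ⟨p2, normal_in_normalizer, fun D' p l y r => mx D' p l y (ro y r), fun y r => ns y (ro y r), ?_⟩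
  obtain ⟨y, r, m, k⟩ := h.bad
  rw [← c0] at m k
  obtain ⟨y, m, rfl⟩ := m
  have k' : ¬ InO y (Cs (D.subgroupOf (nor D))) := fun e => k (inO_map _ e)
  obtain ⟨τ, a, b, c⟩ := ns y r m k'
  refine ⟨y, m, k', τ, a, c, mx _ (p2.to_sup_of_normal_left (pg_z (two_of p2 c)))
    (lt_of_le_of_ne le_sup_left fun e => b (e ▸ mem_sup_right (mem_zpowers τ))) y r ?_⟩
  rw [cs_sup]
  exact ⟨m, mem_cen.2 (mem_cen.1 a).symm⟩

theorem quot (h : Cy D) {π : G →* G'} (sj : Function.Surjective π) (hk : π.ker = CS4.oc (Cs D)) : Qx (D.map π) := by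
  have := h.nrm
  have ko : Odd (Nat.card π.ker) := hk ▸ CS4.oc_odd _
  have cop : (Nat.card π.ker).Coprime 2 := Nat.coprime_two_right.2 ko
  have cs : ∀ {P : Subgroup G}, IsPGroup 2 P → (Cs P).map π = Cs (P.map π) :=
    H22.map_centralizer_of_ker_coprime π sj cop
  have nr : ∀ {P : Subgroup G}, IsPGroup 2 P → (nor P).map π = nor (P.map π) :=
    H22.map_normalizer_of_ker_coprime π sj cop
  have io : ∀ y, InO y (Cs D) ↔ π y = 1 := fun y =>
    ⟨fun ⟨N, a, b, c, d⟩ => (hk ▸ CS4.le_oc a b c : N ≤ π.ker) d, fun e =>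
      ⟨π.ker, hk ▸ CS4.oc_le _, le_normalizer_of_normal, ko, e⟩⟩
  have lf : ∀ P : Subgroup G, IsPGroup 2 P → ∀ c ∈ Cs (P.map π), Odd (orderOf c) → ∀ s ∈ nor (P.map π),
      s * c * s⁻¹ = c⁻¹ → ∃ w ∈ Cs P, Odd (orderOf w) ∧ IsConj w w⁻¹ ∧ π w * c ^ 2 = 1 := fun P p c m o s n e => by
    rw [← cs p] at m
    rw [← nr p] at n
    obtain ⟨c, m, rfl⟩ := m
    obtain ⟨s, n, rfl⟩ := n
    obtain ⟨w, a, b, c', d⟩ := liftIn (nor P) π.ker (Cs P) ko
      (fun g hg x hx a ha => by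
        have := hx _ ((mem_normalizer_iff.1 (inv_mem hg) a).1 ha)
        calc a * (g * x * g⁻¹) = g * (g⁻¹ * a * g⁻¹⁻¹ * x) * g⁻¹ := by group
          _ = _ := by rw [this]; group)
      (centralizer_le_normalizer _) m n o
      (by rw [MonoidHom.mem_ker, map_pow, pow_orderOf_eq_one])
      (by rw [MonoidHom.mem_ker, map_mul, map_mul, map_mul, map_inv, e, inv_mul_cancel])
    exact ⟨w, a, b, c', by rwa [MonoidHom.mem_ker, map_mul, map_pow] at d⟩
  refine ⟨h.p2.map π, h.nrm.map π sj, ?_, fun t t2 tD c m o s n e => ?_, fun y r m => ?_, ?_⟩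
  · rintro y ⟨N, a, b, c, d⟩
    obtain ⟨y, rfl⟩ := sj y
    rw [← cs h.p2] at a b
    refine (io y).1 ⟨N.comap π, ?_, (map_le_iff_le_comap.1 b).trans (le_normalizer_comap π), ?_, d⟩
    · refine (comap_mono a).trans ?_
      rw [comap_map_eq, hk]
      exact sup_le le_rfl (CS4.oc_le _)
    · rw [← Nat.not_even_iff_odd, even_iff_two_dvd]
      intro k
      obtain ⟨x, hx⟩ := exists_prime_orderOf_dvd_card' 2 k
      rw [← orderOf_coe] at hx
      have o1 : Odd (orderOf (π x)) := c.of_dvd_nat (orderOf_dvd_natCard N x.2)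
      have o2 : orderOf (π x) ∣ 2 := hx ▸ orderOf_map_dvd π x
      have o3 : π x = 1 := orderOf_eq_one_iff.1 (Nat.eq_one_of_dvd_coprimes (Nat.coprime_two_right.2 o1) dvd_rfl o2)
      have o4 : Odd (orderOf (x : G)) := ko.of_dvd_nat (orderOf_dvd_natCard π.ker o3)
      rw [hx] at o4
      exact absurd o4 (by decide)
  · obtain ⟨g, rfl⟩ := sj t
    obtain ⟨a, k, ok, eg⟩ := Nat.exists_eq_two_pow_mul_odd (orderOf_pos g).ne'
    obtain ⟨j, hj⟩ := t2
    obtain ⟨i, hi⟩ := exists_pow_eq_self_of_coprime (x := π g) (n := k)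
      (((Nat.coprime_two_right.2 ok).pow_right j).coprime_dvd_right (orderOf_dvd_of_pow_eq_one hj))
    have t0 : Two ((g ^ k) ^ i) := ⟨a, by
      rw [← pow_mul, mul_comm i, pow_mul, ← pow_mul g, mul_comm k, ← eg, pow_orderOf_eq_one, one_pow]⟩
    have e0 : π ((g ^ k) ^ i) = π g := by rw [map_pow, map_pow, hi]
    generalize (g ^ k) ^ i = v at t0 e0
    have p1 := h.p2.to_sup_of_normal_left (pg_z t0)
    have em : (D ⊔ zpowers v).map π = D.map π ⊔ zpowers (π g) := by rw [Subgroup.map_sup, MonoidHom.map_zpowers, e0]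
    rw [← cs_sup, ← em] at m ⊢
    rw [← em] at n
    obtain ⟨w, w1, w2, w3, w4⟩ := lf _ p1 c m o s n e
    refine inO_of_sq ?_ o w4
    rw [← cs p1]
    refine inO_map π ?_
    by_cases w0 : w = 1
    · exact ⟨⊥, bot_le, le_normalizer_of_normal, by simp, w0⟩
    · exact h.max _ p1 (lt_of_le_of_ne le_sup_left fun e => tD (e0 ▸ mem_map_of_mem π
        (e ▸ mem_sup_right (mem_zpowers v)))) w ⟨w0, w2, w3⟩ w1
  · obtain ⟨s, e⟩ := isConj_iff.1 r.2.2
    have := h.nrm.map π sj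
    obtain ⟨w, w1, w2, w3, w4⟩ := lf _ h.p2 y m r.2.1 s ((le_normalizer_of_normal : ⊤ ≤ _) trivial) e
    obtain ⟨i, hi⟩ := exists_pow_eq_self_of_coprime (x := y) (n := 2) (Nat.coprime_two_left.2 r.2.1)
    have w0 : π w ≠ 1 := fun k => r.1 (by rw [k, one_mul] at w4; rw [← hi, w4, one_pow])
    obtain ⟨τ, a, b, c⟩ := h.ns w ⟨fun k => w0 (by rw [k, map_one]), w2, w3⟩ w1 fun k => w0 ((io w).1 k)
    refine ⟨π τ, ?_, ?_, map_mul π τ τ ▸ mem_map_of_mem π c⟩
    · have k : Commute (π τ) (π w) := Commute.map (mem_cen.1 a) π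
      rw [mem_cen, ← hi, eq_inv_of_mul_eq_one_right w4]
      exact k.inv_right.pow_right i
    · rintro ⟨d, hd, e⟩
      have p1 := h.p2.to_sup_of_normal_left (pg_z (two_of h.p2 c))
      have m1 : d⁻¹ * τ ∈ D ⊔ zpowers τ := mul_mem (mem_sup_left (inv_mem hd)) (mem_sup_right (mem_zpowers τ))
      have m2 : d⁻¹ * τ ∈ π.ker := by rw [MonoidHom.mem_ker, map_mul, map_inv, e, inv_mul_cancel]
      obtain ⟨j, hj⟩ := p1 ⟨_, m1⟩
      have o1 : orderOf (d⁻¹ * τ) ∣ 2 ^ j := orderOf_dvd_of_pow_eq_one (congrArg Subtype.val hj)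
      have o2 := Nat.eq_one_of_dvd_coprimes (cop.pow_right j) (orderOf_dvd_natCard π.ker m2) o1
      exact b (inv_mul_eq_one.1 (orderOf_eq_one_iff.1 o2) ▸ hd)
  · obtain ⟨y, m, k, τ, a, b, c⟩ := h.x3
    have t2 := two_of h.p2 b
    refine ⟨π y, cs h.p2 ▸ mem_map_of_mem π m, fun e => k ((io y).2 e), π τ,
      mem_cen.2 (Commute.map (mem_cen.1 a) π), t2.imp fun n e => by rw [← map_pow, e, map_one], ?_⟩
    rw [← cs_sup, ← MonoidHom.map_zpowers, ← Subgroup.map_sup, ← cs (h.p2.to_sup_of_normal_left (pg_z t2))]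
    exact inO_map π c

theorem fin (h : Cy D) : ∃ (X : Type u) (_ : Group X) (_ : Finite X) (E : Subgroup X), Qx E := by
  have := h.nrm
  have : (CS4.oc (Cs D)).Normal := normalizer_eq_top_iff.1 (top_le_iff.1 (CS4.norm_oc le_normalizer_of_normal))
  exact ⟨G ⧸ CS4.oc (Cs D), inferInstance, inferInstance, _,
    quot h (QuotientGroup.mk'_surjective _) (QuotientGroup.ker_mk' _)⟩

end R4a

theorem r4a {D : Subgroup G} (h : Cx D) : ∃ (X : Type u) (_ : Group X) (_ : Finite X) (E : Subgroup X), Qx E :=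
  R4a.fin (R4a.cy h)

end Cfsg.Agent.RC
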