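import Cfsg.Agent.RC.Df2
import Cfsg.Agent.H44.Layer
import Cfsg.Agent.S0028
import Cfsg.Agent.S0205
import Cfsg.Agent.S3861

/-! RC/R4b (S3860): the component of `C(D)`. -/

set_option autoImplicit false

namespace Cfsg.Agent.RC

open Subgroup

universe u

variable {G : Type u} [Group G] [Finite G]

namespace R4bH

open Cfsg.Agent.H44

theorem two_odd {P : Subgroup G} (hP : IsPGroup 2 P) {x : G} (hx : x ∈ P) (ho : Odd (orderOf x)) : x = 1 := by
  obtain ⟨k, hk⟩ := hP ⟨x, hx⟩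
  have h1 : orderOf x ∣ 2 ^ k := orderOf_dvd_of_pow_eq_one (congrArg Subtype.val hk)
  exact orderOf_eq_one_iff.1 (Nat.Coprime.eq_one_of_dvd ((Nat.coprime_two_right.2 ho).pow_right k) h1)

theorem odd_of_mem {N : Subgroup G} (hN : Odd (Nat.card N)) {x : G} (hx : x ∈ N) : Odd (orderOf x) :=
  Odd.of_dvd_nat hN (Subgroup.orderOf_dvd_natCard N hx)

theorem solv_of_quot {K : Type u} [Group K] (h : Group.IsSolvable (K ⧸ center K)) : Group.IsSolvable K := by
  haveI : Group.IsSolvable (center K) := Group.isSolvable_of_comm fun a b => Subtype.ext (b.2.comm a).symm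
  exact Group.isSolvable_of_ker_le_range (center K).subtype (QuotientGroup.mk' (center K)) (by simp)

theorem noc {K : Subgroup G} (hK : QS K) (P : Sylow 2 K) : ¬ (P : Subgroup K) ≤ center K := fun h => by
  have h1 : ¬ 2 ∣ (center K).index := fun e => P.not_dvd_index (e.trans (Subgroup.index_dvd_of_le h))
  exact hK.not_solvable (solv_of_quot (S0205.result (Nat.odd_iff.2 (Nat.two_dvd_ne_zero.1 h1))))

theorem real {K : Subgroup G} (hK : QS K) : ∃ c ∈ K, c ≠ 1 ∧ Odd (orderOf c) ∧ ∃ s ∈ K, s * c * s⁻¹ = c⁻¹ := by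
  obtain ⟨P⟩ : Nonempty (Sylow 2 K) := inferInstance
  by_contra hc
  have hn : (P : Subgroup K).Normal := (S3861.result P).1 fun x hx ho hx' => by
    obtain ⟨s, hs⟩ := isConj_iff.1 hx'
    exact hc ⟨x, x.2, fun e => hx (Subtype.ext e), by rwa [Subgroup.orderOf_coe], s, s.2, congrArg Subtype.val hs⟩
  have hnor : K ≤ normalizer (((P : Subgroup K).map K.subtype : Subgroup G) : Set G) := fun g hg =>
    Subgroup.mem_normalizer_fintype (by
      rintro _ ⟨a, ha, rfl⟩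
      exact ⟨⟨g, hg⟩ * a * ⟨g, hg⟩⁻¹, hn.conj_mem a ha _, rfl⟩)
  rcases hK.normal _ (Subgroup.map_subtype_le _) hnor with e | e
  · have h2 : IsPGroup 2 K := e ▸ P.isPGroup'.map K.subtype
    haveI := h2.isNilpotent
    exact hK.not_solvable inferInstance
  · exact noc hK P fun a ha => Subgroup.mem_center_iff.2 fun b =>
      Subtype.ext (Subgroup.mem_centralizer_iff.1 (e ⟨a, ha, rfl⟩) b b.2)

theorem fit {D : Subgroup G} (h : Qx D) : IsPGroup 2 (Fof (Cs D)) := by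
  have hO : pPrimeCore 2 (Cs D) = ⊥ := by
    refine eq_bot_iff.2 fun y hy => Subgroup.mem_bot.2 (Subtype.ext (h.o1 y
      ⟨(pPrimeCore 2 (Cs D)).map (Cs D).subtype, Subgroup.map_subtype_le _, fun g hg => ?_, ?_, y, hy, rfl⟩))
    · refine Subgroup.mem_normalizer_fintype ?_
      rintro _ ⟨a, ha, rfl⟩
      haveI := pPrimeCore_characteristic (G := Cs D) (p := 2)
      exact ⟨⟨g, hg⟩ * a * ⟨g, hg⟩⁻¹, Subgroup.Normal.conj_mem inferInstance a ha _, rfl⟩
    · rw [Subgroup.card_map_of_injective (Cs D).subtype_injective]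
      exact Nat.coprime_two_right.1 pPrimeCore_coprime
  rw [Fof, fitting_eq_pCore_of_pPrimeCore_eq_bot hO]
  exact (pCore_isPGroup (p := 2) (G := Cs D)).map _

theorem exists_comp {D : Subgroup G} (h : Qx D) : ∃ K, Comp (Cs D) K := by
  by_contra hc
  haveI := h.nrm
  have hE : Eof (Cs D) = ⊥ := Eof_eq_bot_iff.2 fun K hK => hc ⟨K, hK⟩
  obtain ⟨y, hy, hy1, τ, hτ, ⟨n, hn⟩, N, -, hN, ho, hyN⟩ := h.x3
  have hQ := fit h
  have hyo := odd_of_mem ho hyN
  have hall : ∀ H : Subgroup G, H ≤ normalizer (Fof (Cs D) : Set G) := fun H g _ =>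
    normalizer_le_normalizer_Fof _ (by rw [Subgroup.normalizer_eq_top]; trivial)
  have hP : IsPGroup 2 (zpowers τ) := by
    obtain ⟨k, -, hk⟩ := (Nat.dvd_prime_pow Nat.prime_two).1 (orderOf_dvd_of_pow_eq_one hn)
    exact IsPGroup.of_card (by rw [Nat.card_zpowers, hk])
  have hz : ∀ {a b : G}, a * b = b * a → a ∈ centralizer (zpowers b : Set G) := fun {a b} e =>
    Subgroup.mem_centralizer_iff.2 (by
      rintro _ ⟨k, rfl⟩
      exact (Commute.zpow_right e k).eq.symm)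
  have key := S0028.result 2 (zpowers τ) (zpowers y) (Fof (Cs D)) hP
    (by rw [Nat.card_zpowers]; exact Nat.coprime_two_right.2 hyo) hQ
    (Subgroup.zpowers_le.2 (hz (mem_cen.1 hτ))) (hall _) (hall _) (fun q hq => by
      have h1 : q ∈ Cs D ⊓ cen τ := ⟨Fof_le _ hq.1,
        mem_cen.2 (Subgroup.mem_centralizer_iff.1 hq.2 τ (mem_zpowers τ)).symm⟩
      have h2 : q * y * q⁻¹ * y⁻¹ ∈ N :=
        mul_mem ((Subgroup.mem_normalizer_iff.1 (hN h1) y).1 hyN) (inv_mem hyN)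
      have h3 : q * y * q⁻¹ * y⁻¹ ∈ Fof (Cs D) := by
        have := mul_mem hq.1 ((Subgroup.mem_normalizer_iff.1 (hall ⊤ (Subgroup.mem_top y)) q⁻¹).1 (inv_mem hq.1))
        rwa [← mul_assoc, ← mul_assoc] at this
      have h4 := two_odd hQ h3 (odd_of_mem ho h2)
      rw [mul_inv_eq_one, mul_inv_eq_iff_eq_mul] at h4
      exact hz h4)
  exact hy1 (two_odd hQ (inf_centralizer_Fof_le_of_Eof_eq_bot hE ⟨hy, key (mem_zpowers y)⟩) hyo)

theorem syl {D K : Subgroup G} (h : Qx D) (hK : Comp (Cs D) K) {u : G} (hu : u ∈ Cs K) (h2 : Two u) : u ∈ D := by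
  by_contra hD
  obtain ⟨c, hc, hc1, ho, s, hs, e⟩ := real hK.qs
  have hKC : K ≤ Cs D ⊓ cen u := fun a ha =>
    ⟨hK.le ha, mem_cen.2 (Subgroup.mem_centralizer_iff.1 hu a ha)⟩
  have hs' : s ∈ nor (D ⊔ zpowers u) := by
    have h3 : D ⊔ zpowers u ≤ cen s := sup_le
      (fun d hd => mem_cen.2 (Subgroup.mem_centralizer_iff.1 (hK.le hs) d hd))
      (Subgroup.zpowers_le.2 (mem_cen.2 (Subgroup.mem_centralizer_iff.1 hu s hs).symm))
    exact Subgroup.centralizer_le_normalizer _ (Subgroup.mem_centralizer_iff.2 fun a ha => mem_cen.1 (h3 ha))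
  obtain ⟨N, -, hN, hNo, hcN⟩ := h.x1 u h2 hD c (hKC hc) ho s hs' e
  have hnor : K ≤ normalizer ((N ⊓ K : Subgroup G) : Set G) := fun g hg =>
    Subgroup.inf_normalizer_le_normalizer_inf ⟨hN (hKC hg), Subgroup.le_normalizer hg⟩
  rcases hK.qs.normal _ inf_le_right hnor with e1 | e1
  · exact hK.qs.not_le_solvable (S0205.result hNo) (e1.ge.trans inf_le_left)
  · exact hc1 (two_odd (fit h) (center_le_Fof_of_sn hK.sn ⟨hc, e1 ⟨hcN, hc⟩⟩) ho)

theorem normal {D K : Subgroup G} (h : Qx D) (hK : Comp (Cs D) K) : K.Normal := by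
  haveI := h.nrm
  refine ⟨fun a ha g => ?_⟩
  have hK' := hK.conj (g := g) (by rw [Subgroup.normalizer_eq_top]; trivial)
  rcases hK.eq_or_commutator_eq_bot hK' with e | e
  · rw [e]
    exact ⟨a, ha, rfl⟩
  · exfalso
    obtain ⟨P⟩ : Nonempty (Sylow 2 (K.map (MulAut.conj g).toMonoidHom)) := inferInstance
    have e' : K.map (MulAut.conj g).toMonoidHom ≤ Cs K :=
      Subgroup.le_centralizer_iff.1 (Subgroup.commutator_eq_bot_iff_le_centralizer.1 e)
    refine noc hK'.qs P fun b hb => Subgroup.mem_center_iff.2 fun c => Subtype.ext ?_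
    obtain ⟨k, hk⟩ := P.isPGroup' ⟨b, hb⟩
    have hbD : (b : G) ∈ D := syl h hK (e' b.2) ⟨k, congrArg Subtype.val (congrArg Subtype.val hk)⟩
    exact (Subgroup.mem_centralizer_iff.1 (hK'.le c.2) b hbD).symm

end R4bH

theorem r4b {D : Subgroup G} (h : Qx D) : ∃ K : Subgroup G, Cp D K := by
  obtain ⟨K, hK⟩ := R4bH.exists_comp h
  exact ⟨K, h, R4bH.normal h hK, hK.le, hK.perfect, (H44.qs_iff.1 hK.qs).2,
    fun e => hK.qs.not_solvable (R4bH.solv_of_quot (Group.isSolvable_of_comm fun a b => e.is_comm.comm a b)),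
    fun u hu h2 => R4bH.syl h hK hu h2⟩

end Cfsg.Agent.RC
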