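import Cfsg.Agent.RC.R4cA

set_option autoImplicit false

namespace Cfsg.Agent.RC.R4c3

open Subgroup R4cT

universe u

variable {G : Type u} [Group G] [Finite G]

/-- the induced automorphism -/
def ph (K : Subgroup G) [K.Normal] : G →* MulAut (K ⧸ center K) :=
  MonoidHom.mk' (fun g => QuotientGroup.congr (center K) (center K) (MulAut.conjNormal g)
    (characteristic_iff_map_eq.1 inferInstance _)) fun a b => by
      ext x
      obtain ⟨k, rfl⟩ := QuotientGroup.mk_surjective x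
      rw [map_mul]
      rfl

theorem ph_mk (K : Subgroup G) [K.Normal] (g : G) (k : K) :
    ph K g (k : K ⧸ center K) = ((MulAut.conjNormal g k : K) : K ⧸ center K) := rfl

theorem dec {K : Subgroup G} {a b : K} (h : (a : K ⧸ center K) = b) :
    ∃ z : G, z ∈ K ∧ z ∈ Cs K ∧ (b : G) = a * z :=
  ⟨(a⁻¹ * b : K), (a⁻¹ * b).2, mem_centralizer_iff.2 fun m hm =>
    congrArg Subtype.val (mem_center_iff.1 (QuotientGroup.eq.1 h) ⟨m, hm⟩), by simp⟩

theorem ker {D K : Subgroup G} [K.Normal] (h : Cp D K) {g : G} : ph K g = 1 ↔ g ∈ Cs K := by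
  constructor
  · intro e
    have key : K ≤ cen g := by
      rw [← h.perf, commutator_le]
      intro a ha b hb
      obtain ⟨z, -, hz, ez⟩ := dec (show ((⟨a, ha⟩ : K) : K ⧸ center K) = _ from
        (DFunLike.congr_fun e _).symm.trans (ph_mk K g ⟨a, ha⟩))
      obtain ⟨w, -, hw, ew⟩ := dec (show ((⟨b, hb⟩ : K) : K ⧸ center K) = _ from
        (DFunLike.congr_fun e _).symm.trans (ph_mk K g ⟨b, hb⟩))
      simp only [MulAut.conjNormal_apply] at ez ew
      have hwK : w ∈ K := by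
        have : w = b⁻¹ * (g * b * g⁻¹) := by rw [ew]; group
        rw [this]
        exact K.mul_mem (K.inv_mem hb) (h.kn.conj_mem b hb g)
      have c1 : Commute (b * w) z := mem_centralizer_iff.1 hz _ (K.mul_mem hb hwK)
      have c2 : Commute a⁻¹ w := mem_centralizer_iff.1 hw _ (K.inv_mem ha)
      rw [mem_cen, commutatorElement_def, eq_comm, ← mul_inv_eq_iff_eq_mul]
      calc g * (a * b * a⁻¹ * b⁻¹) * g⁻¹
          = (g * a * g⁻¹) * (g * b * g⁻¹) * (g * a * g⁻¹)⁻¹ * (g * b * g⁻¹)⁻¹ := by group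
        _ = a * (z * (b * w)) * z⁻¹ * a⁻¹ * w⁻¹ * b⁻¹ := by rw [ez, ew]; group
        _ = a * b * (w * a⁻¹) * w⁻¹ * b⁻¹ := by rw [← c1.eq]; group
        _ = a * b * a⁻¹ * b⁻¹ := by rw [← c2.eq]; group
    exact mem_centralizer_iff.2 fun m hm => mem_cen.1 (key hm)
  · intro e
    ext x
    obtain ⟨k, rfl⟩ := QuotientGroup.mk_surjective x
    rw [ph_mk, MulAut.one_apply]
    congr 1
    refine Subtype.ext ?_
    rw [MulAut.conjNormal_apply, ← mem_centralizer_iff.1 e _ k.2, mul_inv_cancel_right]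

theorem uq {D K : Subgroup G} (h : Cp D K) {a b : K} (e : (a : K ⧸ center K) = b)
    (ha : Odd (orderOf a)) (hb : Odd (orderOf b)) : a = b := by
  obtain ⟨z, zK, hz, ez⟩ := dec e
  have c : Commute (a : G) z := mem_centralizer_iff.1 hz _ a.2
  have h1 : z ^ (orderOf a * orderOf b) = 1 := by
    have h2 : (b : G) ^ (orderOf a * orderOf b) = 1 := by
      rw [← Subgroup.coe_pow, mul_comm, pow_mul, pow_orderOf_eq_one, one_pow, Subgroup.coe_one]
    have h3 : (a : G) ^ (orderOf a * orderOf b) = 1 := by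
      rw [← Subgroup.coe_pow, pow_mul, pow_orderOf_eq_one, one_pow, Subgroup.coe_one]
    rwa [ez, c.mul_pow, h3, one_mul] at h2
  rw [cen_odd h zK hz (Odd.of_dvd_nat (ha.mul hb) (orderOf_dvd_of_pow_eq_one h1)), mul_one] at ez
  exact Subtype.ext ez.symm

theorem act {D K : Subgroup G} [K.Normal] (h : Cp D K) {a b : K} {g : G} (ha : Odd (orderOf a))
    (hb : Odd (orderOf b)) (e : ph K g (a : K ⧸ center K) = b) : g * a * g⁻¹ = b :=
  congrArg Subtype.val (uq h ((ph_mk K g a).symm.trans e) (by rwa [MulEquiv.orderOf_eq]) hb)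

theorem DK {D K : Subgroup G} (h : Cp D K) : D ≤ Cs K := fun d hd =>
  mem_centralizer_iff.2 fun m hm => (mem_centralizer_iff.1 (h.kc hm) d hd).symm

theorem twoD {D K : Subgroup G} (h : Cp D K) {x : G} (hx : x * x ∈ D) : Two x := by
  obtain ⟨n, hn⟩ := h.p2 ⟨_, hx⟩
  exact ⟨n + 1, by rw [pow_succ', pow_mul, sq]; exact congrArg Subtype.val hn⟩

theorem r4c {D K : Subgroup G} (h : Cp D K) :
    ∃ (S : Type u) (_ : Group S) (_ : Finite S) (Γ : Subgroup (MulAut S)), Hy Γ := by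
  haveI := h.kn
  haveI := h.nrm
  refine ⟨K ⧸ center K, inferInstance, inferInstance, (ph K).range, h.simp, h.nab, ?_, ?_, ?_⟩
  · intro x
    obtain ⟨k, rfl⟩ := QuotientGroup.mk_surjective x
    refine ⟨k, ?_⟩
    ext x
    obtain ⟨m, rfl⟩ := QuotientGroup.mk_surjective x
    rw [ph_mk, MulAut.conj_apply, ← QuotientGroup.mk_inv, ← QuotientGroup.mk_mul, ← QuotientGroup.mk_mul]
    rfl
  · rintro y y1 ho _ ⟨g, rfl⟩ hi
    obtain ⟨k0, hk0⟩ := QuotientGroup.mk_surjective y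
    obtain ⟨k, ko, rfl⟩ := odd_lift (QuotientGroup.mk' (center K)) ho hk0
    have e : g * k * g⁻¹ = (k : G)⁻¹ := act h (b := k⁻¹) ko (by rwa [orderOf_inv]) hi
    obtain ⟨τ, hτ, τD, τ2⟩ := h.x2 k ⟨fun e1 => y1 (by rw [show k = 1 from Subtype.ext e1, map_one]),
      by rwa [Subgroup.orderOf_coe], isConj_iff.2 ⟨g, e⟩⟩ (h.kc k.2)
    refine ⟨ph K τ, ⟨τ, rfl⟩, orderOf_eq_prime ?_ fun e1 => τD (h.syl τ ((ker h).1 e1) (twoD h τ2)), ?_⟩
    · rw [sq, ← map_mul]; exact (ker h).2 (DK h τ2)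
    · refine (ph_mk K τ k).trans (congrArg _ (Subtype.ext ?_))
      rw [MulAut.conjNormal_apply, mem_cen.1 hτ, mul_inv_cancel_right]
  · rintro τ ⟨g, hg⟩ t2 c ho tc _ ⟨a, rfl⟩ hcm hi
    obtain ⟨m, ⟨j, hj⟩, u2⟩ := two_pow g
    have tt : τ * τ = 1 := by rw [← sq, ← t2, pow_orderOf_eq_one]
    have hu : ph K (g ^ m) = τ := by rw [map_pow, hg, hj, pow_succ, pow_mul, sq, tt, one_pow, one_mul]
    generalize g ^ m = u at u2 hu
    subst hu
    have uD : u ∉ D := fun e => by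
      rw [(ker h).2 (DK h e), orderOf_one] at t2
      exact absurd t2 (by decide)
    obtain ⟨k0, hk0⟩ := QuotientGroup.mk_surjective c
    obtain ⟨k, ko, rfl⟩ := odd_lift (QuotientGroup.mk' (center K)) ho hk0
    have e1 : u * k * u⁻¹ = k := act h ko ko tc
    have e2 : a * k * a⁻¹ = (k : G)⁻¹ := act h (b := k⁻¹) ko (by rwa [orderOf_inv]) hi
    have uu : u * u ∈ D := by
      obtain ⟨n, hn⟩ := u2
      exact h.syl _ ((ker h).1 (by rw [map_mul, tt])) ⟨n, by rw [← sq, ← pow_mul, mul_comm, pow_mul, hn, one_pow]⟩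
    have hw : u * (a * u * a⁻¹) ∈ Cs K := (ker h).1 (by
      rw [map_mul, map_mul, map_mul, map_inv, hcm, mul_inv_cancel_right, tt])
    obtain ⟨m', hm', w2⟩ := two_pow (u * (a * u * a⁻¹))
    have wD := h.syl _ (pow_mem hw m') w2
    obtain ⟨i, hi'⟩ := dih (a := (u : G ⧸ D)) (b := ((a * u * a⁻¹ : G) : G ⧸ D))
      ((QuotientGroup.eq_one_iff _).2 uu)
      ((QuotientGroup.eq_one_iff (a * u * a⁻¹ * (a * u * a⁻¹))).2 (by
        have := h.nrm.conj_mem _ uu a
        convert this using 1; group)) hm' ((QuotientGroup.eq_one_iff _).2 wD)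
    obtain ⟨r, er⟩ : ∃ r, r = (u * (a * u * a⁻¹)) ^ i := ⟨_, rfl⟩
    have rK : r ∈ Cs K := er ▸ pow_mem hw i
    have hd : (r * a * u * (r * a)⁻¹)⁻¹ * u ∈ D := QuotientGroup.eq.1 (by
      rw [← hi', er]; simp [mul_assoc])
    have hs : r * a ∈ nor (D ⊔ zpowers u) := by
      have : D ⊔ zpowers u ≤ cj (r * a)⁻¹ (D ⊔ zpowers u) := by
        refine sup_le (fun d hd' => mem_cj.2 (mem_sup_left ?_)) (zpowers_le.2 (mem_cj.2 ?_))
        · simpa using h.nrm.conj_mem d hd' (r * a)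
        · have := (D ⊔ zpowers u).mul_mem (mem_sup_right (mem_zpowers u))
            ((D ⊔ zpowers u).inv_mem (mem_sup_left hd))
          convert this using 1; group
      refine nor_of fun x hx => ?_
      have := mem_cj.1 (this hx)
      rwa [inv_inv] at this
    have kc : (k : G) ∈ Cs D ⊓ cen u := ⟨h.kc k.2, mem_cen.2 (mul_inv_eq_iff_eq_mul.1 e1).symm⟩
    obtain ⟨N, n1, n2, n3, n4⟩ := h.x1 u u2 uD k kc (by rwa [Subgroup.orderOf_coe]) (r * a) hs (by
      have := mem_centralizer_iff.1 rK _ (K.inv_mem k.2)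
      calc r * a * k * (r * a)⁻¹ = r * (a * k * a⁻¹) * r⁻¹ := by group
        _ = (k : G)⁻¹ := by rw [e2, ← this, mul_inv_cancel_right])
    refine inO_trans (C := ((cen u).subgroupOf K).map (QuotientGroup.mk' (center K))) ?_ ?_
      ⟨(N.subgroupOf K).map (QuotientGroup.mk' (center K)), map_mono fun x hx => (n1 hx).2, ?_, ?_,
        mem_map_of_mem _ n4⟩
    · rintro _ ⟨x, hx, rfl⟩
      refine (ph_mk K u x).trans (congrArg _ (Subtype.ext ?_))
      rw [MulAut.conjNormal_apply, ← show (x : G) * u = u * x from mem_cen.1 hx, mul_inv_cancel_right]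
    · intro x hx
      obtain ⟨x, rfl⟩ := QuotientGroup.mk_surjective x
      refine nor_of ?_
      rintro _ ⟨y, hy, rfl⟩
      refine ⟨x * y * x⁻¹, ?_, rfl⟩
      obtain ⟨z, -, hz, ez⟩ := dec ((mem_Fx.1 hx).symm.trans (ph_mk K u x))
      rw [MulAut.conjNormal_apply] at ez
      have hy' : u * y * u⁻¹ = y := by
        rw [← show (y : G) * u = u * y from mem_cen.1 hy, mul_inv_cancel_right]
      have c1 : Commute (y : G) z := mem_centralizer_iff.1 hz _ y.2
      show (x : G) * y * (x : G)⁻¹ ∈ cen u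
      refine mem_cen.2 (mul_inv_eq_iff_eq_mul.1 ?_).symm
      calc u * ((x : G) * y * (x : G)⁻¹) * u⁻¹ = (u * x * u⁻¹) * (u * y * u⁻¹) * (u * x * u⁻¹)⁻¹ := by
            group
        _ = x * (z * y) * z⁻¹ * (x : G)⁻¹ := by rw [ez, hy']; group
        _ = _ := by rw [← c1.eq]; group
    · rintro _ ⟨x, hx, rfl⟩
      refine nor_of ?_
      rintro _ ⟨y, hy, rfl⟩
      exact ⟨x * y * x⁻¹, (nor_ap (n2 ⟨h.kc x.2, hx⟩) (show (y : G) ∈ N from hy) :), rfl⟩
    · refine Odd.of_dvd_nat n3 ((card_map_dvd _ _).trans ?_)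
      rw [← inf_subgroupOf_right, Nat.card_congr (subgroupOfEquivOfLe inf_le_right).toEquiv]
      exact card_dvd_of_le inf_le_left

end Cfsg.Agent.RC.R4c3
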