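import Cfsg.Agent.RC.Df2
import Cfsg.Agent.RC.R4c3

/-! RC/R4c (S3860). PROOF: S=K/Z(K), Γ=image of G→MulAut S, kernel = Cs K =: R (three subgroups, K perfect). Z(K) is a 2-group (its odd part is normal odd in Cs D, o1), so odd y∈S has a unique odd lift ŷ. b1: lift inverted by g, RO ŷ, x2 gives τ0; image has square 1 (D≤R), ≠1 by syl. b2: u 2-element lifting τ (odd power), u∉D; D is a normal Sylow of R (syl), D⊔⟨u⟩ Sylow in R⟨u⟩, α lifts to g normalising R⟨u⟩, Frattini: α is induced by s∈nor(D⊔⟨u⟩); x1 gives N∋ĉ. K1=preimage of Fx τ, k↦[k,u]∈Z(K) is a hom on K1 with kernel C_K(u), so O(C_K(u)) is normal in K1 and contains N∩K∋ĉ; take its image. -/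

set_option autoImplicit false

namespace Cfsg.Agent.RC

open Subgroup

universe u

variable {G : Type u} [Group G] [Finite G]

theorem r4c {D K : Subgroup G} (h : Cp D K) :
    ∃ (S : Type u) (_ : Group S) (_ : Finite S) (Γ : Subgroup (MulAut S)), Hy Γ := R4c3.r4c h

end Cfsg.Agent.RC
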