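import Cfsg.Agent.RC.Df2
import Cfsg.Agent.H33.LieBT
import Cfsg.Agent.H68.RkRee
import Cfsg.Agent.S1248

/-! RC/U34a (S3860): Borel-Tits. -/

set_option autoImplicit false

namespace Cfsg.Agent.RC

open Subgroup

universe u

variable {G : Type u} [Group G] [Finite G]

theorem u34a {F : Type} [Field F] [Fintype F] (hF : Fintype.card F = 16) (e : G ≃* Cfsg.PSU 3 F 4) :
    Cfsg.IsCharacteristicTwoType G := by
  have hc : CharP F 2 := by
    obtain ⟨p, hp, k, hpp, hk⟩ := FiniteField.card' F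
    rw [hF] at hk
    have h2 : p ∣ 2 ^ 4 := (show 16 = 2 ^ 4 from rfl) ▸ hk ▸ dvd_pow_self p k.ne_zero
    rwa [(Nat.prime_dvd_prime_iff_eq hpp Nat.prime_two).1 (hpp.dvd_of_dvd_pow h2)] at hp
  have h : Cfsg.IsLieTypeChar 2 G := .inr (.inr (.inl ⟨F, _, _, hc, 3, 4, hF, le_rfl, by omega, ⟨e⟩⟩))
  refine ⟨?_, fun T hT h1 => (H72.charPIn_iff _).1
    ((H33.bt_lie 2 h).charPIn (fun z hz _ => by simpa [H68.center_of_lie h] using hz) hT h1)⟩
  obtain ⟨S⟩ : Nonempty (Sylow 2 (Cfsg.PSU 3 F 4)) := inferInstance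
  rw [Nat.card_congr e.toEquiv, even_iff_two_dvd]
  exact Dvd.dvd.trans ((S1248.result hF S).1 ▸ by norm_num) (card_subgroup_dvd_card (S : Subgroup (Cfsg.PSU 3 F 4)))

end Cfsg.Agent.RC
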