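import Cfsg.Agent.RC.Df2

/-! RC/U34b (S3860): a commuting pair of orders 2 and 5 in `PSU₃(4)`. -/

set_option autoImplicit false

namespace Cfsg.Agent.RC

open Subgroup

universe u

variable {G : Type u} [Group G] [Finite G]

namespace U34b

open Matrix

variable {F : Type} [Field F]

/-- an element of `SU₃` from a matrix -/
def mk (M : Matrix (Fin 3) (Fin 3) F) (hd : M.det = 1)
    (h : ∀ u v, Cfsg.hermForm 3 F 4 (M *ᵥ u) (M *ᵥ v) = Cfsg.hermForm 3 F 4 u v) : Cfsg.SU 3 F 4 :=
  ⟨⟨M, hd⟩, h⟩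

theorem mk_val (M : Matrix (Fin 3) (Fin 3) F) (hd : M.det = 1)
    (h : ∀ u v, Cfsg.hermForm 3 F 4 (M *ᵥ u) (M *ᵥ v) = Cfsg.hermForm 3 F 4 u v) : (mk M hd h).1.1 = M := rfl

/-- a diagonal element -/
def dg (a b c : F) (h : a * b * c = 1) (ha : a ^ 5 = 1) (hb : b ^ 5 = 1) (hc : c ^ 5 = 1) : Cfsg.SU 3 F 4 :=
  mk !![a, 0, 0; 0, b, 0; 0, 0, c] (by simp [det_fin_three, h]) fun u v => by
    simp [Cfsg.hermForm, Fin.sum_univ_three, mulVec, dotProduct]
    linear_combination u 0 * v 0 ^ 4 * ha + u 1 * v 1 ^ 4 * hb + u 2 * v 2 ^ 4 * hc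

/-- the transposition of the first two coordinates -/
def sw (h : (2 : F) = 0) : Cfsg.SU 3 F 4 :=
  mk !![0, 1, 0; 1, 0, 0; 0, 0, 1] (by simp [det_fin_three]; linear_combination -h) fun u v => by
    simp [Cfsg.hermForm, Fin.sum_univ_three, mulVec, dotProduct]
    ring

/-- the transposition of the last two coordinates -/
def sw' (h : (2 : F) = 0) : Cfsg.SU 3 F 4 :=
  mk !![1, 0, 0; 0, 0, 1; 0, 1, 0] (by simp [det_fin_three]; linear_combination -h) fun u v => by
    simp [Cfsg.hermForm, Fin.sum_univ_three, mulVec, dotProduct]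
    ring

theorem dg_val (a b c : F) (h : a * b * c = 1) (ha : a ^ 5 = 1) (hb : b ^ 5 = 1) (hc : c ^ 5 = 1) :
    (dg a b c h ha hb hc).1.1 = !![a, 0, 0; 0, b, 0; 0, 0, c] := rfl

theorem sw_val (h : (2 : F) = 0) : (sw h).1.1 = !![0, 1, 0; 1, 0, 0; 0, 0, 1] := rfl

theorem sw'_val (h : (2 : F) = 0) : (sw' h).1.1 = !![1, 0, 0; 0, 0, 1; 0, 1, 0] := rfl

theorem one_val : (1 : Cfsg.SU 3 F 4).1.1 = 1 := rfl

theorem ext' {x y : Cfsg.SU 3 F 4} (h : x.1.1 = y.1.1) : x = y := Subtype.ext (Subtype.ext h)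

theorem val_mul (x y : Cfsg.SU 3 F 4) : (x * y).1.1 = x.1.1 * y.1.1 := rfl

end U34b

open U34b in
theorem u34b {F : Type} [Field F] [Fintype F] (hF : Fintype.card F = 16) (e : G ≃* Cfsg.PSU 3 F 4) :
    ∃ t l : G, orderOf t = 2 ∧ orderOf l = 5 ∧ l * t = t * l := by
  classical
  haveI : Fact (Nat.Prime 5) := ⟨by norm_num⟩
  have h2 : (2 : F) = 0 := by
    have := FiniteField.cast_card_eq_zero F
    rw [hF] at this
    exact pow_eq_zero_iff (n := 4) (by norm_num) |>.1 (by rw [← this]; norm_num)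
  obtain ⟨b, hb⟩ := exists_prime_orderOf_dvd_card (G := Fˣ) 5 (by rw [Fintype.card_units, hF]; norm_num)
  have ha : (b : F) ^ 5 = 1 := by rw [← Units.val_pow_eq_pow_val, ← hb, pow_orderOf_eq_one, Units.val_one]
  have hne : (b : F) ≠ (b : F) ^ 3 := fun h => by
    have h3 : b ^ 2 = 1 := mul_left_cancel (a := b) (Units.ext (by push_cast; linear_combination -h))
    have := orderOf_dvd_of_pow_eq_one h3
    rw [hb] at this
    omega
  generalize (b : F) = a at ha hne
  have h3 : (a ^ 3) ^ 5 = 1 := by rw [← pow_mul, mul_comm, pow_mul, ha, one_pow]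
  let L := dg a a (a ^ 3) (by linear_combination ha) ha ha h3
  let D := dg a (a ^ 3) a (by linear_combination ha) ha h3 ha
  let π := QuotientGroup.mk' (center (Cfsg.SU 3 F 4))
  refine ⟨e.symm (π (sw h2)), e.symm (π L), ?_, ?_, ?_⟩
  · rw [MulEquiv.orderOf_eq]
    refine orderOf_eq_prime ?_ fun h => hne ?_
    · rw [← map_pow, show sw h2 ^ 2 = 1 from ext' ?_, map_one]
      rw [sq, val_mul, sw_val, one_val]
      ext i j
      fin_cases i <;> fin_cases j <;> simp [Matrix.mul_apply, Fin.sum_univ_three]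
    · have h1 : (D * sw h2).1.1 = (sw h2 * D).1.1 := congrArg (fun x : Cfsg.SU 3 F 4 => x.1.1)
        (mem_center_iff.1 ((QuotientGroup.eq_one_iff _).1 h) D)
      rw [val_mul, val_mul, sw_val, dg_val] at h1
      have := congrFun (congrFun h1 0) 1
      simpa [Matrix.mul_apply, Fin.sum_univ_three] using this
  · rw [MulEquiv.orderOf_eq]
    refine orderOf_eq_prime ?_ fun h => hne ?_
    · rw [← map_pow, show L ^ 5 = 1 from ext' ?_, map_one]
      rw [pow_succ, pow_succ, pow_succ, sq, val_mul, val_mul, val_mul, val_mul, dg_val, one_val]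
      ext i j
      fin_cases i <;> fin_cases j <;> simp [Matrix.mul_apply, Fin.sum_univ_three]
      exacts [by linear_combination ha, by linear_combination ha, by linear_combination h3]
    · have h1 : (sw' h2 * L).1.1 = (L * sw' h2).1.1 := congrArg (fun x : Cfsg.SU 3 F 4 => x.1.1)
        (mem_center_iff.1 ((QuotientGroup.eq_one_iff _).1 h) (sw' h2))
      rw [val_mul, val_mul, sw'_val, dg_val] at h1
      have := congrFun (congrFun h1 2) 1
      simpa [Matrix.mul_apply, Fin.sum_univ_three] using this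
  · rw [← map_mul, ← map_mul, ← map_mul, ← map_mul]
    refine congrArg _ (congrArg _ (ext' ?_))
    rw [val_mul, val_mul, sw_val, dg_val]
    ext i j
    fin_cases i <;> fin_cases j <;> simp [Matrix.mul_apply, Fin.sum_univ_three]

end Cfsg.Agent.RC
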