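import Cfsg.Agent.RC.Df2
import Cfsg.Agent.RC.H1

/-! RC/ZA (S3860): a split rank one structure in odd characteristic contradicts `Hy`. -/

set_option autoImplicit false
set_option linter.unusedSectionVars false

namespace Cfsg.Agent.RC

open Subgroup

universe u

variable {G : Type u} [Group G] [Finite G]

namespace ZA

open scoped Pointwise

variable {p : ℕ}

omit [Finite G] in
theorem cmp (γ : MulAut G) (g : G) (P : Sylow p G) : γ • (g • P) = γ g • (γ • P) := by
  rw [Sylow.smul_def, Sylow.smul_def, ← mul_smul, ← mul_smul]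
  congr 1
  ext x
  simp [MulAut.conj_apply]

omit [Finite G] in
theorem mem {γ : MulAut G} {P : Sylow p G} (h : γ • P = P) {x : G} (hx : x ∈ (P : Subgroup G)) :
    γ x ∈ (P : Subgroup G) := by
  have : γ • x ∈ γ • (P : Subgroup G) := Subgroup.smul_mem_pointwise_smul x γ _ hx
  rw [← Sylow.pointwise_smul_def, h] at this
  exact this

omit [Finite G] in
theorem self {P : Sylow p G} {x : G} (hx : x ∈ (P : Subgroup G)) : x • P = P :=
  Sylow.smul_eq_iff_mem_normalizer.2 (Subgroup.le_normalizer hx)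

omit [Finite G] in
theorem fix (Z : ZS G p) {U V : Sylow p G} {x : G} (hx : x ∈ (U : Subgroup G)) (h1 : x ≠ 1)
    (hV : x • V = V) : V = U := by
  by_contra ne
  obtain ⟨u, -, hu⟩ := Z.reg U V V ne ne
  exact h1 ((hu x ⟨hx, hV⟩).trans (hu 1 ⟨one_mem _, one_smul _ _⟩).symm)

theorem odd_ord (Z : ZS G p) {U : Sylow p G} {x : G} (hx : x ∈ (U : Subgroup G)) :
    Odd (orderOf x) := by
  haveI : Fact p.Prime := ⟨Z.pp⟩
  obtain ⟨k, hk⟩ := IsPGroup.iff_orderOf.1 U.isPGroup' ⟨x, hx⟩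
  rw [← Subgroup.orderOf_coe] at hk
  change orderOf x = _ at hk
  rw [hk]
  exact (Z.pp.odd_of_ne_two Z.p2).pow

theorem ev (Z : ZS G p) : 2 ∣ Nat.card (Sylow p G) := by
  classical
  haveI : Fact p.Prime := ⟨Z.pp⟩
  obtain ⟨U, V, hUV, -⟩ := Z.tor
  have hne : ∀ u : (U : Subgroup G), (u : G) • V ≠ U := by
    intro u e
    apply hUV
    have := self ((U : Subgroup G).inv_mem u.2)
    exact this.symm.trans (inv_smul_eq_iff.2 e.symm)
  let f : ↥(U : Subgroup G) → {W : Sylow p G // W ≠ U} := fun u => ⟨u.1 • V, hne u⟩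
  have hf : Function.Bijective f := by
    constructor
    · intro a b e
      have e' : (a : G) • V = (b : G) • V := congrArg Subtype.val e
      obtain ⟨u, -, hu⟩ := Z.reg U V ((b : G) • V) hUV.symm (hne b)
      exact Subtype.ext ((hu a ⟨a.2, e'⟩).trans (hu b ⟨b.2, rfl⟩).symm)
    · rintro ⟨W, hW⟩
      obtain ⟨u, hu, -⟩ := Z.reg U V W hUV.symm hW
      exact ⟨⟨u, hu.1⟩, Subtype.ext hu.2⟩
  have c1 := Nat.card_eq_of_bijective f hf
  have c2 : Nat.card (Sylow p G) = Nat.card {W : Sylow p G // W ≠ U} + 1 := by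
    rw [← Nat.card_congr (Equiv.optionSubtypeNe U), Finite.card_option]
  obtain ⟨k, hk⟩ := IsPGroup.iff_card.1 U.isPGroup'
  have : Odd (Nat.card (U : Subgroup G)) := hk ▸ (Z.pp.odd_of_ne_two Z.p2).pow
  rw [c2, ← c1]
  exact even_iff_two_dvd.1 this.add_one

omit [Finite G] in
theorem pg {γ : MulAut G} {n : ℕ} (h : γ ^ 2 ^ n = 1) : IsPGroup 2 (zpowers γ) := by
  rintro ⟨x, k, rfl⟩
  refine ⟨n, Subtype.ext ?_⟩
  change (γ ^ k) ^ 2 ^ n = 1
  rw [← zpow_natCast, ← zpow_mul, mul_comm, zpow_mul, zpow_natCast, h, one_zpow]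

omit [Finite G] in
theorem fp {γ : MulAut G} {W : Sylow p G} :
    W ∈ MulAction.fixedPoints (zpowers γ) (Sylow p G) ↔ γ • W = W := by
  constructor
  · intro h
    exact h ⟨γ, mem_zpowers γ⟩
  · intro h x
    have : zpowers γ ≤ MulAction.stabilizer (MulAut G) W := zpowers_le.2 h
    exact this x.2

theorem other (Z : ZS G p) {γ : MulAut G} {n : ℕ} (h : γ ^ 2 ^ n = 1) {U : Sylow p G}
    (hU : γ • U = U) : ∃ V, V ≠ U ∧ γ • V = V := by
  haveI : Fact p.Prime := ⟨Z.pp⟩
  obtain ⟨V, hV, ne⟩ := (pg h).exists_fixed_point_of_prime_dvd_card_of_fixed_point (Sylow p G)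
    (ev Z) (fp.2 hU)
  exact ⟨V, ne.symm, fp.1 hV⟩

theorem caseA {Γ : Subgroup (MulAut G)} (H : Hy Γ) (Z : ZS G p) {U : Sylow p G} {u : G}
    (hu : u ∈ (U : Subgroup G)) (h1' : u ≠ 1) {α : MulAut G} (hα : α ∈ Γ) (hi : α u = u⁻¹) :
    False := by
  haveI : Fact p.Prime := ⟨Z.pp⟩
  obtain ⟨τ, -, hτ, hτu, ⟨N, hN, hn, ho, huN⟩, -⟩ := h1 H u h1' (odd_ord Z hu) α hα hi
  have t2 : τ ^ 2 ^ 1 = 1 := by rw [pow_one, ← hτ, pow_orderOf_eq_one]
  have hU : τ • U = U := by
    refine fix Z hu h1' ?_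
    have := cmp τ u U
    rw [hτu, self hu] at this
    exact this.symm
  obtain ⟨V, hVU, hV⟩ := other Z t2 hU
  have inv : ∀ g : G, τ g = g → ∀ W : Sylow p G, τ • W = W → τ • (g • W) = g • W := by
    intro g hg W hW
    rw [cmp, hg, hW]
  have mv : u • V ≠ V := fun e => hVU (fix Z hu h1' e)
  have orb : MulAction.orbit N V = MulAction.fixedPoints (zpowers τ) (Sylow p G) := by
    ext W
    rw [fp]
    constructor
    · rintro ⟨n, rfl⟩
      exact inv n (hN n.2) V hV
    · intro hW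
      by_cases e : W = V
      · exact e ▸ MulAction.mem_orbit_self _
      obtain ⟨c, ⟨hc, hcW⟩, uq⟩ := Z.reg V (u • V) W mv e
      have tc : τ c = c := by
        refine uq _ ⟨mem hV hc, ?_⟩
        have := cmp τ c (u • V)
        rw [hcW, hW, inv u hτu V hV] at this
        exact this.symm
      have hm : c * u * c⁻¹ ∈ N := (Subgroup.mem_normalizer_iff.1 (hn tc) u).1 huN
      refine ⟨⟨_, hm⟩, ?_⟩
      change (c * u * c⁻¹) • V = W
      rw [mul_smul, mul_smul, self ((V : Subgroup G).inv_mem hc), hcW]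
  have m := (pg t2).card_modEq_card_fixedPoints (Sylow p G)
  have d : Nat.card (MulAction.orbit N V) ∣ Nat.card N := by
    rw [Nat.card_coe_set_eq, ← MulAction.index_stabilizer]
    exact Subgroup.index_dvd_card _
  rw [orb] at d
  have : 2 ∣ Nat.card N := ((m.dvd_iff (dvd_refl 2)).1 (ev Z)).trans d
  exact (Nat.not_even_iff_odd.2 ho) (even_iff_two_dvd.2 this)

theorem cenU {Γ : Subgroup (MulAut G)} (H : Hy Γ) (Z : ZS G p) {U : Sylow p G} (n : ℕ) :
    ∀ γ ∈ Γ, γ ^ 2 ^ n = 1 → γ • U = U → ∀ v ∈ (U : Subgroup G), γ v = v := by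
  induction n with
  | zero =>
    intro γ _ h _ v _
    rw [pow_zero, pow_one] at h
    rw [h]; rfl
  | succ n ih =>
    intro γ hγ h hU v hv
    have h2 := ih (γ * γ) (mul_mem hγ hγ) (by rw [← pow_two, ← pow_mul, ← pow_succ', h])
      (by rw [mul_smul, hU, hU]) v hv
    by_contra ne
    refine caseA H Z (u := v⁻¹ * γ v) (mul_mem (inv_mem hv) (mem hU hv)) ?_ hγ ?_
    · intro e
      exact ne (inv_mul_eq_one.1 e).symm
    · rw [map_mul, map_inv, mul_inv_rev, inv_inv]
      exact congrArg _ h2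

theorem triv {Γ : Subgroup (MulAut G)} (H : Hy Γ) (Z : ZS G p) {U : Sylow p G} {γ : MulAut G}
    (hγ : γ ∈ Γ) {n : ℕ} (h : γ ^ 2 ^ n = 1) (hU : γ • U = U) : γ = 1 := by
  haveI := H.simp
  obtain ⟨V, hVU, hV⟩ := other Z h hU
  have all : ∀ W : Sylow p G, γ • W = W := by
    intro W
    by_cases e : W = U
    · rw [e, hU]
    obtain ⟨u, ⟨hu, rfl⟩, -⟩ := Z.reg U V W hVU e
    rw [cmp, cenU H Z n γ hγ h hU u hu, hV]
  obtain ⟨U0, -, -, hb, -⟩ := Z.tor
  have le : normalClosure ((U0 : Subgroup G) : Set G) ≤ Fx γ := by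
    refine (Subgroup.closure_le _).2 fun x hx => ?_
    obtain ⟨a, ha, hc⟩ := Group.mem_conjugatesOfSet_iff.1 hx
    obtain ⟨g, rfl⟩ := isConj_iff.1 hc
    refine cenU H Z n γ hγ h (all (g • U0)) _ ?_
    rw [Sylow.coe_subgroup_smul]
    exact Subgroup.smul_mem_pointwise_smul a (MulAut.conj g) _ ha
  rcases (inferInstance : (normalClosure ((U0 : Subgroup G) : Set G)).Normal).eq_bot_or_eq_top
    with e | e
  · exact absurd (eq_bot_iff.2 (e ▸ Subgroup.le_normalClosure)) hb
  · ext x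
    exact le (e ▸ Subgroup.mem_top x)

end ZA

theorem za {Γ : Subgroup (MulAut G)} (H : Hy Γ) {p : ℕ} (Z : ZS G p) : False := by
  haveI := H.simp
  obtain ⟨U, V, hUV, -, y, hy, hc, yU, yV, hcy⟩ := Z.tor
  have ho : Odd (orderOf y) := by
    obtain ⟨k, r, hr, e⟩ := Nat.exists_eq_two_pow_mul_odd (orderOf_pos y).ne'
    have e1 : MulAut.conj (y ^ r) = 1 := by
      refine ZA.triv H Z (U := U) (H.inn _) (n := k) ?_ ?_
      · rw [← map_pow, ← pow_mul, mul_comm, ← e, pow_orderOf_eq_one, map_one]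
      · have : y ^ r ∈ MulAction.stabilizer G U := pow_mem (show y ∈ MulAction.stabilizer G U from yU) r
        exact this
    have cz : y ^ r ∈ center G := by
      refine Subgroup.mem_center_iff.2 fun g => ?_
      have : MulAut.conj (y ^ r) g = g := by rw [e1]; rfl
      rw [MulAut.conj_apply, mul_inv_eq_iff_eq_mul] at this
      exact this.symm
    rcases (inferInstance : (center G).Normal).eq_bot_or_eq_top with eb | et
    · rw [eb] at cz
      exact hr.of_dvd_nat (orderOf_dvd_of_pow_eq_one (Subgroup.mem_bot.1 cz))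
    · exact absurd ⟨⟨fun a b => Subgroup.mem_center_iff.1 (et.ge (Subgroup.mem_top b)) a⟩⟩ H.nab
  have ni : y⁻¹ ≠ y := by
    intro e
    have : y ^ 2 = 1 := by rw [pow_two]; nth_rewrite 1 [← e]; exact inv_mul_cancel y
    have d := orderOf_dvd_of_pow_eq_one this
    rcases (Nat.dvd_prime Nat.prime_two).1 d with a | a
    · exact hy (orderOf_eq_one_iff.1 a)
    · rw [a] at ho
      exact absurd ho (by decide)
  obtain ⟨g, hg⟩ := isConj_iff.1 hc
  obtain ⟨τ, hτ, tor, ty, -, β, hβ, ⟨n, bn⟩, cm, by'⟩ := h1 H y hy ho (MulAut.conj g) (H.inn g) hg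
  have two : ∀ W : Sylow p G, y • W = W → W = U ∨ W = V := by
    intro W hW
    by_cases e : W = U
    · exact Or.inl e
    obtain ⟨u, ⟨hu, huW⟩, uq⟩ := Z.reg U V W hUV.symm e
    have a : MulAut.conj y u = u := by
      refine uq _ ⟨ZA.mem yU hu, ?_⟩
      have := ZA.cmp (MulAut.conj y) u V
      rw [huW, ← Sylow.smul_def, ← Sylow.smul_def, hW, yV] at this
      exact this.symm
    rw [MulAut.conj_apply, mul_inv_eq_iff_eq_mul] at a
    rw [hcy u hu a.symm, one_smul] at huW
    exact Or.inr huW.symm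
  have t2 : τ ^ 2 ^ 1 = 1 := by rw [pow_one, ← tor, pow_orderOf_eq_one]
  have tU : τ • U = V := by
    refine (two _ ?_).resolve_left fun e => ?_
    · have := ZA.cmp τ y U
      rw [ty, yU] at this
      exact this.symm
    · have := ZA.triv H Z hτ t2 e
      rw [this, orderOf_one] at tor
      exact absurd tor (by decide)
  have bU : β • U = U ∨ β • U = V := by
    refine two _ ?_
    have := ZA.cmp β y U
    rw [by', yU] at this
    exact (eq_inv_smul_iff.1 this)
  rcases bU with e | e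
  · have := ZA.triv H Z hβ bn e
    rw [this] at by'
    exact ni by'.symm
  · have c : Commute τ⁻¹ β := (show Commute τ β from cm.symm).inv_left
    have := ZA.triv H Z (U := U) (mul_mem (inv_mem hτ) hβ) (n := n + 1) (by
      rw [c.mul_pow, inv_pow, pow_succ 2 n, pow_mul β, bn, one_pow, mul_one, mul_comm, pow_mul,
        show τ ^ 2 = 1 from t2, one_pow, inv_one]) (by rw [mul_smul, e, ← tU, inv_smul_smul])
    rw [inv_mul_eq_one] at this
    rw [← this, ty] at by'
    exact ni by'.symm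

end Cfsg.Agent.RC
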