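import Cfsg.Agent.RC.Df2
import Cfsg.Agent.H69.PSLRankOne

/-! RC/ZB (S3860): the split rank one structure of `PSL₂(q)`, `q > 3` odd. -/

set_option autoImplicit false

namespace Cfsg.Agent.RC

open Subgroup

universe u

variable {G : Type u} [Group G] [Finite G]

namespace ZBAux

open Cfsg.Agent.H69

variable {F : Type} [Field F] {p : ℕ} [Fact p.Prime]

theorem exists_psi [Fintype F] {n : ℕ} (hn : 1 ≤ n) (hF : Fintype.card F = p ^ n)
    (e : G ≃* Matrix.ProjectiveSpecialLinearGroup (Fin 2) F) (U : Sylow p G) :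
    ∃ ψ : SL2 F →* G, Function.Surjective ψ ∧ (∀ A B, ψ A = ψ B → A = B ∨ A = -B) ∧
      ∀ x, x ∈ (U : Subgroup G) ↔ ∃ c, x = ψ (up c) := by
  obtain ⟨φ, hs, hk, hU⟩ := exists_normalized_psl U hn hF e.toMonoidHom e.surjective
  have hi : Function.Injective φ := by
    rw [← MonoidHom.ker_eq_bot_iff, hk, MonoidHom.ker_eq_bot_iff]
    exact e.injective
  let f : G ≃* PSL2 F := MulEquiv.ofBijective φ ⟨hi, hs⟩
  refine ⟨f.symm.toMonoidHom.comp (pr F), f.symm.surjective.comp pr_surjective,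
    fun A B h => pr_eq (f.symm.injective h), fun x => ?_⟩
  have : x ∈ (U : Subgroup G) ↔ φ x ∈ (upHom F).range := by
    rw [← hU, Subgroup.mem_map_iff_mem hi]
  rw [this, mem_upHom]
  refine exists_congr fun c => ?_
  change f x = _ ↔ x = f.symm (pr F (up c))
  rw [MulEquiv.eq_symm_apply]

theorem smul_iff (U : Sylow p G) (ψ : SL2 F →* G) (h1 : ∀ A B, ψ A = ψ B → A = B ∨ A = -B)
    (hU : ∀ x, x ∈ (U : Subgroup G) ↔ ∃ c, x = ψ (up c)) (A : SL2 F) :
    ψ A • U = U ↔ A.1 1 0 = 0 := by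
  rw [Sylow.smul_eq_iff_mem_normalizer]
  constructor
  · intro h
    have h2 : ψ A * ψ (up 1) * (ψ A)⁻¹ ∈ (U : Subgroup G) :=
      (Subgroup.mem_normalizer_iff.1 h _).1 ((hU _).2 ⟨1, rfl⟩)
    obtain ⟨c, hc⟩ := (hU _).1 h2
    rw [← map_inv, ← map_mul, ← map_mul] at hc
    have h3 : (A * up 1 * A⁻¹).1 1 0 = 0 := by
      rcases h1 _ _ hc with e | e <;> rw [e] <;> simp [up10]
    simp only [sl2_mul_apply, sl2_inv00, sl2_inv10, up00, up01, up10, up11] at h3
    have : A.1 1 0 ^ 2 = 0 := by linear_combination -h3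
    exact pow_eq_zero_iff (two_ne_zero) |>.1 this
  · intro h
    refine Subgroup.mem_normalizer_fintype fun x hx => ?_
    obtain ⟨c, rfl⟩ := (hU x).1 hx
    refine (hU _).2 ⟨A.1 0 0 ^ 2 * c, ?_⟩
    rw [← map_inv, ← map_mul, ← map_mul]
    congr 1
    have hd := sl2_det A
    rw [h] at hd
    apply sl2_ext <;>
      simp only [sl2_mul_apply, sl2_inv00, sl2_inv01, sl2_inv10, sl2_inv11, up00, up01, up10, up11, h]
    · linear_combination hd
    · ring
    · ring
    · linear_combination hd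

theorem smul_iff2 (U : Sylow p G) (ψ : SL2 F →* G) (h1 : ∀ A B, ψ A = ψ B → A = B ∨ A = -B)
    (hU : ∀ x, x ∈ (U : Subgroup G) ↔ ∃ c, x = ψ (up c)) (A B C : SL2 F) :
    ψ C • ψ A • U = ψ B • U ↔ (B⁻¹ * (C * A)).1 1 0 = 0 := by
  rw [← smul_iff U ψ h1 hU, map_mul, map_mul, map_inv, mul_smul, mul_smul, inv_smul_eq_iff]

end ZBAux

open ZBAux Cfsg.Agent.H69 in
theorem zb {F : Type} [Field F] [Fintype F] (h3 : 3 < Fintype.card F) (ho : Odd (Fintype.card F))
    (e : G ≃* Matrix.ProjectiveSpecialLinearGroup (Fin 2) F) : ∃ p : ℕ, ZS G p := by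
  classical
  obtain ⟨p, hp⟩ := CharP.exists F
  obtain ⟨n, hpp, hF⟩ := FiniteField.card F p
  have := Fact.mk hpp
  have hn : 1 ≤ (n : ℕ) := n.pos
  have hp2 : p ≠ 2 := by
    rintro rfl
    rw [hF] at ho
    exact (Nat.not_odd_iff_even.2 ((Nat.even_pow' (by omega)).2 even_two)) ho
  have h2 : (2 : F) ≠ 0 := by
    intro h
    have : ((2 : ℕ) : F) = 0 := by exact_mod_cast h
    rw [CharP.cast_eq_zero_iff F p] at this
    exact hp2 ((Nat.prime_dvd_prime_iff_eq hpp Nat.prime_two).1 this)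
  refine ⟨p, hpp, hp2, fun U V W hV hW => ?_, ?_⟩
  · obtain ⟨ψ, hs, h1, hU⟩ := exists_psi hn hF e U
    obtain ⟨g, rfl⟩ := MulAction.exists_smul_eq G U V
    obtain ⟨g', rfl⟩ := MulAction.exists_smul_eq G U W
    obtain ⟨A, rfl⟩ := hs g
    obtain ⟨B, rfl⟩ := hs g'
    have hA : A.1 1 0 ≠ 0 := fun h => hV ((smul_iff U ψ h1 hU A).2 h)
    have hB : B.1 1 0 ≠ 0 := fun h => hW ((smul_iff U ψ h1 hU B).2 h)
    have key : ∀ c : F, ψ (up c) • ψ A • U = ψ B • U ↔
        c = (B.1 0 0 * A.1 1 0 - B.1 1 0 * A.1 0 0) / (B.1 1 0 * A.1 1 0) := by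
      intro c
      rw [smul_iff2 U ψ h1 hU, eq_div_iff (mul_ne_zero hB hA)]
      simp only [sl2_mul_apply, sl2_inv10, sl2_inv11, up00, up01, up10, up11]
      constructor
      · intro h; linear_combination -h
      · intro h; linear_combination -h
    refine ⟨ψ (up _), ⟨(hU _).2 ⟨_, rfl⟩, (key _).2 rfl⟩, ?_⟩
    rintro u ⟨hu, h⟩
    obtain ⟨c, rfl⟩ := (hU u).1 hu
    rw [(key c).1 h]
  · obtain ⟨U⟩ : Nonempty (Sylow p G) := inferInstance
    obtain ⟨ψ, hs, h1, hU⟩ := exists_psi hn hF e U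
    obtain ⟨a, ha⟩ : ∃ a : F, a ∉ ({0, 1, -1} : Finset F) := by
      by_contra h
      push Not at h
      have h4 : (Finset.univ : Finset F) ⊆ {0, 1, -1} := fun a _ => h a
      have h5 := Finset.card_le_card h4
      have h6 : ({0, 1, -1} : Finset F).card ≤ 3 := Finset.card_le_three
      rw [Finset.card_univ] at h5
      omega
    simp only [Finset.mem_insert, Finset.mem_singleton, not_or] at ha
    obtain ⟨ha0, ha1, ha2⟩ := ha
    refine ⟨U, ψ (wn 1 one_ne_zero) • U, ?_, ?_, ψ (dg a ha0), ?_, ?_, ?_, ?_, ?_⟩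
    · intro h
      have := (smul_iff U ψ h1 hU _).1 h.symm
      simp [wn10] at this
    · intro h
      have h4 : ψ (up 1) ∈ (U : Subgroup G) := (hU _).2 ⟨1, rfl⟩
      rw [h, Subgroup.mem_bot, ← map_one ψ] at h4
      rcases h1 _ _ h4 with e | e
      · have := congrArg (fun A : SL2 F => A.1 0 1) e
        simp [up01] at this
      · have := congrArg (fun A : SL2 F => A.1 0 1) e
        simp [up01] at this
    · intro h
      rw [← map_one ψ] at h
      rcases h1 _ _ h with e | e
      · have := congrArg (fun A : SL2 F => A.1 0 0) e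
        simp only [dg00] at this
        exact ha1 (by simpa using this)
      · have := congrArg (fun A : SL2 F => A.1 0 0) e
        simp only [dg00] at this
        exact ha2 (by simpa using this)
    · refine isConj_iff.2 ⟨ψ (wn 1 one_ne_zero), ?_⟩
      rw [← map_inv, ← map_inv, ← map_mul, ← map_mul]
      congr 1
      apply sl2_ext <;>
        simp [sl2_mul_apply, sl2_inv00, sl2_inv01, sl2_inv10, sl2_inv11, wn00, wn01, wn10, wn11,
          dg00, dg01, dg10, dg11]
    · exact (smul_iff U ψ h1 hU _).2 (dg10 a ha0)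
    · rw [smul_iff2 U ψ h1 hU]
      simp [sl2_mul_apply, sl2_inv10, sl2_inv11, wn00, wn10, dg00, dg01, dg10, dg11]
    · intro u hu h
      obtain ⟨c, rfl⟩ := (hU u).1 hu
      rw [← map_mul, ← map_mul] at h
      rcases h1 _ _ h with e | e
      · have h4 := congrArg (fun A : SL2 F => A.1 0 1) e
        simp only [sl2_mul_apply, up00, up01, up11, dg00, dg01, dg11] at h4
        have h5 : c * ((a - 1) * (a + 1)) = 0 := by
          field_simp at h4
          linear_combination -h4
        have hc : c = 0 := by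
          rcases mul_eq_zero.1 h5 with h6 | h6
          · exact h6
          · rcases mul_eq_zero.1 h6 with h7 | h7
            · exact (ha1 (sub_eq_zero.1 h7)).elim
            · exact (ha2 (eq_neg_of_add_eq_zero_left h7)).elim
        rw [hc, up_zero, map_one]
      · have h4 := congrArg (fun A : SL2 F => A.1 0 0) e
        have h7 : (dg a ha0 * up c).1 0 0 = a := by
          rw [sl2_mul_apply]; simp [up00, up10, dg00, dg01]
        have h5 : (-(dg a ha0 * up c)).1 0 0 = -a := by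
          rw [Matrix.SpecialLinearGroup.coe_neg, Matrix.neg_apply, h7]
        have h6 : (up c * dg a ha0).1 0 0 = a := by
          simp [sl2_mul_apply, up00, up01, dg00, dg10]
        simp only [h5, h6] at h4
        have : (2 : F) * a = 0 := by linear_combination h4
        exact ((mul_ne_zero h2 ha0) this).elim

end Cfsg.Agent.RC
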