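import Cfsg.Agent.RC.Df2
import Cfsg.Agent.TE.Tools

/-! RC/R4c tools. -/

set_option autoImplicit false

namespace Cfsg.Agent.RC.R4cT

open Subgroup Cfsg.Agent.RC

universe u

variable {G : Type u} [Group G] [Finite G]

theorem nor_of {g : G} {A : Subgroup G} (h : ∀ a ∈ A, g * a * g⁻¹ ∈ A) : g ∈ nor A :=
  mem_normalizer_fintype h

omit [Finite G] in
theorem nor_ap {g a : G} {A : Subgroup G} (h : g ∈ nor A) (ha : a ∈ A) : g * a * g⁻¹ ∈ A :=
  (mem_normalizer_iff.1 h a).1 ha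

theorem inO_trans {y : G} {C X : Subgroup G} (h1 : C ≤ X) (h2 : X ≤ nor C) (h : InO y C) : InO y X := by
  obtain ⟨N, a1, a2, a3, a4⟩ := h
  have hc : ∀ i ∈ X, cj i N ≤ C := by
    rintro i hi _ ⟨a, ha, rfl⟩
    exact nor_ap (h2 hi) (a1 ha)
  have hn : ∀ j ∈ X, C ≤ nor (cj j N) := by
    intro j hj c hcm
    refine nor_of fun a ha => ?_
    rw [mem_cj] at ha ⊢
    have e : j⁻¹ * c * j⁻¹⁻¹ ∈ C := nor_ap (h2 (X.inv_mem hj)) hcm
    have := nor_ap (a2 e) ha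
    convert this using 1
    group
  refine ⟨⨆ i, ⨆ (_ : i ∈ X), cj i N, iSup₂_le fun i hi => (hc i hi).trans h1, ?_, ?_, ?_⟩
  · intro x hx
    refine nor_of fun a ha => ?_
    have : (⨆ i, ⨆ (_ : i ∈ X), cj i N) ≤ cj x⁻¹ (⨆ i, ⨆ (_ : i ∈ X), cj i N) := by
      refine iSup₂_le fun i hi b hb => ?_
      rw [mem_cj]
      refine le_iSup₂_of_le (f := fun i (_ : i ∈ X) => cj i N) (x * i) (X.mul_mem hx hi) le_rfl ?_
      rw [mem_cj] at hb ⊢
      convert hb using 1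
      group
    have := mem_cj.1 (this ha)
    simpa using this
  · refine TE.odd_iSup (p := fun i => i ∈ X) (X := fun i => cj i N) (fun i _ => ?_)
      (fun i j hi hj => (hc i hi).trans (hn j hj))
    rw [card_map_of_injective (MulAut.conj i).injective]
    exact a3
  · refine le_iSup₂_of_le (f := fun i (_ : i ∈ X) => cj i N) 1 X.one_mem le_rfl ?_
    rw [mem_cj]
    simpa using a4

theorem two_pow (x : G) : ∃ m : ℕ, Odd m ∧ Two (x ^ m) := by
  obtain ⟨n, m, hm, e⟩ := Nat.exists_eq_two_pow_mul_odd (orderOf_pos x).ne'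
  exact ⟨m, hm, n, by rw [← pow_mul, mul_comm, ← e, pow_orderOf_eq_one]⟩

theorem odd_pow (x : G) : ∃ n : ℕ, Odd (orderOf (x ^ 2 ^ n)) := by
  obtain ⟨n, m, hm, e⟩ := Nat.exists_eq_two_pow_mul_odd (orderOf_pos x).ne'
  refine ⟨n, Odd.of_dvd_nat hm (orderOf_dvd_of_pow_eq_one ?_)⟩
  rw [← pow_mul, ← e, pow_orderOf_eq_one]

theorem odd_lift {H : Type u} [Group H] (f : G →* H) {y : H} (hy : Odd (orderOf y)) {x : G} (hx : f x = y) :
    ∃ z : G, Odd (orderOf z) ∧ f z = y := by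
  obtain ⟨n, hn⟩ := odd_pow x
  have hc : (2 ^ n).Coprime (orderOf y) := (Nat.coprime_two_left.2 hy).pow_left n
  obtain ⟨m, hm⟩ := exists_pow_eq_self_of_coprime hc
  refine ⟨(x ^ 2 ^ n) ^ m, Odd.of_dvd_nat hn (orderOf_pow_dvd m), ?_⟩
  rw [map_pow, map_pow, hx, hm]

omit [Finite G] in
theorem dih {H : Type u} [Group H] {a b : H} (ha : a * a = 1) (hb : b * b = 1) {m : ℕ} (hm : Odd m)
    (h : (a * b) ^ m = 1) : ∃ j : ℕ, (a * b) ^ j * b * ((a * b) ^ j)⁻¹ = a := by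
  obtain ⟨k, rfl⟩ := hm
  have ia : a⁻¹ = a := inv_eq_of_mul_eq_one_right ha
  have ib : b⁻¹ = b := inv_eq_of_mul_eq_one_right hb
  have e : b * (a * b)⁻¹ * b⁻¹ = a * b := by
    rw [mul_inv_rev, ia, ib, ← mul_assoc, hb, one_mul]
  have e2 : b * ((a * b) ^ (k + 1))⁻¹ * b⁻¹ = (a * b) ^ (k + 1) := by
    rw [← inv_pow, ← conj_pow, e]
  refine ⟨k + 1, ?_⟩
  calc (a * b) ^ (k + 1) * b * ((a * b) ^ (k + 1))⁻¹
      = (a * b) ^ (k + 1) * (b * ((a * b) ^ (k + 1))⁻¹ * b⁻¹) * b := by group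
    _ = (a * b) ^ (2 * k + 1) * (a * b) * b := by
      rw [e2, ← pow_add, ← pow_succ, show k + 1 + (k + 1) = 2 * k + 1 + 1 by ring]
    _ = a := by rw [h, one_mul, mul_assoc, hb, mul_one]

theorem odd_card {X : Subgroup G} (h : ∀ x ∈ X, Odd (orderOf x)) : Odd (Nat.card X) := by
  refine TE.odd_of_no_iv fun x hx e => ?_
  have h2 : orderOf x ∣ 2 := orderOf_dvd_of_pow_eq_one (by rw [pow_two, e])
  rcases (Nat.dvd_prime Nat.prime_two).1 h2 with q | q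
  · exact orderOf_eq_one_iff.1 q
  · have := h x hx
    rw [q] at this
    exact absurd this (by decide)

/-- central elements of odd order are trivial -/
theorem cen_odd {D K : Subgroup G} (h : Cp D K) {z : G} (h1 : z ∈ K) (h2 : z ∈ Cs K) (h3 : Odd (orderOf z)) :
    z = 1 := by
  haveI := h.kn
  let N : Subgroup G :=
    { carrier := {x | x ∈ K ∧ x ∈ Cs K ∧ Odd (orderOf x)}
      one_mem' := ⟨K.one_mem, one_mem _, by simp⟩
      inv_mem' := fun {a} ha => ⟨K.inv_mem ha.1, inv_mem ha.2.1, by simpa using ha.2.2⟩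
      mul_mem' := fun {a b} ha hb => ⟨K.mul_mem ha.1 hb.1, mul_mem ha.2.1 hb.2.1,
        Odd.of_dvd_nat (ha.2.2.mul hb.2.2) (Commute.orderOf_mul_dvd_mul_orderOf (hb.2.1 a ha.1))⟩ }
  refine h.o1 z ⟨N, fun x hx => h.kc hx.1, fun g _ => nor_of fun a ha => ⟨h.kn.conj_mem a ha.1 g,
    (inferInstance : (Cs K).Normal).conj_mem a ha.2.1 g, ?_⟩, odd_card fun x hx => hx.2.2, h1, h2, h3⟩
  have : orderOf (g * a * g⁻¹) = orderOf a := MulEquiv.orderOf_eq (MulAut.conj g) a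
  rw [this]
  exact ha.2.2

end Cfsg.Agent.RC.R4cT
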