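import Cfsg.Agent.RC.R4cA

/-! RC/R4c: the action on the central quotient. -/

set_option autoImplicit false

namespace Cfsg.Agent.RC.R4cT

open Subgroup Cfsg.Agent.RC
open scoped commutatorElement

universe u

variable {G : Type u} [Group G]

theorem map_cen (K : Subgroup G) (e : MulAut K) : (center K).map (e : K →* K) = center K := by
  have := (characteristic_iff_map_eq.1 (inferInstance : (center K).Characteristic)) e
  exact this

/-- the action on `K / Z(K)` -/
def ph (K : Subgroup G) [K.Normal] : G →* MulAut (K ⧸ center K) where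
  toFun g := QuotientGroup.congr (center K) (center K) (MulAut.conjNormal g) (map_cen K _)
  map_one' := by
    ext x
    obtain ⟨k, rfl⟩ := QuotientGroup.mk_surjective x
    show ((MulAut.conjNormal (1 : G) k : K) : K ⧸ center K) = k
    rw [map_one, MulAut.one_apply]
  map_mul' a b := by
    ext x
    obtain ⟨k, rfl⟩ := QuotientGroup.mk_surjective x
    show ((MulAut.conjNormal (a * b) k : K) : K ⧸ center K) =
      ((MulAut.conjNormal a (MulAut.conjNormal b k) : K) : K ⧸ center K)
    rw [map_mul, MulAut.mul_apply]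

theorem ph_mk (K : Subgroup G) [K.Normal] (g : G) (k : K) :
    ph K g (k : K ⧸ center K) = ((MulAut.conjNormal g k : K) : K ⧸ center K) := rfl

theorem cen_iff {K : Subgroup G} {z : K} : z ∈ center K ↔ (z : G) ∈ Cs K := by
  rw [mem_center_iff, mem_centralizer_iff]
  exact ⟨fun h g hg => congrArg Subtype.val (h ⟨g, hg⟩), fun h g => Subtype.ext (h g g.2)⟩

theorem comm_cen {H : Type u} [Group H] {a b z w : H} (hz : z ∈ center H) (hw : w ∈ center H) :
    ⁅a * z, b * w⁆ = ⁅a, b⁆ := by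
  rw [mem_center_iff] at hz hw
  have e1 : a * z * (b * w) * (a * z)⁻¹ = a * (b * w) * a⁻¹ := by
    rw [mul_assoc a z, ← hz (b * w)]
    group
  have e2 : a * (b * w) * a⁻¹ = a * b * a⁻¹ * w := by
    rw [mul_assoc (a * b), hw a⁻¹]
    group
  rw [commutatorElement_def, commutatorElement_def, e1, e2]
  group

theorem ph_one {K : Subgroup G} [K.Normal] (hp : ⁅K, K⁆ = K) {g : G} : ph K g = 1 ↔ g ∈ Cs K := by
  constructor
  · intro h
    have key : ∀ a : K, ∃ z ∈ center K, MulAut.conjNormal g a = a * z := by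
      intro a
      have : ((a : K) : K ⧸ center K) = ((MulAut.conjNormal g a : K) : K ⧸ center K) := by
        rw [← ph_mk, h, MulAut.one_apply]
      exact ⟨_, QuotientGroup.eq.1 this, by group⟩
    have : ⁅K, K⁆ ≤ cen g := by
      refine commutator_le.2 fun a ha b hb => ?_
      obtain ⟨z, hz, e1⟩ := key ⟨a, ha⟩
      obtain ⟨w, hw, e2⟩ := key ⟨b, hb⟩
      have e : MulAut.conjNormal g ⁅(⟨a, ha⟩ : K), ⟨b, hb⟩⁆ = ⁅(⟨a, ha⟩ : K), ⟨b, hb⟩⁆ := by
        rw [map_commutatorElement, e1, e2, comm_cen hz hw]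
      have e' : g * ⁅a, b⁆ * g⁻¹ = ⁅a, b⁆ := congrArg Subtype.val e
      rw [mem_cen]
      exact (mul_inv_eq_iff_eq_mul.1 e').symm
    rw [hp] at this
    exact fun k hk => mem_cen.1 (this hk)
  · intro h
    ext x
    obtain ⟨k, rfl⟩ := QuotientGroup.mk_surjective x
    rw [ph_mk, MulAut.one_apply]
    congr 1
    apply Subtype.ext
    rw [MulAut.conjNormal_apply, ← h k k.2, mul_inv_cancel_right]

variable [Finite G]

theorem lift_uq {D K : Subgroup G} (h : Cp D K) {a b : K} (ha : Odd (orderOf a)) (hb : Odd (orderOf b))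
    (e : (a : K ⧸ center K) = b) : a = b := by
  have hz := QuotientGroup.eq.1 e
  have c : Commute a⁻¹ b := by
    have := mem_center_iff.1 hz a
    have e2 : b * a⁻¹ = a⁻¹ * b := by
      calc b * a⁻¹ = (a * (a⁻¹ * b)) * a⁻¹ := by group
        _ = a⁻¹ * b := by rw [this]; group
    exact e2.symm
  have ho : Odd (orderOf (a⁻¹ * b)) :=
    Odd.of_dvd_nat (Odd.mul (by rw [orderOf_inv]; exact ha) hb) c.orderOf_mul_dvd_mul_orderOf
  have := cen_odd h (a⁻¹ * b).2 (cen_iff.1 hz) (by rw [orderOf_coe]; exact ho)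
  exact inv_mul_eq_one.1 (Subtype.ext this)

theorem lift_ex (K : Subgroup G) {y : K ⧸ center K} (hy : Odd (orderOf y)) :
    ∃ z : K, Odd (orderOf z) ∧ (z : K ⧸ center K) = y := by
  obtain ⟨k, hk⟩ := QuotientGroup.mk_surjective y
  exact odd_lift (QuotientGroup.mk' (center K)) hy hk

/-- the real element can be taken in the normaliser -/
theorem frat {D K : Subgroup G} [K.Normal] (h : Cp D K) {u g : G} (hu : Two u) (h2 : ph K u * ph K u = 1)
    (hg : ph K g * ph K u = ph K u * ph K g) :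
    ∃ w ∈ Cs K, w * g ∈ nor (D ⊔ zpowers u) := by
  haveI := h.nrm
  have sq : u * u ∈ D := by
    refine h.syl _ ((ph_one h.perf).1 (by rw [map_mul, h2])) ?_
    obtain ⟨n, hn⟩ := hu
    exact ⟨n, by rw [← pow_two, ← pow_mul, mul_comm, pow_mul, hn, one_pow]⟩
  have hw : u * (g * u * g⁻¹) ∈ Cs K := by
    refine (ph_one h.perf).1 ?_
    rw [map_mul, map_mul, map_mul, hg, map_inv, mul_inv_cancel_right, h2]
  obtain ⟨m, hm, tm⟩ := two_pow (u * (g * u * g⁻¹))
  have hD := h.syl _ (pow_mem hw m) tm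
  have a1 : (u : G ⧸ D) * u = 1 := by
    rw [← QuotientGroup.mk_mul, QuotientGroup.eq_one_iff]
    exact sq
  have a2 : ((g * u * g⁻¹ : G) : G ⧸ D) * ((g * u * g⁻¹ : G) : G ⧸ D) = 1 := by
    rw [← QuotientGroup.mk_mul, QuotientGroup.eq_one_iff]
    have := h.nrm.conj_mem _ sq g
    convert this using 1
    group
  obtain ⟨j, hj⟩ := dih a1 a2 hm (by
    rw [← QuotientGroup.mk_mul, ← QuotientGroup.mk_pow, QuotientGroup.eq_one_iff]
    exact hD)
  refine ⟨_, pow_mem hw j, ?_⟩
  set w := (u * (g * u * g⁻¹)) ^ j with hwd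
  have e : ((w * g * u * (w * g)⁻¹ : G) : G ⧸ D) = u := by
    rw [← hj, ← QuotientGroup.mk_mul, ← QuotientGroup.mk_pow, ← hwd, ← QuotientGroup.mk_inv,
      ← QuotientGroup.mk_mul, ← QuotientGroup.mk_mul]
    congr 1
    group
  have e2 := QuotientGroup.eq.1 e.symm
  have e3 : w * g * u * (w * g)⁻¹ ∈ D ⊔ zpowers u := by
    have := mul_mem (mem_sup_right (S := D) (mem_zpowers u)) (mem_sup_left (T := zpowers u) e2)
    rwa [mul_inv_cancel_left] at this
  have : D ⊔ zpowers u ≤ cj (w * g)⁻¹ (D ⊔ zpowers u) := by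
    refine sup_le (fun d hd => ?_) (zpowers_le.2 ?_)
    · rw [mem_cj, inv_inv]
      exact mem_sup_left (h.nrm.conj_mem d hd _)
    · rw [mem_cj, inv_inv]
      exact e3
  refine nor_of fun a ha => ?_
  have := mem_cj.1 (this ha)
  rwa [inv_inv] at this

end Cfsg.Agent.RC.R4cT
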